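import Cfsg.Agent.Lib.Involutions.QuasiDihedral
import Cfsg.Agent.Lib.Involutions.ThompsonTransfer
import Cfsg.Agent.Lib.Involutions.BrauerFowler

/-!
# Quasi-dihedral groups: involutions
-/

set_option autoImplicit false
set_option linter.style.haveILetI false

namespace Cfsg.Agent.Perm.CubicInsoluble.SDFacts

open Subgroup

variable {S : Type*} [Group S] [Finite S]

/-- The involutions: a central one and one further class; a cyclic subgroup of index two contains
only the central one. -/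
theorem involutions (hS : Cfsg.IsQuasiDihedral S) :
    ∃ (z : S) (M : Subgroup S), orderOf z = 2 ∧ (∀ s, s * z = z * s) ∧ M.index = 2 ∧
      (∀ a ∈ M, orderOf a = 2 → a = z) ∧
      (∀ a, orderOf a = 2 → a ≠ z → ¬ ∀ s, s * a = a * s) ∧
      (∀ a b, orderOf a = 2 → orderOf b = 2 → a ≠ z → b ≠ z → IsConj a b) := by
  obtain ⟨D⟩ := Cfsg.Agent.Involutions.QuasiDihedral.exists_gens hS
  have hz : ∀ s, s * D.z = D.z * s := by
    intro s
    rcases D.forms s with ⟨i, rfl⟩ | ⟨i, rfl⟩
    · exact D.P_comm i D.h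
    · exact ((D.commute_P_q (k := D.h) (i := i)).2 (Or.inr rfl)).symm.eq
  refine ⟨D.z, zpowers D.x, D.orderOf_z, hz, D.index_zpowers, fun a ha h2 => ?_, fun a h2 hne hc => ?_,
    fun a b ha hb han hbn => ?_⟩
  · rcases D.eq_of_orderOf_two h2 with h | ⟨i, -, rfl⟩
    · exact h
    · obtain ⟨j, hj⟩ := D.exists_eq_P ha
      exact absurd hj.symm (D.P_ne_q j i)
  · obtain ⟨i, -, rfl⟩ := (D.eq_of_orderOf_two h2).resolve_left hne
    rcases (D.commute_P_q (k := 1) (i := i)).1 (hc (D.P 1)) with h | h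
    · exact D.not_even_one (h ▸ ⟨0, by simp⟩)
    · exact D.not_even_one (h ▸ D.even_h)
  · obtain ⟨i, hi, rfl⟩ := (D.eq_of_orderOf_two ha).resolve_left han
    obtain ⟨j, hj, rfl⟩ := (D.eq_of_orderOf_two hb).resolve_left hbn
    obtain ⟨k, hk⟩ := D.exists_one_sub_r_mul (hj.sub hi)
    exact isConj_iff.2 ⟨D.P k, by rw [D.conj_P_q, hk, add_sub_cancel]⟩

theorem card_ge (hS : Cfsg.IsQuasiDihedral S) : 16 ≤ Nat.card S := by
  obtain ⟨n, hn, hc, -⟩ := hS
  rw [hc]
  calc 16 = 2 ^ (3 + 1) := rfl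
    _ ≤ 2 ^ (n + 1) := Nat.pow_le_pow_right two_pos (by omega)

theorem congr {T : Type*} [Group T] (e : S ≃* T) (hS : Cfsg.IsQuasiDihedral S) :
    Cfsg.IsQuasiDihedral T := by
  obtain ⟨n, hn, hc, x, y, hx, hy, hxy⟩ := hS
  exact ⟨n, hn, by rw [← Nat.card_congr e.toEquiv, hc], e x, e y, by rw [MulEquiv.orderOf_eq, hx],
    by rw [MulEquiv.orderOf_eq, hy], by rw [← map_inv, ← map_mul, ← map_mul, hxy, map_pow]⟩

/-- In a simple group with quasi-dihedral Sylow `2`-subgroups the involutions are conjugate. -/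
theorem all_conj {G : Type*} [Group G] [Finite G] [IsSimpleGroup G] (S : Sylow 2 G)
    (hS : Cfsg.IsQuasiDihedral (S : Subgroup G)) :
    (∀ H : Subgroup G, H.index ≠ 2) ∧ ∀ a b : G, orderOf a = 2 → orderOf b = 2 → IsConj a b := by
  have h2 : 2 < Nat.card G := lt_of_lt_of_le (lt_of_lt_of_le (by norm_num) (card_ge hS))
    (Nat.le_of_dvd Nat.card_pos (card_subgroup_dvd_card _))
  have hidx := Involutions.BrauerFowler.no_index_two h2
  obtain ⟨z, M, -, -, hM, hMz, -, -⟩ := involutions hS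
  have hle : M.map (S : Subgroup G).subtype ≤ S := map_subtype_le M
  have hrel : (M.map (S : Subgroup G).subtype).relIndex (S : Subgroup G) = 2 := by
    rw [relIndex, subgroupOf, comap_map_eq_self_of_injective (subtype_injective _), hM]
  have key : ∀ a : G, orderOf a = 2 → IsConj a (z : G) := by
    intro a ha
    obtain ⟨g, hg⟩ := Involutions.ThompsonTransfer.exists_conj_mem hidx S _ hle hrel a ha
    obtain ⟨m, hm, hmg⟩ := hg
    have hm2 : orderOf m = 2 := by
      rw [← orderOf_coe, show (m : G) = g * a * g⁻¹ from hmg]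
      exact (orderOf_injective (MulAut.conj g).toMonoidHom (MulAut.conj g).injective a).trans ha
    exact isConj_iff.2 ⟨g, by rw [← hMz m hm hm2]; exact hmg.symm⟩
  exact ⟨hidx, fun a b ha hb => (key a ha).trans (key b hb).symm⟩

end Cfsg.Agent.Perm.CubicInsoluble.SDFacts
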