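import Cfsg.Agent.S3685
import Cfsg.Agent.Lib.Classical.SmallIso

/-!
# A point stabilizer with a suborbit of length three, as an abstract subgroup
-/

set_option autoImplicit false
set_option linter.style.haveILetI false
set_option linter.unusedSectionVars false

namespace Cfsg.Agent.Perm.CubicInsoluble.Basic

open Subgroup
open scoped Pointwise

variable {G Ω : Type*} [Group G] [Finite G] [MulAction G Ω] [FaithfulSMul G Ω]

/-- The subgroup data of a primitive group with a suborbit of length three. -/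
theorem facts (hprim : MulAction.IsPreprimitive G Ω) (a b : Ω)
    (h3 : Nat.card (MulAction.orbit (MulAction.stabilizer G a) b) = 3) :
    IsCoatom (MulAction.stabilizer G a) ∧ (MulAction.stabilizer G a).normalCore = ⊥ ∧
      ∃ g : G, g ∉ MulAction.stabilizer G a ∧
        3 * Nat.card (MulAction.stabilizer G a ⊓ (MulAction.stabilizer G a).map
          (MulAut.conj g).toMonoidHom : Subgroup G) = Nat.card (MulAction.stabilizer G a) := by
  classical
  haveI := hprim
  haveI : Finite Ω := Finite.of_surjective (fun g : G => g • a) fun x => MulAction.exists_smul_eq G a x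
  have hab : a ≠ b := by
    intro h
    subst h
    have : MulAction.orbit (MulAction.stabilizer G a) a = {a} :=
      Set.ext fun u => ⟨fun ⟨k, hk⟩ => by rw [Set.mem_singleton_iff, ← hk]; exact k.2,
        fun hu => by rw [Set.mem_singleton_iff.1 hu]; exact MulAction.mem_orbit_self a⟩
    rw [this] at h3
    simp at h3
  haveI : Nontrivial Ω := ⟨a, b, hab⟩
  refine ⟨(MulAction.isCoatom_stabilizer_iff_preprimitive (G := G) a).2 hprim, ?_, ?_⟩
  · rw [eq_bot_iff]
    intro k hk
    refine mem_bot.2 (FaithfulSMul.eq_of_smul_eq_smul fun x : Ω => ?_)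
    obtain ⟨g, rfl⟩ := MulAction.exists_smul_eq G a x
    have h1 := normalCore_le _ ((normalCore_normal _).conj_mem k hk g⁻¹)
    rw [inv_inv, MulAction.mem_stabilizer_iff, mul_smul, mul_smul, inv_smul_eq_iff] at h1
    rw [one_smul, h1]
  · obtain ⟨g, hg⟩ := MulAction.exists_smul_eq G a b
    refine ⟨g, fun h => hab (((MulAction.mem_stabilizer_iff.1 h).symm.trans hg)), ?_⟩
    have hs : (MulAction.stabilizer G a).map (MulAut.conj g).toMonoidHom = MulAction.stabilizer G b := by
      rw [← hg, MulAction.stabilizer_smul_eq_stabilizer_map_conj]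
    rw [hs]
    have h1 : Nat.card (MulAction.stabilizer (MulAction.stabilizer G a) b) * 3 =
        Nat.card (MulAction.stabilizer G a) := by
      rw [← h3, Nat.card_congr (MulAction.orbitEquivQuotientStabilizer _ b),
        ← Subgroup.index_eq_card, Subgroup.card_mul_index]
    have h2 : Nat.card (MulAction.stabilizer (MulAction.stabilizer G a) b) =
        Nat.card (MulAction.stabilizer G a ⊓ MulAction.stabilizer G b : Subgroup G) :=
      Nat.card_congr
        { toFun := fun x => ⟨x.1.1, x.1.2, x.2⟩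
          invFun := fun x => ⟨⟨x.1, x.2.1⟩, x.2.2⟩
          left_inv := fun _ => rfl
          right_inv := fun _ => rfl }
    rw [← h2, mul_comm, h1]

/-- A conjugating element normalizing the intersection, for a `2`-group intersection. -/
theorem exists_normalizing {H : Subgroup G} {n : ℕ} {g : G} (hgH : g ∉ H)
    (hK : Nat.card (H ⊓ H.map (MulAut.conj g).toMonoidHom : Subgroup G) = 2 ^ n)
    (h2 : ¬ 2 ^ (n + 1) ∣ Nat.card H) (hN : normalizer (H : Set G) ≤ H) :
    ∃ k : G, k ∉ H ∧ ∀ x ∈ H ⊓ H.map (MulAut.conj g).toMonoidHom,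
      k * x * k⁻¹ ∈ H ⊓ H.map (MulAut.conj g).toMonoidHom := by
  classical
  haveI : Fact (Nat.Prime 2) := ⟨Nat.prime_two⟩
  set H' := H.map (MulAut.conj g).toMonoidHom with hH'
  set K := H ⊓ H' with hKdef
  have hH'c : Nat.card H' = Nat.card H := card_map_of_injective (MulAut.conj g).injective
  have hKg : K.map (MulAut.conj g).toMonoidHom ≤ H' := map_mono inf_le_left
  have hv : (Nat.card H).factorization 2 = n := by
    refine le_antisymm ?_ ?_
    · by_contra h
      push Not at h
      exact h2 ((Nat.prime_two.pow_dvd_iff_le_factorization Nat.card_pos.ne').2 h)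
    · exact (Nat.prime_two.pow_dvd_iff_le_factorization Nat.card_pos.ne').1
        (hK ▸ card_dvd_of_le inf_le_left)
  let P1 : Sylow 2 H' := Sylow.ofCard (K.subgroupOf H') (by
    rw [Nat.card_congr (subgroupOfEquivOfLe inf_le_right).toEquiv, hK, hH'c, hv])
  let P2 : Sylow 2 H' := Sylow.ofCard ((K.map (MulAut.conj g).toMonoidHom).subgroupOf H') (by
    rw [Nat.card_congr (subgroupOfEquivOfLe hKg).toEquiv,
      card_map_of_injective (MulAut.conj g).injective, hK, hH'c, hv])
  obtain ⟨h, hh⟩ := MulAction.exists_smul_eq H' P2 P1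
  refine ⟨h * g, fun hmem => ?_, fun x hx => ?_⟩
  · -- otherwise `H` is normalized by `g`
    apply hgH
    refine hN (mem_normalizer_fintype fun y hy => ?_)
    have h1 : g * y * g⁻¹ ∈ H' := ⟨y, hy, rfl⟩
    obtain ⟨y₀, hy₀, hy₀e⟩ : (h : G)⁻¹ * (g * y * g⁻¹) * h ∈ H' := mul_mem (mul_mem (inv_mem h.2) h1) h.2
    have e : (h : G) * g * y₀ * ((h : G) * g)⁻¹ = g * y * g⁻¹ := by
      have e1 : g * y₀ * g⁻¹ = (h : G)⁻¹ * (g * y * g⁻¹) * h := hy₀e
      calc (h : G) * g * y₀ * ((h : G) * g)⁻¹ = h * (g * y₀ * g⁻¹) * (h : G)⁻¹ := by group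
        _ = _ := by rw [e1]; group
    rw [SetLike.mem_coe, ← e]
    exact mul_mem (mul_mem hmem hy₀) (inv_mem hmem)
  · have hx' : (⟨g * x * g⁻¹, hKg ⟨x, hx, rfl⟩⟩ : H') ∈ P2 := by
      change g * x * g⁻¹ ∈ K.map (MulAut.conj g).toMonoidHom
      exact ⟨x, hx, rfl⟩
    have : h * (⟨g * x * g⁻¹, hKg ⟨x, hx, rfl⟩⟩ : H') * h⁻¹ ∈ P1 := by
      rw [← hh]
      exact ⟨_, hx', rfl⟩
    have h2' : (h : G) * (g * x * g⁻¹) * (h : G)⁻¹ ∈ K := this
    rwa [show (h : G) * g * x * ((h : G) * g)⁻¹ = h * (g * x * g⁻¹) * (h : G)⁻¹ by group]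

/-- A field of prime order is the prime field. -/
theorem psl_zmod {X : Type*} [Group X] {n : ℕ} {F : Type} [Field F] [Fintype F] {p : ℕ} (hp : p.Prime)
    (hF : Fintype.card F = p) (e : X ≃* Matrix.ProjectiveSpecialLinearGroup (Fin n) F) :
    Nonempty (X ≃* Matrix.ProjectiveSpecialLinearGroup (Fin n) (ZMod p)) :=
  ⟨e.trans (Classical.SmallIso.pslCongr (ZMod.ringEquivOfPrime F hp hF).symm)⟩

end Cfsg.Agent.Perm.CubicInsoluble.Basic
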