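import Cfsg.Agent.Lib.Perm.CubicInsoluble.InvAut
import Cfsg.Agent.Lib.Perm.CubicInsoluble.SDFacts
import Cfsg.Agent.Lib.GLTwoThree.Core.Fibre
import Cfsg.Agent.Lib.GLTwoThree.Simple
import Cfsg.Agent.Lib.Classical.GL2
import Cfsg.Agent.Lib.Cores.Basic
import Cfsg.Agent.InvChar.Octahedral
import Cfsg.Agent.S1240
import Cfsg.Agent.S1194
import Cfsg.Agent.S0268
import Cfsg.Agent.Lib.GW.OvergroupsFact

/-!
# An involution centralizer with a self-centralizing four group

In a simple group with quasi-dihedral Sylow `2`-subgroups and two commuting involutions whose common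
centralizer is the four group they generate, an involution centralizer is `GL(2, 3)` up to its odd
core, which is centralized by the elements of determinant one and inverted by the others.
-/

set_option autoImplicit false
set_option linter.style.haveILetI false
set_option linter.unusedSectionVars false

namespace Cfsg.Agent.Perm.CubicInsoluble.CoreSetup

open Subgroup
open scoped Pointwise commutatorElement

universe u

/-- Two commuting involutions whose common centralizer is the group they generate. -/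
structure Four {G : Type u} [Group G] (z w : G) : Prop where
  hz : orderOf z = 2
  hw : orderOf w = 2
  hne : z ≠ w
  comm : Commute z w
  cent : ∀ c : G, Commute c z → Commute c w → c = 1 ∨ c = z ∨ c = w ∨ c = z * w

variable {G : Type u} [Group G] [Finite G]

theorem sq_of_order_two {X : Type*} [Group X] {a : X} (h : orderOf a = 2) : a * a = 1 := by
  rw [← pow_two, ← h, pow_orderOf_eq_one]

/-- The matrices of determinant one and exponent dividing four form a non-abelian subgroup. -/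
theorem sl_quat : (∀ a b c d a' b' c' d' : ZMod 3, a * d - b * c = 1 → a' * d' - b' * c' = 1 →
      (!![a, b; c, d] : GLTwoThree.M23) ^ 4 = 1 → (!![a', b'; c', d'] : GLTwoThree.M23) ^ 4 = 1 →
      ((!![a, b; c, d] : GLTwoThree.M23) * !![a', b'; c', d']) ^ 4 = 1) ∧
    (!![0, 2; 1, 0] : GLTwoThree.M23) ^ 4 = 1 ∧ (!![1, 1; 1, 2] : GLTwoThree.M23) ^ 4 = 1 ∧
    (!![0, 2; 1, 0] : GLTwoThree.M23) * !![1, 1; 1, 2] ≠ !![1, 1; 1, 2] * !![0, 2; 1, 0] := by
  refine ⟨?_, by decide +kernel, by decide +kernel, by decide +kernel⟩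
  decide +kernel

theorem mat_dets : (!![0, 2; 1, 0] : GLTwoThree.M23).det = 1 ∧
    (!![1, 1; 1, 2] : GLTwoThree.M23).det = 1 ∧ GLTwoThree.T.val.det = 1 ∧
    (-1 : ZMod 3) ≠ 1 ∧ (-1 : ZMod 3) * -1 = 1 := by
  simp only [Matrix.det_fin_two]
  decide +kernel

theorem det_invol {x : GLTwoThree.GL23} (h1 : x * x = 1) (hne : x ≠ 1) (hT : x ≠ GLTwoThree.T) :
    x.val.det ≠ 1 := by
  obtain ⟨k, hk⟩ := ((GLTwoThree.involution_cases h1).resolve_left hne).resolve_left hT
  have e := congrArg (fun g : GLTwoThree.GL23 => g.val.det) hk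
  simp only [Units.val_mul, Matrix.det_mul] at e
  intro hd
  rw [hd, one_mul] at e
  have hW : GLTwoThree.W.val.det ≠ 1 := by
    rw [Matrix.det_fin_two]; decide +kernel
  exact hW (mul_left_cancel₀ ((Matrix.isUnit_iff_isUnit_det _).1 k.isUnit).ne_zero (by rw [e, mul_one]))

theorem det_cases (g : GLTwoThree.GL23) : g.val.det = 1 ∨ g.val.det = -1 := by
  have h := ((Matrix.isUnit_iff_isUnit_det _).1 g.isUnit).ne_zero
  revert h
  generalize g.val.det = d
  revert d
  decide

set_option maxHeartbeats 1600000 in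
theorem exists_covered [IsSimpleGroup G] (S₀ : Sylow 2 G)
    (hS₀ : Cfsg.IsQuasiDihedral (S₀ : Subgroup G)) {z w : G} (V : Four z w) :
    ∃ π : centralizer ({z} : Set G) →* GLTwoThree.GL23, GLTwoThree.Core.Covered z π ∧
      π.ker = Cfsg.oddCore (centralizer ({z} : Set G)) ∧
      (π ⟨w, mem_centralizer_singleton_iff.2 V.comm.symm.eq⟩).val.det ≠ 1 := by
  classical
  haveI : Fact (Nat.Prime 2) := ⟨Nat.prime_two⟩
  obtain ⟨hidx, hone⟩ := SDFacts.all_conj S₀ hS₀
  set C := centralizer ({z} : Set G) with hC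
  haveI hOn : (Cfsg.oddCore C).Normal := Cores.pPrimeCore_normal 2
  have hOodd : Odd (Nat.card (Cfsg.oddCore C)) := Cores.oddCore_odd
  set q := QuotientGroup.mk' (Cfsg.oddCore C) with hq
  have hqs := QuotientGroup.mk'_surjective (Cfsg.oddCore C)
  set zC : C := ⟨z, mem_centralizer_singleton_iff.2 rfl⟩ with hzC
  set wC : C := ⟨w, mem_centralizer_singleton_iff.2 V.comm.symm.eq⟩ with hwC
  have hzcent : ∀ c : C, c * zC = zC * c := fun c => Subtype.ext (mem_centralizer_singleton_iff.1 c.2)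
  have hzC2 : orderOf zC = 2 := by rw [← orderOf_coe]; exact V.hz
  have hwC2 : orderOf wC = 2 := by rw [← orderOf_coe]; exact V.hw
  have hw2 : wC * wC = 1 := sq_of_order_two hwC2
  have hcentC : ∀ c : C, c * wC = wC * c → c = 1 ∨ c = zC ∨ c = wC ∨ c = zC * wC := by
    intro c hc
    rcases V.cent c (mem_centralizer_singleton_iff.1 c.2) (congrArg Subtype.val hc) with h | h | h | h
    · exact Or.inl (Subtype.ext h)
    · exact Or.inr (Or.inl (Subtype.ext h))
    · exact Or.inr (Or.inr (Or.inl (Subtype.ext h)))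
    · exact Or.inr (Or.inr (Or.inr (Subtype.ext h)))
  have hOne : ∀ o ∈ Cfsg.oddCore C, o * o = 1 → o = 1 := by
    intro o ho h
    have h2 : orderOf o ∣ 2 := orderOf_dvd_of_pow_eq_one (by rw [pow_two, h])
    have h1 : orderOf o ∣ Nat.card (Cfsg.oddCore C) := by
      rw [← Subgroup.orderOf_mk o ho]; exact orderOf_dvd_natCard _
    rw [← orderOf_eq_one_iff]
    exact Nat.eq_one_of_dvd_coprimes (Nat.coprime_two_right.2 hOodd) h1 h2
  -- the core is inverted by `w`
  have hinv : ∀ o ∈ Cfsg.oddCore C, wC * o * wC⁻¹ = o⁻¹ := by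
    let f : Cfsg.oddCore C → Cfsg.oddCore C := fun o =>
      ⟨(o : C)⁻¹ * (wC * o * wC⁻¹), mul_mem (inv_mem o.2) (hOn.conj_mem _ o.2 _)⟩
    have hfi : Function.Injective f := by
      intro a b h
      have h' : (a : C)⁻¹ * (wC * a * wC⁻¹) = (b : C)⁻¹ * (wC * b * wC⁻¹) := congrArg Subtype.val h
      have hfix : wC * ((a : C) * (b : C)⁻¹) * wC⁻¹ = (a : C) * (b : C)⁻¹ := by
        rw [show wC * ((a : C) * (b : C)⁻¹) * wC⁻¹ = (wC * a * wC⁻¹) * (wC * b * wC⁻¹)⁻¹ by group,
          inv_mul_eq_iff_eq_mul.1 h']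
        group
      have hm : (a : C) * (b : C)⁻¹ ∈ Cfsg.oddCore C := mul_mem a.2 (inv_mem b.2)
      refine Subtype.ext (mul_inv_eq_one.1 (hOne _ hm ?_))
      have h4 := hcentC _ (mul_inv_eq_iff_eq_mul.1 hfix).symm
      have hzz : zC * zC = 1 := sq_of_order_two hzC2
      rcases h4 with e | e | e | e <;> rw [e]
      · exact mul_one 1
      · exact hzz
      · exact hw2
      · rw [Commute.mul_mul_mul_comm (show Commute wC zC from hzcent wC) zC wC, hzz, hw2, mul_one]
    intro o ho
    obtain ⟨x, hx⟩ := Finite.surjective_of_injective hfi ⟨o, ho⟩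
    have hx' : (x : C)⁻¹ * (wC * x * wC⁻¹) = o := congrArg Subtype.val hx
    rw [← hx', inv_eq_of_mul_eq_one_right hw2]
    calc wC * ((x : C)⁻¹ * (wC * x * wC)) * wC = wC * (x : C)⁻¹ * wC * x * (wC * wC) := by group
      _ = ((x : C)⁻¹ * (wC * x * wC))⁻¹ := by
        rw [hw2, mul_one, mul_inv_rev, mul_inv_rev, mul_inv_rev, inv_inv, inv_eq_of_mul_eq_one_right hw2]
        group
  have habel : ∀ a ∈ Cfsg.oddCore C, ∀ b ∈ Cfsg.oddCore C, a * b = b * a := by
    intro a ha b hb
    have h := hinv _ (mul_mem ha hb)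
    rw [show wC * (a * b) * wC⁻¹ = (wC * a * wC⁻¹) * (wC * b * wC⁻¹) by group, hinv a ha, hinv b hb,
      ← mul_inv_rev, inv_inj] at h
    exact h.symm
  -- the centralizer of `w` modulo the core
  set zb := q zC with hzb
  set wb := q wC with hwb
  have hzbcent : ∀ c, c * zb = zb * c := by
    intro c
    obtain ⟨d, rfl⟩ := hqs c
    rw [hzb, ← map_mul, ← map_mul, hzcent]
  have hker : ∀ c : C, q c = 1 ↔ c ∈ Cfsg.oddCore C := fun c => QuotientGroup.eq_one_iff c
  have hzb2 : orderOf zb = 2 := by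
    refine orderOf_eq_prime (by rw [← map_pow, ← hzC2, pow_orderOf_eq_one, map_one]) fun h => ?_
    have := hOne _ ((hker _).1 h) (sq_of_order_two hzC2)
    rw [this, orderOf_one] at hzC2
    norm_num at hzC2
  have hwb2 : orderOf wb = 2 := by
    refine orderOf_eq_prime (by rw [← map_pow, ← hwC2, pow_orderOf_eq_one, map_one]) fun h => ?_
    have := hOne _ ((hker _).1 h) hw2
    rw [this, orderOf_one] at hwC2
    norm_num at hwC2
  have hwz : wb ≠ zb := by
    intro h
    have hm : wC * zC ∈ Cfsg.oddCore C := (hker _).1 (by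
      rw [map_mul, ← hwb, h, ← hzb, sq_of_order_two hzb2])
    have h1 := hOne _ hm (by
      rw [mul_assoc, ← mul_assoc zC, ← hzcent wC, mul_assoc, sq_of_order_two hzC2, mul_one, hw2])
    have h2 : wC = zC := by
      rw [mul_eq_one_iff_eq_inv.1 h1, inv_eq_of_mul_eq_one_right (sq_of_order_two hzC2)]
    exact V.hne (congrArg Subtype.val h2).symm
  have hcentb : ∀ c, c * wb = wb * c → c = 1 ∨ c = zb ∨ c = wb ∨ c = zb * wb := by
    intro c hc
    obtain ⟨d, rfl⟩ := hqs c
    set o := wC⁻¹ * (d * wC * d⁻¹) with ho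
    have hom : o ∈ Cfsg.oddCore C := (hker _).1 (by
      rw [ho, map_mul, map_inv, map_mul, map_mul, map_inv, ← hwb, hc, mul_inv_cancel_right, inv_mul_cancel])
    obtain ⟨k, hk⟩ : Odd (orderOf o) := by
      refine Odd.of_dvd_nat hOodd ?_
      rw [← Subgroup.orderOf_mk o hom]; exact orderOf_dvd_natCard _
    set r := o ^ (k + 1) with hr
    have hrm : r ∈ Cfsg.oddCore C := pow_mem hom _
    have hrr : r * r = o := by
      rw [hr, ← pow_add, show k + 1 + (k + 1) = (2 * k + 1) + 1 by ring, pow_succ, ← hk,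
        pow_orderOf_eq_one, one_mul]
    have hwr : r * wC = wC * r⁻¹ := by
      rw [← hinv r hrm, inv_eq_of_mul_eq_one_right hw2, ← mul_assoc, ← mul_assoc, hw2, one_mul]
    have hd : r * d * wC = wC * (r * d) := by
      have e : d * wC * d⁻¹ = wC * o := by rw [ho, mul_inv_cancel_left]
      rw [mul_inv_eq_iff_eq_mul] at e
      rw [mul_assoc, e, ← mul_assoc, ← mul_assoc, hwr, mul_assoc wC r⁻¹, ← hrr, inv_mul_cancel_left,
        mul_assoc]
    have e2 : q (r * d) = q d := by rw [map_mul, (hker r).2 hrm, one_mul]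
    rcases hcentC _ hd with h | h | h | h <;> rw [h] at e2
    · exact Or.inl (by rw [← e2, map_one])
    · exact Or.inr (Or.inl e2.symm)
    · exact Or.inr (Or.inr (Or.inl e2.symm))
    · exact Or.inr (Or.inr (Or.inr (by rw [← e2, map_mul])))
  -- a Sylow subgroup of the quotient
  obtain ⟨z₀, -, hz₀2, hz₀c, -, -, -, -⟩ := SDFacts.involutions hS₀
  obtain ⟨g₀, hg₀⟩ := isConj_iff.1 (hone (z₀ : G) z (by rw [orderOf_coe]; exact hz₀2) V.hz)
  set S₁ : Sylow 2 G := g₀ • S₀ with hS₁
  have hS₁C : (S₁ : Subgroup G) ≤ C := by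
    intro s hs
    rw [hS₁, Sylow.coe_subgroup_smul] at hs
    obtain ⟨s', hs', rfl⟩ := hs
    rw [hC, mem_centralizer_singleton_iff]
    have e := congrArg Subtype.val (hz₀c ⟨s', hs'⟩)
    simp only [Subgroup.coe_mul] at e
    change g₀ * s' * g₀⁻¹ * z = z * (g₀ * s' * g₀⁻¹)
    rw [← hg₀, conj_mul, e, ← conj_mul]
  set SC : Sylow 2 C := S₁.subtype hS₁C with hSC
  set Sb : Sylow 2 (C ⧸ Cfsg.oddCore C) := SC.mapSurjective hqs with hSb
  have hSbSD : ∀ T : Sylow 2 (C ⧸ Cfsg.oddCore C),
      Cfsg.IsQuasiDihedral (T : Subgroup (C ⧸ Cfsg.oddCore C)) := by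
    intro T
    refine SDFacts.congr (Sb.equiv T) ?_
    have e1 : (S₀ : Subgroup G) ≃* (SC : Subgroup C) :=
      (S₀.equiv S₁).trans (Subgroup.subgroupOfEquivOfLe hS₁C).symm
    have hinj : ∀ x : (SC : Subgroup C), q x = 1 → x = 1 := fun x hx => by
      obtain ⟨j, hj⟩ := SC.isPGroup' x
      have h1 : orderOf (x : C) ∣ Nat.card (Cfsg.oddCore C) := by
        rw [← Subgroup.orderOf_mk (x : C) ((hker _).1 hx)]; exact orderOf_dvd_natCard _
      refine Subtype.ext (orderOf_eq_one_iff.1 (Nat.eq_one_of_dvd_coprimes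
        ((Nat.coprime_two_right.2 hOodd).pow_right j) h1 ?_))
      rw [orderOf_coe]
      exact orderOf_dvd_of_pow_eq_one hj
    let f : (SC : Subgroup C) →* (Sb : Subgroup (C ⧸ Cfsg.oddCore C)) :=
      (q.comp (SC : Subgroup C).subtype).codRestrict _ fun x => ⟨x, x.2, rfl⟩
    have hf : Function.Bijective f := by
      refine ⟨(injective_iff_map_eq_one f).2 fun x hx => hinj x (congrArg Subtype.val hx), fun y => ?_⟩
      obtain ⟨x, hx, hxy⟩ := y.2
      exact ⟨⟨x, hx⟩, Subtype.ext hxy⟩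
    exact SDFacts.congr (e1.trans (MulEquiv.ofBijective f hf)) hS₀
  have hfind : ∀ a : C ⧸ Cfsg.oddCore C, orderOf a = 2 →
      ∃ T : Sylow 2 (C ⧸ Cfsg.oddCore C), a ∈ (T : Subgroup (C ⧸ Cfsg.oddCore C)) := by
    intro a ha
    have hp : IsPGroup 2 (zpowers a) := IsPGroup.of_card (n := 1) (by rw [Nat.card_zpowers, ha, pow_one])
    obtain ⟨T, hT⟩ := hp.exists_le_sylow
    exact ⟨T, hT (mem_zpowers a)⟩
  have hzmem : ∀ T : Sylow 2 (C ⧸ Cfsg.oddCore C), zb ∈ (T : Subgroup (C ⧸ Cfsg.oddCore C)) := by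
    intro T
    obtain ⟨T', hT'⟩ := hfind zb hzb2
    obtain ⟨g, rfl⟩ := MulAction.exists_smul_eq (C ⧸ Cfsg.oddCore C) T' T
    refine ⟨zb, hT', ?_⟩
    change g * zb * g⁻¹ = zb
    rw [hzbcent, mul_inv_cancel_right]
  have hTconj : ∀ (T : Sylow 2 (C ⧸ Cfsg.oddCore C)) (a b : C ⧸ Cfsg.oddCore C),
      a ∈ (T : Subgroup (C ⧸ Cfsg.oddCore C)) → b ∈ (T : Subgroup (C ⧸ Cfsg.oddCore C)) →
      orderOf a = 2 → orderOf b = 2 → a ≠ zb → b ≠ zb →
      ∃ s ∈ (T : Subgroup (C ⧸ Cfsg.oddCore C)), s * a * s⁻¹ = b := by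
    intro T a b ha hb ha2 hb2 han hbn
    obtain ⟨zT, -, hz2, -, -, -, hzu, hconj⟩ := SDFacts.involutions (hSbSD T)
    have hzT : (⟨zb, hzmem T⟩ : (T : Subgroup (C ⧸ Cfsg.oddCore C))) = zT := by
      by_contra hne
      exact hzu ⟨zb, hzmem T⟩ (by rw [Subgroup.orderOf_mk]; exact hzb2) hne
        fun s => Subtype.ext (hzbcent s)
    obtain ⟨s, hs⟩ := isConj_iff.1 (hconj ⟨a, ha⟩ ⟨b, hb⟩ (by rw [Subgroup.orderOf_mk]; exact ha2)
      (by rw [Subgroup.orderOf_mk]; exact hb2) (fun e => han (congrArg Subtype.val (e.trans hzT.symm)))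
      (fun e => hbn (congrArg Subtype.val (e.trans hzT.symm))))
    exact ⟨s, s.2, congrArg Subtype.val hs⟩
  have hconjw : ∀ a : C ⧸ Cfsg.oddCore C, orderOf a = 2 → a ≠ zb → ∃ g, g * wb * g⁻¹ = a := by
    intro a ha han
    obtain ⟨T, hT⟩ := hfind a ha
    obtain ⟨T', hT'⟩ := hfind wb hwb2
    obtain ⟨g, rfl⟩ := MulAction.exists_smul_eq (C ⧸ Cfsg.oddCore C) T' T
    have hgw : g * wb * g⁻¹ ∈ ((g • T' : Sylow 2 (C ⧸ Cfsg.oddCore C)) : Subgroup (C ⧸ Cfsg.oddCore C)) :=
      ⟨wb, hT', rfl⟩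
    obtain ⟨s, -, hs⟩ := hTconj (g • T') (g * wb * g⁻¹) a hgw hT
      ((orderOf_injective (MulAut.conj g).toMonoidHom (MulAut.conj g).injective wb).trans hwb2) ha
      (fun e => hwz (by
        have e' := mul_inv_eq_iff_eq_mul.1 e
        rw [← hzbcent g] at e'
        exact mul_left_cancel e')) han
    exact ⟨s * g, by rw [← hs]; group⟩
  have hwcent4 : ¬ ∀ c, c * wb = wb * c := by
    intro hc
    have h16 := SDFacts.card_ge (hSbSD Sb)
    have hle : Nat.card (Sb : Subgroup (C ⧸ Cfsg.oddCore C)) ≤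
        Nat.card ↥({1, zb, wb, zb * wb} : Finset (C ⧸ Cfsg.oddCore C)) :=
      Nat.card_le_card_of_injective
        (fun x : (Sb : Subgroup (C ⧸ Cfsg.oddCore C)) =>
          (⟨x.1, by rcases hcentb _ (hc x.1) with h | h | h | h <;> simp [h]⟩ :
            ↥({1, zb, wb, zb * wb} : Finset (C ⧸ Cfsg.oddCore C))))
        fun x y h => Subtype.ext (congrArg (fun u => u.1) h)
    rw [Nat.card_eq_finsetCard] at hle
    have h4 := Finset.card_le_four (a := (1 : C ⧸ Cfsg.oddCore C)) (b := zb) (c := wb) (d := zb * wb)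
    omega
  -- the derived subgroup is `SL(2, 3)`
  obtain ⟨F, iF, iFt, hFodd, ⟨e⟩⟩ := Cfsg.Agent.S1240.result S₀ (Or.inl hS₀) hidx hone z V.hz
  set L := commutator (C ⧸ Cfsg.oddCore C) with hL
  have hF2 : (2 : F) ≠ 0 := by
    intro h
    haveI : CharP F 2 := CharTwo.of_one_ne_zero_of_two_eq_zero one_ne_zero h
    obtain ⟨n, -, hn⟩ := FiniteField.card F 2
    rw [hn] at hFodd
    exact (Nat.not_odd_iff_even.2 (even_two.pow_of_ne_zero n.ne_zero)) hFodd
  have hneg2 : ((-1 : Matrix.SpecialLinearGroup (Fin 2) F)) * (-1) = 1 := by simp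
  have hnegne : (-1 : Matrix.SpecialLinearGroup (Fin 2) F) ≠ 1 :=
    fun h => Forms.KleinPSL.ne_neg_self hF2 1 h.symm
  have hnegc : ∀ s : Matrix.SpecialLinearGroup (Fin 2) F, s * (-1) = (-1) * s := fun s => by simp
  have hSLinv : ∀ s : Matrix.SpecialLinearGroup (Fin 2) F, s * s = 1 → s = 1 ∨ s = -1 := fun s hs => by
    by_cases h1 : s = 1
    · exact Or.inl h1
    · refine Or.inr (Subtype.ext ?_)
      rw [Matrix.SpecialLinearGroup.coe_neg, Matrix.SpecialLinearGroup.coe_one]
      exact Cfsg.Agent.S0268.result hFodd s h1 hs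
  set ζ := e.symm (-1) with hζ
  have hζ1 : ζ ≠ 1 := fun h => hnegne (by rw [← e.apply_symm_apply (-1), ← hζ, h, map_one])
  have hζ2 : ζ * ζ = 1 := by rw [hζ, ← map_mul, hneg2, map_one]
  have hζu : ∀ l : L, l * l = 1 → l ≠ 1 → l = ζ := by
    intro l hl hl1
    rcases hSLinv (e l) (by rw [← map_mul, hl, map_one]) with h | h
    · exact absurd (by rw [← e.symm_apply_apply l, h, map_one]) hl1
    · rw [hζ, ← h, e.symm_apply_apply]
  have hζc : ∀ c, c * (ζ : C ⧸ Cfsg.oddCore C) = ζ * c := by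
    intro c
    set l : L := ⟨c * ζ * c⁻¹, Normal.conj_mem (commutator_normal _ _) _ ζ.2 _⟩ with hl
    have h1 : l * l = 1 := Subtype.ext (by
      change c * ζ * c⁻¹ * (c * ζ * c⁻¹) = 1
      rw [conj_mul, show (ζ : C ⧸ Cfsg.oddCore C) * ζ = 1 from congrArg Subtype.val hζ2, mul_one,
        mul_inv_cancel])
    have h2 : l ≠ 1 := fun h => hζ1 (Subtype.ext (by
      have h' : c * (ζ : C ⧸ Cfsg.oddCore C) * c⁻¹ = 1 := congrArg Subtype.val h
      rw [mul_inv_eq_one, mul_eq_left] at h'
      exact h'))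
    have := congrArg Subtype.val (hζu l h1 h2)
    exact mul_inv_eq_iff_eq_mul.1 this
  have hζz : (ζ : C ⧸ Cfsg.oddCore C) = zb := by
    rcases hcentb _ (hζc wb).symm with h | h | h | h
    · exact absurd (Subtype.ext h) hζ1
    · exact h
    · exact absurd (fun c => by rw [← h]; exact hζc c) hwcent4
    · refine absurd (fun c => ?_) hwcent4
      have hww : wb = zb * ζ := by rw [h, ← mul_assoc, sq_of_order_two hzb2, one_mul]
      rw [hww, ← mul_assoc, hzbcent c, mul_assoc, hζc c, ← mul_assoc]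
  have hzL : zb ∈ L := hζz ▸ ζ.2
  have hwL : wb ∉ L := fun h => hwz (by
    rw [← hζz]
    exact congrArg Subtype.val (hζu ⟨wb, h⟩ (Subtype.ext (sq_of_order_two hwb2))
      fun e1 => by
        have := congrArg Subtype.val e1
        rw [show wb = 1 from this, orderOf_one] at hwb2
        norm_num at hwb2))
  have hzwL : zb * wb ∉ L := fun h => hwL (by
    have := mul_mem (inv_mem hzL) h
    rwa [inv_mul_cancel_left] at this)
  have hF3 : Fintype.card F = 3 := by
    by_contra hne
    have hq : 3 < Fintype.card F := by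
      rcases hFodd with ⟨k, hk⟩
      have := Fintype.one_lt_card (α := F)
      omega
    set θ : MulAut (Matrix.SpecialLinearGroup (Fin 2) F) :=
      (e.symm.trans (MulAut.conjNormal wb)).trans e with hθ
    have hθapp : ∀ s, θ s = e (MulAut.conjNormal wb (e.symm s)) := fun s => rfl
    set θb := AutPSL.Basic.descend θ with hθb
    have hθ2 : θ * θ = 1 := by
      refine MulEquiv.ext fun s => ?_
      rw [MulAut.mul_apply, hθapp, hθapp, e.symm_apply_apply, ← MulAut.mul_apply, ← map_mul,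
        sq_of_order_two hwb2, map_one]
      exact e.apply_symm_apply s
    have hfixθ : ∀ s, θ s = s → s = 1 ∨ s = -1 := by
      intro s hs
      rw [hθapp, ← e.eq_symm_apply] at hs
      have h' := congrArg Subtype.val hs
      rw [MulAut.conjNormal_apply, mul_inv_eq_iff_eq_mul] at h'
      have hm : ((e.symm s : L) : C ⧸ Cfsg.oddCore C) ∈ L := (e.symm s).2
      rcases hcentb _ h'.symm with h | h | h | h
      · left; rw [← e.apply_symm_apply s, show e.symm s = 1 from Subtype.ext h, map_one]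
      · right
        rw [← e.apply_symm_apply s, show e.symm s = ζ from Subtype.ext (h.trans hζz.symm), hζ,
          e.apply_symm_apply]
      · exact absurd (h ▸ hm) hwL
      · exact absurd (h ▸ hm) hzwL
    haveI : Fintype (Matrix.SpecialLinearGroup (Fin 2) F) := Fintype.ofFinite _
    set A := Finset.univ.filter fun s : Matrix.SpecialLinearGroup (Fin 2) F => θ s = s ∨ θ s = -s with hA
    have hA4 : A.card ≤ 4 := by
      rw [hA, Finset.filter_or]
      refine le_trans (Finset.card_union_le _ _) ?_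
      have h1 : (Finset.univ.filter fun s : Matrix.SpecialLinearGroup (Fin 2) F => θ s = s).card ≤ 2 :=
        le_trans (Finset.card_le_card (t := {1, -1}) fun s hs => by
          rcases hfixθ s (Finset.mem_filter.1 hs).2 with h | h <;> simp [h]) Finset.card_le_two
      have h2 : (Finset.univ.filter fun s : Matrix.SpecialLinearGroup (Fin 2) F => θ s = -s).card ≤ 2 := by
        by_cases hex : ∃ s₀, θ s₀ = -s₀
        · obtain ⟨s₀, hs₀⟩ := hex
          refine le_trans (Finset.card_le_card_of_injOn (fun s => s₀⁻¹ * s) (t := {1, -1}) (fun s hs => ?_)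
            fun a _ b _ h => mul_left_cancel h) Finset.card_le_two
          rcases hfixθ (s₀⁻¹ * s) (by
            rw [map_mul, map_inv, hs₀, (Finset.mem_filter.1 (Finset.mem_coe.1 hs)).2,
              ← neg_one_mul s₀, ← neg_one_mul s, mul_inv_rev, mul_assoc, inv_mul_cancel_left]) with h | h <;>
            simp [h]
        · rw [Finset.card_eq_zero.2 (Finset.filter_eq_empty_iff.2 fun s _ h => hex ⟨s, h⟩)]
          omega
      omega
    have hmemA : ∀ s, θb (Forms.KleinPSL.pi F s) = Forms.KleinPSL.pi F s → s ∈ A := fun s h => by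
      rw [hA, Finset.mem_filter]
      exact ⟨Finset.mem_univ _, Forms.KleinPSL.pi_eq_iff.1 h⟩
    have hθb2 : θb * θb = 1 := by rw [hθb, ← map_mul, hθ2, map_one]
    have hθb1 : θb ≠ 1 := by
      intro h
      have hall : (Finset.univ : Finset (Matrix.SpecialLinearGroup (Fin 2) F)) ⊆ A :=
        fun s _ => hmemA s (by rw [h]; rfl)
      have h1 := Finset.card_le_card hall
      rw [Finset.card_univ, ← Nat.card_eq_fintype_card, Classical.GL2.natCard_SL_two] at h1
      have h4 : 4 * 1 ≤ Fintype.card F * ((Fintype.card F - 1) * (Fintype.card F + 1)) := by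
        refine Nat.mul_le_mul (by omega) (Nat.mul_pos (by omega) (by omega))
      have h5 : 5 * 1 ≤ Fintype.card F * ((Fintype.card F - 1) * (Fintype.card F + 1)) := by
        refine Nat.mul_le_mul ?_ (Nat.mul_pos (by omega) (by omega))
        rcases hFodd with ⟨k, hk⟩
        omega
      omega
    have h3 := InvAut.three_le_fixed hF2 hq hθb2 hθb1
    haveI : Fintype {x // θb x = x} := Fintype.ofFinite _
    rw [Nat.card_eq_fintype_card] at h3
    have hcount : Fintype.card ({x // θb x = x} × Bool) ≤ A.card := by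
      rw [← Fintype.card_coe A]
      choose lift hlift using fun x : Matrix.ProjectiveSpecialLinearGroup (Fin 2) F =>
        Forms.KleinPSL.pi_surjective x
      refine Fintype.card_le_of_injective (fun p =>
        ⟨if p.2 then lift p.1.1 else -lift p.1.1, hmemA _ (by
          split_ifs
          · rw [hlift]; exact p.1.2
          · rw [Forms.KleinPSL.pi_neg, hlift]; exact p.1.2)⟩) ?_
      rintro ⟨⟨x, hx⟩, b⟩ ⟨⟨y, hy⟩, c⟩ h
      have h' := congrArg Subtype.val h
      simp only at h'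
      have hxy : x = y := by
        have := congrArg (Forms.KleinPSL.pi F) h'
        split_ifs at this <;> simpa [hlift, Forms.KleinPSL.pi_neg] using this
      subst hxy
      cases b <;> cases c
      · rfl
      · simp only [Bool.false_eq_true, if_false, if_true] at h'
        exact absurd h'.symm (Forms.KleinPSL.ne_neg_self hF2 _)
      · simp only [Bool.false_eq_true, if_false, if_true] at h'
        exact absurd h' (Forms.KleinPSL.ne_neg_self hF2 _)
      · rfl
    rw [Fintype.card_prod, Fintype.card_bool] at hcount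
    omega
  have hL24 : Nat.card L = 24 := by
    rw [Nat.card_congr e.toEquiv, Classical.GL2.natCard_SL_two, hF3]
  haveI : Fact (Nat.Prime 3) := ⟨Nat.prime_three⟩
  haveI : CharP F 3 := charP_of_card_eq_prime_pow (f := 1) (by rw [hF3, pow_one])
  let φ : ZMod 3 ≃+* F := RingEquiv.ofBijective (ZMod.castHom dvd_rfl F)
    ((Nat.bijective_iff_injective_and_card _).2 ⟨(ZMod.castHom dvd_rfl F).injective, by
      rw [Nat.card_zmod, Nat.card_eq_fintype_card, hF3]⟩)
  let m : L →* GLTwoThree.M23 :=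
    { toFun := fun l => ((e l : Matrix.SpecialLinearGroup (Fin 2) F) :
        Matrix (Fin 2) (Fin 2) F).map φ.symm
      map_one' := by simp
      map_mul' := fun a b => by rw [map_mul, Matrix.SpecialLinearGroup.coe_mul, Matrix.map_mul] }
  have hminj : Function.Injective m := fun a b h => e.injective (Subtype.ext (by
    ext i j
    exact φ.symm.injective (congrFun (congrFun h i) j)))
  have hmdet : ∀ l, (m l).det = 1 := fun l => by
    change ((φ.symm : F →+* ZMod 3).mapMatrix (e l : Matrix (Fin 2) (Fin 2) F)).det = 1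
    rw [← RingHom.map_det, (e l).2, map_one]
  have hmsurj : ∀ M : GLTwoThree.M23, M.det = 1 → ∃ l, m l = M := fun M hM => by
    obtain ⟨s, hs⟩ : ∃ s : Matrix.SpecialLinearGroup (Fin 2) F,
        (s : Matrix (Fin 2) (Fin 2) F) = M.map φ := ⟨⟨M.map φ, by
      change ((φ : ZMod 3 →+* F).mapMatrix M).det = 1
      rw [← RingHom.map_det, hM, map_one]⟩, rfl⟩
    refine ⟨e.symm s, ?_⟩
    change ((e (e.symm s) : Matrix.SpecialLinearGroup (Fin 2) F) :
      Matrix (Fin 2) (Fin 2) F).map φ.symm = M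
    rw [show e (e.symm s) = s from e.apply_symm_apply s, hs]
    ext i j
    simp
  have hquat : ∀ a b : L, a ^ 4 = 1 → b ^ 4 = 1 → (a * b) ^ 4 = 1 := by
    intro a b ha hb
    apply hminj
    have ha' := congrArg m ha
    have hb' := congrArg m hb
    rw [map_pow, map_one, Matrix.eta_fin_two (m a)] at ha'
    rw [map_pow, map_one, Matrix.eta_fin_two (m b)] at hb'
    have da := hmdet a
    have db := hmdet b
    rw [Matrix.det_fin_two] at da db
    rw [map_pow, map_mul, map_one, Matrix.eta_fin_two (m a), Matrix.eta_fin_two (m b)]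
    exact sl_quat.1 _ _ _ _ _ _ _ _ da db ha' hb'
  let Q : Subgroup (C ⧸ Cfsg.oddCore C) :=
    { carrier := {c | c ∈ L ∧ c ^ 4 = 1}
      one_mem' := ⟨one_mem _, one_pow 4⟩
      mul_mem' := fun {a b} ha hb => ⟨mul_mem ha.1 hb.1, congrArg Subtype.val
        (hquat ⟨a, ha.1⟩ ⟨b, hb.1⟩ (Subtype.ext ha.2) (Subtype.ext hb.2))⟩
      inv_mem' := fun {a} ha => ⟨inv_mem ha.1, by rw [inv_pow, ha.2, inv_one]⟩ }
  have hQn : Q.Normal := ⟨fun c hc g => ⟨Normal.conj_mem (commutator_normal _ _) _ hc.1 _, by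
    rw [conj_pow, hc.2, mul_one, mul_inv_cancel]⟩⟩
  have hQp : IsPGroup 2 Q := fun c => ⟨2, Subtype.ext c.2.2⟩
  have hQle : ∀ T : Sylow 2 (C ⧸ Cfsg.oddCore C), Q ≤ (T : Subgroup (C ⧸ Cfsg.oddCore C)) := by
    intro T
    obtain ⟨T', hT'⟩ := hQp.exists_le_sylow
    obtain ⟨g, rfl⟩ := MulAction.exists_smul_eq (C ⧸ Cfsg.oddCore C) T' T
    intro c hc
    refine ⟨g⁻¹ * c * g, hT' ?_, by change g * (g⁻¹ * c * g) * g⁻¹ = c; group⟩
    have := hQn.conj_mem c hc g⁻¹
    rwa [inv_inv] at this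
  obtain ⟨i₀, hi₀⟩ := hmsurj !![0, 2; 1, 0] mat_dets.1
  obtain ⟨j₀, hj₀⟩ := hmsurj !![1, 1; 1, 2] mat_dets.2.1
  have hiQ : (i₀ : C ⧸ Cfsg.oddCore C) ∈ Q := ⟨i₀.2, congrArg Subtype.val
    (hminj (show m (i₀ ^ 4) = m 1 by rw [map_pow, hi₀, map_one, sl_quat.2.1]))⟩
  have hjQ : (j₀ : C ⧸ Cfsg.oddCore C) ∈ Q := ⟨j₀.2, congrArg Subtype.val
    (hminj (show m (j₀ ^ 4) = m 1 by rw [map_pow, hj₀, map_one, sl_quat.2.2.1]))⟩
  have hQncomm : (i₀ : C ⧸ Cfsg.oddCore C) * j₀ ≠ j₀ * i₀ := fun h => sl_quat.2.2.2 (by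
    have h' := congrArg m (show i₀ * j₀ = j₀ * i₀ from Subtype.ext h)
    rwa [map_mul, map_mul, hi₀, hj₀] at h')
  have hsolv : Group.IsSolvable (C ⧸ Cfsg.oddCore C) := by
    haveI : Group.IsSolvable L := by
      refine GW.OvergroupsFact.solvable_of_small ?_
      rw [hL24]; decide
    haveI : Group.IsSolvable ((C ⧸ Cfsg.oddCore C) ⧸ L) :=
      Group.isSolvable_of_comm fun a b => by
        refine QuotientGroup.induction_on a fun a => QuotientGroup.induction_on b fun b => ?_
        rw [← QuotientGroup.mk_mul, ← QuotientGroup.mk_mul, QuotientGroup.eq]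
        have : (a * b)⁻¹ * (b * a) = ⁅b⁻¹, a⁻¹⁆ := by
          rw [commutatorElement_def]; group
        rw [this]
        exact commutator_mem_commutator (mem_top _) (mem_top _)
    exact Group.isSolvable_of_ker_le_range L.subtype (QuotientGroup.mk' L)
      (by rw [QuotientGroup.ker_mk', range_subtype])
  have hO1 : Cfsg.oddCore (C ⧸ Cfsg.oddCore C) = ⊥ := Cores.pPrimeCore_quotient_self 2
  have hI : ∀ T T' : Sylow 2 (C ⧸ Cfsg.oddCore C), T ≠ T' →
      Cfsg.PRankLE 2 1 ↥((T : Subgroup (C ⧸ Cfsg.oddCore C)) ⊓ (T' : Subgroup (C ⧸ Cfsg.oddCore C))) := by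
    intro T T' hne A hAc hA2
    by_contra hbig
    rw [pow_one, not_le] at hbig
    obtain ⟨a, ha, ha1, haz⟩ : ∃ a ∈ A, a ≠ 1 ∧ (a : C ⧸ Cfsg.oddCore C) ≠ zb := by
      by_contra hcon
      push Not at hcon
      refine absurd (Nat.card_le_card_of_injective
        (fun a : A => decide (a = 1)) ?_) (by
          rw [Nat.card_eq_fintype_card (α := Bool), Fintype.card_bool]; omega)
      intro a b h
      simp only [decide_eq_decide] at h
      by_cases ha : a = 1
      · rw [ha, h.1 ha]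
      · refine Subtype.ext (Subtype.ext ?_)
        rw [hcon a a.2 fun e => ha (Subtype.ext e),
          hcon b b.2 fun e => ha (h.2 (Subtype.ext e))]
    have ha2 : orderOf (a : C ⧸ Cfsg.oddCore C) = 2 := by
      refine orderOf_eq_prime ?_ fun h => ha1 (Subtype.ext h)
      have := congrArg Subtype.val (hA2 a ha)
      simpa using this
    have hanL : (a : C ⧸ Cfsg.oddCore C) ∉ L := fun h => haz (by
      rw [← hζz]
      exact congrArg Subtype.val (hζu ⟨_, h⟩ (Subtype.ext (sq_of_order_two ha2))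
        fun e1 => ha1 (Subtype.ext (congrArg (fun l : L => (l : C ⧸ Cfsg.oddCore C)) e1))))
    set Q' := Q.subgroupOf (T : Subgroup (C ⧸ Cfsg.oddCore C)) with hQ'
    haveI : Q'.Normal := hQn.subgroupOf _
    have haT : (a : C ⧸ Cfsg.oddCore C) ∈ (T : Subgroup (C ⧸ Cfsg.oddCore C)) := a.2.1
    have hQtop : Q' ≠ ⊤ := fun h => hanL ((show (⟨_, haT⟩ : (T : Subgroup (C ⧸ Cfsg.oddCore C))) ∈ Q'
      from h ▸ mem_top _).1)
    rcases Cfsg.Agent.S1194.result (hSbSD T) Q' hQtop with hco | ⟨hcyc, -⟩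
    · refine hne (Sylow.ext ?_)
      have htop : Q' ⊔ zpowers ⟨_, haT⟩ = ⊤ := hco.2 _ (lt_of_le_of_ne le_sup_left fun h => hanL (by
        have h' : (⟨_, haT⟩ : (T : Subgroup (C ⧸ Cfsg.oddCore C))) ∈ Q' :=
          h ▸ (le_sup_right : zpowers _ ≤ Q' ⊔ _) (mem_zpowers _)
        exact h'.1))
      have hle : (T : Subgroup (C ⧸ Cfsg.oddCore C)) ≤ T' := by
        intro x hx
        have hx' : (⟨x, hx⟩ : (T : Subgroup (C ⧸ Cfsg.oddCore C))) ∈ Q' ⊔ zpowers ⟨_, haT⟩ :=
          htop ▸ mem_top _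
        have hsub : Q' ⊔ zpowers ⟨_, haT⟩ ≤ (T' : Subgroup (C ⧸ Cfsg.oddCore C)).subgroupOf T :=
          sup_le (fun y hy => hQle T' hy) (zpowers_le.2 a.2.2)
        exact hsub hx'
      exact (T.3 T'.isPGroup' hle).symm
    · haveI := hcyc
      haveI : IsCyclic Q := isCyclic_of_surjective (subgroupOfEquivOfLe (hQle T))
        (subgroupOfEquivOfLe (hQle T)).surjective
      exact hQncomm (congrArg Subtype.val
        ((IsCyclic.isMulCommutative (α := Q)).is_comm.comm ⟨_, hiQ⟩ ⟨_, hjQ⟩))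
  rcases Cfsg.Agent.InvChar.Octahedral.main hO1 hI with ⟨P, hP⟩ | ⟨⟨eG⟩⟩ | ⟨-, -, -, hquat'⟩
  · exfalso
    have hall : ∀ c, c ∈ (P : Subgroup (C ⧸ Cfsg.oddCore C)) := by
      intro c
      obtain ⟨T, hT⟩ := hfind wb hwb2
      have hPT : T = P := (Sylow.unique_of_normal P hP).eq_default T |>.trans
        ((Sylow.unique_of_normal P hP).eq_default P).symm
      subst hPT
      have hc : c * wb * c⁻¹ ∈ (T : Subgroup (C ⧸ Cfsg.oddCore C)) := hP.conj_mem _ hT c
      obtain ⟨s, hs, hsc⟩ := hTconj T wb (c * wb * c⁻¹) hT hc hwb2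
        ((orderOf_injective (MulAut.conj c).toMonoidHom (MulAut.conj c).injective wb).trans hwb2) hwz
        (fun e => hwz (by
          have e' := mul_inv_eq_iff_eq_mul.1 e
          rw [← hzbcent c] at e'
          exact mul_left_cancel e'))
      have hcomm : s⁻¹ * c * wb = wb * (s⁻¹ * c) := by
        rw [← mul_inv_eq_iff_eq_mul, show s⁻¹ * c * wb * (s⁻¹ * c)⁻¹ = s⁻¹ * (c * wb * c⁻¹) * s by group,
          ← hsc]
        group
      have hin : s⁻¹ * c ∈ (T : Subgroup (C ⧸ Cfsg.oddCore C)) := by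
        rcases hcentb _ hcomm with h | h | h | h <;> rw [h]
        · exact one_mem _
        · exact hzmem T
        · exact hT
        · exact mul_mem (hzmem T) hT
      simpa using mul_mem hs hin
    have h3 : Nat.card L ∣ Nat.card (P : Subgroup (C ⧸ Cfsg.oddCore C)) :=
      card_dvd_of_le fun x _ => hall x
    obtain ⟨k, hk⟩ := IsPGroup.iff_card.1 P.isPGroup'
    rw [hL24, hk] at h3
    have h' : 3 ∣ 2 ^ k := dvd_trans (by norm_num) h3
    have := Nat.prime_three.dvd_of_dvd_pow h'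
    norm_num at this
  · set π := eG.toMonoidHom.comp q with hπ
    have hπker : π.ker = Cfsg.oddCore C := by
      ext x
      rw [MonoidHom.mem_ker, hπ, MonoidHom.comp_apply]
      exact (eG.map_eq_one_iff).trans (hker x)
    have hπs : Function.Surjective π := eG.surjective.comp hqs
    have hT : π zC = GLTwoThree.T := by
      refine GLTwoThree.central_invol (fun g => ?_) ?_ ?_
      · obtain ⟨c, rfl⟩ := hπs g
        rw [← map_mul, ← map_mul, hzcent]
      · rw [← map_mul, sq_of_order_two hzC2, map_one]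
      · intro h
        have : q zC = 1 := eG.map_eq_one_iff.1 h
        rw [← hzb] at this
        rw [this, orderOf_one] at hzb2
        norm_num at hzb2
    have hwd : (π wC).val.det ≠ 1 := by
      refine det_invol (by rw [← map_mul, hw2, map_one]) (fun h => ?_) fun h => ?_
      · have : q wC = 1 := eG.map_eq_one_iff.1 h
        rw [← hwb] at this
        rw [this, orderOf_one] at hwb2
        norm_num at hwb2
      · exact hwz (eG.injective (h.trans hT.symm))
    let Act : C → Prop := fun c => ∀ o ∈ Cfsg.oddCore C,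
      c * o * c⁻¹ = if (π c).val.det = 1 then o else o⁻¹
    have hmul : ∀ c d, Act c → Act d → Act (c * d) := by
      intro c d hc hd o ho
      have e1 : c * d * o * (c * d)⁻¹ = c * (d * o * d⁻¹) * c⁻¹ := by group
      rw [e1, hd o ho, map_mul, Units.val_mul, Matrix.det_mul]
      rcases det_cases (π d) with h | h
      · rw [if_pos h, hc o ho, h, mul_one]
      · have h' : ¬ (π d).val.det = 1 := by rw [h]; exact mat_dets.2.2.2.1
        rw [if_neg h', hc _ (inv_mem ho), h]
        rcases det_cases (π c) with h0 | h0 <;> rw [h0]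
        · rw [if_pos rfl, if_neg (by rw [one_mul]; exact mat_dets.2.2.2.1)]
        · rw [if_neg mat_dets.2.2.2.1, if_pos mat_dets.2.2.2.2, inv_inv]
    have hkerA : ∀ c, π c = 1 → Act c := fun c hc o ho => by
      rw [hc, if_pos (by simp), habel c (hπker ▸ MonoidHom.mem_ker.2 hc) o ho, mul_inv_cancel_right]
    have hzA : Act zC := fun o ho => by
      rw [hT, if_pos mat_dets.2.2.1, ← hzcent, mul_inv_cancel_right]
    have hwA : Act wC := fun o ho => by rw [if_neg hwd]; exact hinv o ho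
    have hinvol : ∀ x : GLTwoThree.GL23, x * x = 1 → ∃ c, π c = x ∧ Act c := by
      intro x hx
      rcases GLTwoThree.involution_cases hx with rfl | rfl | ⟨k, hk⟩
      · exact ⟨1, map_one π, hkerA 1 (map_one π)⟩
      · exact ⟨zC, hT, hzA⟩
      · obtain ⟨kw, hkw⟩ := ((GLTwoThree.involution_cases
          (show π wC * π wC = 1 by rw [← map_mul, hw2, map_one])).resolve_left (fun h => hwd (by simp [h]))
          ).resolve_left (fun h => hwd (by rw [h]; exact mat_dets.2.2.1))
        obtain ⟨c, hc⟩ := hπs (k * kw⁻¹)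
        refine ⟨c * wC * c⁻¹, ?_, fun o ho => ?_⟩
        · rw [map_mul, map_mul, map_inv, hc]
          calc k * kw⁻¹ * π wC * (k * kw⁻¹)⁻¹ = k * (kw⁻¹ * (π wC * kw)) * k⁻¹ := by group
            _ = x := by rw [← hkw, inv_mul_cancel_left, hk, mul_inv_cancel_right]
        · have hd : (π (c * wC * c⁻¹)).val.det ≠ 1 := by
            rwa [map_mul, map_mul, map_inv, Units.val_mul, Units.val_mul, Matrix.det_mul, Matrix.det_mul,
              mul_right_comm, ← Matrix.det_mul, Units.mul_inv, Matrix.det_one, one_mul]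
          rw [if_neg hd]
          calc c * wC * c⁻¹ * o * (c * wC * c⁻¹)⁻¹ = c * (wC * (c⁻¹ * o * c) * wC⁻¹) * c⁻¹ := by group
            _ = o⁻¹ := by
              rw [hinv _ (by have := hOn.conj_mem o ho c⁻¹; rwa [inv_inv] at this)]
              group
    have hall : ∀ c, Act c := by
      intro c
      obtain ⟨a, b, d, he, ha, hb, hd⟩ := GLTwoThree.three_involutions (π c)
      obtain ⟨ca, ea, Aa⟩ := hinvol a ha
      obtain ⟨cb, eb, Ab⟩ := hinvol b hb
      obtain ⟨cd, ed, Ad⟩ := hinvol d hd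
      have hk : Act (c * (ca * cb * cd)⁻¹) := hkerA _ (by
        rw [map_mul, map_inv, map_mul, map_mul, ea, eb, ed, ← he, mul_inv_cancel])
      have := hmul _ _ hk (hmul _ _ (hmul _ _ Aa Ab) Ad)
      rwa [inv_mul_cancel_right] at this
    refine ⟨π, ⟨V.hz, hπs, hπker ▸ hOodd, hT, fun c o ho hd => ?_, fun c o ho hd => ?_⟩, hπker, hwd⟩
    · have h := hall c o (hπker ▸ ho)
      rw [if_pos hd] at h
      exact mul_inv_eq_iff_eq_mul.1 h
    · have h := hall c o (hπker ▸ ho)
      rw [if_neg hd] at h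
      exact mul_inv_eq_iff_eq_mul.1 h
  · exfalso
    obtain ⟨T, hT⟩ := hfind wb hwb2
    obtain ⟨eQ⟩ := hquat' T
    have hone' : ∀ x : QuaternionGroup 4, x * x = 1 → x = 1 ∨ x = QuaternionGroup.a 4 := by decide
    have h1 : ∀ (b : C ⧸ Cfsg.oddCore C) (hb : b ∈ (T : Subgroup (C ⧸ Cfsg.oddCore C))), orderOf b = 2 →
        eQ ⟨b, hb⟩ = QuaternionGroup.a 4 := by
      intro b hb hb2
      refine (hone' _ (by rw [← map_mul]; exact (eQ.map_eq_one_iff).2 (Subtype.ext (sq_of_order_two hb2)))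
        ).resolve_left fun h => ?_
      have := congrArg Subtype.val (eQ.map_eq_one_iff.1 h)
      rw [show b = 1 from this, orderOf_one] at hb2
      norm_num at hb2
    exact hwz (congrArg Subtype.val (eQ.injective ((h1 wb hT hwb2).trans (h1 zb (hzmem T) hzb2).symm)))

end Cfsg.Agent.Perm.CubicInsoluble.CoreSetup
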