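import Cfsg.Agent.Lib.Perm.CubicInsoluble.Local
import Cfsg.Agent.Lib.GLTwoThree.Core.Order
import Cfsg.Agent.Lib.Coprime.Sylow
import Cfsg.Agent.Lib.Involutions.Isolated
import Cfsg.Agent.Lib.Transfer.NormalPComplement
import Cfsg.Agent.S0215
import Cfsg.Agent.S2916

/-!
# A four group with maximal normalizer in a simple group with quasi-dihedral Sylow subgroups

The core of an involution centralizer is trivial, so the group is `PSL(3, 3)` or `M₁₁`.
-/

set_option autoImplicit false
set_option linter.style.haveILetI false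
set_option linter.unusedSectionVars false

namespace Cfsg.Agent.Perm.CubicInsoluble.CoreTrivial

open Subgroup CoreSetup Local
open Cfsg.Agent.GLTwoThree (GL23 T W Y)

universe u

/-- The reflection inverts an element of order three. -/
theorem W_inverts : (Y ^ 2) ^ 3 = 1 ∧ Y ^ 2 ≠ 1 ∧ W * Y ^ 2 * W * Y ^ 2 = 1 ∧ W * W = 1 := by
  simp only [ne_eq, GLTwoThree.ext_val, Units.val_pow_eq_pow_val, Units.val_mul, Units.val_one]
  decide +kernel

/-- An involution of determinant `-1` normalizes a subgroup of order three. -/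
theorem exists_three {a : GL23} (ha : a * a = 1) (hd : a.val.det ≠ 1) :
    ∃ k : GL23, orderOf k = 3 ∧ a * k * a⁻¹ = k⁻¹ := by
  rcases GLTwoThree.involution_cases ha with rfl | rfl | ⟨c, hc⟩
  · simp at hd
  · exact absurd mat_dets.2.2.1 hd
  · obtain ⟨h3, h1, hi, hW⟩ := W_inverts
    haveI := Fact.mk Nat.prime_three
    refine ⟨c * Y ^ 2 * c⁻¹, ?_, ?_⟩
    · refine orderOf_eq_prime (by rw [conj_pow, h3, mul_one, mul_inv_cancel]) ?_
      exact fun h => h1 (conj_eq_one_iff.1 h)
    · have e : a = c * W * c⁻¹ := by rw [hc, mul_inv_cancel_right]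
      have hWi : W⁻¹ = W := inv_eq_of_mul_eq_one_right hW
      rw [e]
      calc c * W * c⁻¹ * (c * Y ^ 2 * c⁻¹) * (c * W * c⁻¹)⁻¹ = c * (W * Y ^ 2 * W⁻¹) * c⁻¹ := by group
        _ = (c * Y ^ 2 * c⁻¹)⁻¹ := by rw [hWi, eq_inv_of_mul_eq_one_left hi]; group

variable {G : Type u} [Group G] [Finite G] {z w : G}

theorem rel_of_mem {r : ℕ} {P : Subgroup G} (hP : IsPGroup r P) {g : G} (hg : g ∈ P) : Rel r g := by
  obtain ⟨k, hk⟩ := hP ⟨g, hg⟩
  exact ⟨k, congrArg Subtype.val hk⟩

/-- Centralizing a nontrivial element of the kernel makes the determinant one. -/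
theorem det_of_cent {π : centralizer ({z} : Set G) →* GL23} (E : GLTwoThree.Core.Covered z π)
    {c o : centralizer ({z} : Set G)} (ho : o ∈ π.ker) (ho1 : o ≠ 1) (h : c * o = o * c) :
    (π c).val.det = 1 := by
  by_contra hd
  have e := E.inv c o ho hd
  rw [h] at e
  exact ho1 (E.sq_eq_one_ker ho (mul_eq_one_iff_eq_inv.2 (mul_right_cancel e)))

variable [IsSimpleGroup G] (S₀ : Sylow 2 G) (hS₀ : Cfsg.IsQuasiDihedral (S₀ : Subgroup G))
  (V : Setting z w)
include V hS₀

/-- An invariant subgroup whose order is the `r`-part of the centralizer, for a suitable prime. -/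
theorem exists_sylow {π : centralizer ({z} : Set G) →* GL23} (E : Cov z w π) {r : ℕ} [Fact r.Prime]
    (hr2 : r ≠ 2) :
    ∃ P : Subgroup G, IsPGroup r P ∧ P ≤ centralizer ({z} : Set G) ∧ w ∈ normalizer (P : Set G) ∧
      (∀ o ∈ O z, Rel r o → o ∈ P) ∧
      ∃ m, ¬ r ∣ m ∧ Nat.card (centralizer ({z} : Set G)) = Nat.card P * m := by
  classical
  set wC : (centralizer ({z} : Set G)) := ⟨w, V.wC S₀ hS₀⟩ with hwC
  have hw1 : wC * wC = 1 := Subtype.ext V.ww
  have hd := E.det (V.wC S₀ hS₀)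
  obtain ⟨k, hk, hak⟩ := exists_three (a := π wC) (by rw [← map_mul, hw1, map_one]) hd
  -- the subgroup over the chosen subgroup of order three
  set K := zpowers k with hKdef
  have hKdet : ∀ g ∈ K, g.val.det = 1 := by
    intro g hg
    have h3 : g ^ 3 = 1 := by
      have := pow_card_eq_one' (G := K) (x := ⟨g, hg⟩)
      rw [Nat.card_zpowers, hk] at this
      exact congrArg Subtype.val this
    rcases det_cases g with h | h
    · exact h
    · have e := congrArg (fun g : GL23 => g.val.det) h3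
      simp only [Units.val_pow_eq_pow_val, Matrix.det_pow, h, Units.val_one, Matrix.det_one] at e
      rw [pow_succ, pow_two, mat_dets.2.2.2.2, one_mul] at e
      exact absurd e mat_dets.2.2.2.1
  set A := K.comap π with hA
  have hAcard : Nat.card A = Nat.card π.ker * 3 := by
    have hle : π.ker ≤ A := MonoidHom.ker_le_comap _ _
    rw [Subgroup.card_eq_card_quotient_mul_card_subgroup (π.ker.subgroupOf A),
      Nat.card_congr (subgroupOfEquivOfLe hle).toEquiv, ← Subgroup.index_eq_card, ← relIndex, mul_comm]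
    congr 1
    rw [← MonoidHom.comap_bot, hA, Subgroup.relIndex_comap,
      Subgroup.map_comap_eq_self_of_surjective E.cov.surj, relIndex_bot_left, Nat.card_zpowers, hk]
  have hAodd : Odd (Nat.card A) := by rw [hAcard]; exact E.cov.odd.mul (by decide)
  have hwA : wC ∈ normalizer (A : Set (centralizer ({z} : Set G))) := by
    refine mem_normalizer_fintype fun a ha => ?_
    rw [SetLike.mem_coe, hA, mem_comap] at ha ⊢
    obtain ⟨i, hi⟩ := mem_zpowers_iff.1 ha
    rw [map_mul, map_mul, map_inv, ← hi, ← conj_zpow, hak]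
    exact zpow_mem (inv_mem (mem_zpowers k)) i
  have hw2 : orderOf wC = 2 := by rw [← orderOf_coe]; exact V.four.hw
  haveI : IsCyclic (zpowers wC) := inferInstance
  obtain ⟨S, hS⟩ := Coprime.exists_invariant_sylow r (A := zpowers wC) (K := A)
    ((zpowers_le).2 hwA) (by rw [Nat.card_zpowers, hw2]; exact Nat.coprime_two_left.2 hAodd)
    (Or.inl inferInstance)
  set P := ((S : Subgroup A).map A.subtype).map (centralizer ({z} : Set G)).subtype with hP
  have hPcard : Nat.card P = Nat.card S := by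
    rw [hP, card_map_of_injective (centralizer ({z} : Set G)).subtype_injective, card_map_of_injective A.subtype_injective]
  refine ⟨P, (S.isPGroup'.map _).map _, map_subtype_le _, ?_, ?_, ?_⟩
  · have h := hS (mem_zpowers wC)
    refine mem_normalizer_fintype fun p hp => ?_
    obtain ⟨a, ha, rfl⟩ := hp
    exact ⟨wC * a * wC⁻¹, (mem_normalizer_iff.1 h a).1 ha, rfl⟩
  · intro o ho hor
    obtain ⟨hoC, ho'⟩ := E.mem_O.1 ho
    have hoK : (⟨o, hoC⟩ : (centralizer ({z} : Set G))) ∈ π.ker := MonoidHom.mem_ker.2 ho'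
    have hoA : (⟨o, hoC⟩ : (centralizer ({z} : Set G))) ∈ A := MonoidHom.ker_le_comap _ _ hoK
    set oA : A := ⟨⟨o, hoC⟩, hoA⟩
    have hcent : ∀ a : A, a * oA = oA * a := fun a =>
      Subtype.ext (E.cov.comm a ⟨o, hoC⟩ hoK (hKdet _ a.2))
    obtain ⟨n, hn⟩ := hor
    have hpg : IsPGroup r (zpowers oA) := by
      rintro ⟨x, hx⟩
      obtain ⟨i, rfl⟩ := mem_zpowers_iff.1 hx
      refine ⟨n, Subtype.ext ?_⟩
      rw [coe_pow, ← zpow_natCast, ← zpow_mul, mul_comm, zpow_mul, zpow_natCast]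
      rw [show oA ^ (r ^ n) = 1 from Subtype.ext (Subtype.ext (by simpa [oA] using hn)), one_zpow]
      rfl
    obtain ⟨S', hS'⟩ := hpg.exists_le_sylow
    obtain ⟨a, ha⟩ := MulAction.exists_smul_eq A S' S
    have : oA ∈ S := by
      rw [← ha]
      refine ⟨oA, hS' (mem_zpowers _), ?_⟩
      change a * oA * a⁻¹ = oA
      rw [hcent, mul_inv_cancel_right]
    exact ⟨⟨o, hoC⟩, ⟨oA, this, rfl⟩, rfl⟩
  · obtain ⟨e, he⟩ : Nat.card S ∣ Nat.card A := card_subgroup_dvd_card _
    refine ⟨e * 16, ?_, ?_⟩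
    · rw [(Fact.out : r.Prime).dvd_mul, not_or]
      constructor
      · intro hre
        have hidx := S.not_dvd_index
        have h2 := (S : Subgroup A).card_mul_index
        rw [he] at h2
        exact hidx ((Nat.eq_of_mul_eq_mul_left Nat.card_pos h2) ▸ hre)
      · intro h16
        exact hr2 ((Nat.prime_dvd_prime_iff_eq Fact.out Nat.prime_two).1
          ((Fact.out : r.Prime).dvd_of_dvd_pow (n := 4) (by simpa using h16)))
    · rw [E.cov.card_C, hPcard, ← mul_assoc, ← he, hAcard]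
      ring

set_option maxHeartbeats 800000 in
/-- The core of the centralizer is trivial. -/
theorem core_trivial {π : centralizer ({z} : Set G) →* GL23} (E : Cov z w π) :
    Nat.card π.ker = 1 := by
  classical
  by_contra hn
  obtain ⟨r, hr, hrd, hr3⟩ : ∃ r : ℕ, r.Prime ∧ r ∣ Nat.card π.ker ∧
      (r = 3 → ∀ p : ℕ, p.Prime → p ∣ Nat.card π.ker → p = 3) := by
    by_cases h : ∃ p : ℕ, p.Prime ∧ p ∣ Nat.card π.ker ∧ p ≠ 3
    · obtain ⟨p, h1, h2, h3⟩ := h
      exact ⟨p, h1, h2, fun e => absurd e h3⟩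
    · push Not at h
      obtain ⟨p, h1, h2⟩ := Nat.exists_prime_and_dvd hn
      exact ⟨p, h1, h2, fun _ => h⟩
  haveI := Fact.mk hr
  have hr2 : r ≠ 2 := by
    rintro rfl
    exact absurd hrd (Nat.two_dvd_ne_zero.2 (Nat.odd_iff.1 E.cov.odd))
  have hall : r = 3 → ∀ g ∈ O z, Rel r g := by
    intro h3 g hg
    obtain ⟨hgC, hg'⟩ := E.mem_O.1 hg
    refine ⟨(Nat.card π.ker).primeFactorsList.length, ?_⟩
    have e : r ^ (Nat.card π.ker).primeFactorsList.length = Nat.card π.ker := by
      rw [h3]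
      exact (Nat.eq_prime_pow_of_unique_prime_dvd Nat.card_pos.ne' fun hq hd => hr3 h3 _ hq hd).symm
    rw [e]
    have := pow_card_eq_one' (G := π.ker) (x := ⟨⟨g, hgC⟩, MonoidHom.mem_ker.2 hg'⟩)
    simpa using congrArg (fun x : π.ker => ((x : centralizer ({z} : Set G)) : G)) this
  obtain ⟨o₀, ho₀⟩ := exists_prime_orderOf_dvd_card' (G := π.ker) r hrd
  have hne : ∃ o ∈ O z, Rel r o ∧ o ≠ 1 := by
    refine ⟨((o₀ : centralizer ({z} : Set G)) : G), E.mem_O.2 ⟨_, MonoidHom.mem_ker.1 o₀.2⟩,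
      ⟨1, ?_⟩, ?_⟩
    · rw [pow_one, ← orderOf_dvd_iff_pow_eq_one, orderOf_coe, orderOf_coe, ho₀]
    · intro h
      rw [show o₀ = 1 from Subtype.ext (Subtype.ext h), orderOf_one] at ho₀
      exact hr.one_lt.ne ho₀
  obtain ⟨P, hPr, hPC, hwP, hRP, m, hm, hcardC⟩ := exists_sylow S₀ hS₀ V E hr2
  set M := normalizer (P : Set G) with hM
  have hzP : ∀ p ∈ P, z * p = p * z := fun p hp => (mem_centralizer_singleton_iff.1 (hPC hp)).symm
  have hzM : z ∈ M := mem_normalizer_fintype fun p hp => by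
    rw [hzP p hp, mul_inv_cancel_right]; exact hp
  -- the involution is isolated in the normalizer
  have hiso : Cfsg.IsIsolatedInvolution (⟨z, hzM⟩ : M) := by
    refine ⟨by rw [← orderOf_coe]; exact V.four.hz, fun g hg => ?_⟩
    set y : G := (g : G) * z * (g : G)⁻¹ with hy
    have hyz : y * z = z * y := (congrArg Subtype.val hg.eq).symm
    obtain ⟨o, hoO, hor, ho1⟩ := hne
    have hy2 : orderOf y = 2 :=
      (orderOf_injective (MulAut.conj (g : G)).toMonoidHom (MulAut.conj (g : G)).injective z).trans V.four.hz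
    have hyo : y * o = o * y := by
      have h1 : (g : G)⁻¹ * o * g ∈ P := by
        have := (mem_normalizer_iff.1 (inv_mem g.2) o).1 (hRP o hoO hor)
        rwa [inv_inv] at this
      calc y * o = (g : G) * (z * ((g : G)⁻¹ * o * g)) * (g : G)⁻¹ := by rw [hy]; group
        _ = (g : G) * (((g : G)⁻¹ * o * g) * z) * (g : G)⁻¹ := by rw [hzP _ h1]
        _ = o * y := by rw [hy]; group
    obtain ⟨hoC, ho'⟩ := E.mem_O.1 hoO
    set yC : centralizer ({z} : Set G) := ⟨y, mem_centralizer_singleton_iff.2 hyz⟩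
    have hd : (π yC).val.det = 1 := det_of_cent E.cov (o := ⟨o, hoC⟩) (MonoidHom.mem_ker.2 ho')
      (fun h => ho1 (congrArg Subtype.val h)) (Subtype.ext hyo)
    have hy1 : yC * yC = 1 := Subtype.ext (sq_of_order_two hy2)
    refine Subtype.ext ?_
    change y = z
    by_cases h1 : π yC = 1
    · exfalso
      have := E.cov.sq_eq_one_ker (MonoidHom.mem_ker.2 h1) hy1
      have e : y = 1 := congrArg Subtype.val this
      rw [e, orderOf_one] at hy2; norm_num at hy2
    · have hT : π yC = T := by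
        by_contra hT
        exact det_invol (by rw [← map_mul, hy1, map_one]) h1 hT hd
      have hk : yC * GLTwoThree.Core.tC z ∈ π.ker := by
        rw [MonoidHom.mem_ker, map_mul, hT, show π (GLTwoThree.Core.tC z) = T from E.cov.hT,
          GLTwoThree.X_pow.2.2.1]
      have := E.cov.sq_eq_one_ker hk (Subtype.ext (by
        change y * z * (y * z) = 1
        rw [(show Commute z y from hyz.symm).mul_mul_mul_comm, sq_of_order_two hy2, V.zz, one_mul]))
      have e : y * z = 1 := congrArg Subtype.val this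
      rw [mul_eq_one_iff_eq_inv.1 e, inv_eq_of_mul_eq_one_right V.zz]
  haveI : Fact (Nat.Prime 2) := ⟨Nat.prime_two⟩
  set zM : M := ⟨z, hzM⟩ with hzM'
  obtain ⟨P2, hP2⟩ := (IsPGroup.of_card (G := zpowers zM) (p := 2) (n := 1)
    (by rw [Nat.card_zpowers, hiso.1, pow_one])).exists_le_sylow
  obtain ⟨N, hNn, hNodd, hNc⟩ := S0215.result P2 zM hiso.1 (hP2 (mem_zpowers _))
    ((Involutions.Isolated.iff_unique_in_sylow P2 hiso.1 (hP2 (mem_zpowers _))).1 hiso)
  -- the part centralizing `P`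
  set CP : Subgroup M := (centralizer (P : Set G)).subgroupOf M with hCP
  haveI : CP.Normal := by
    refine ⟨fun c hc g => ?_⟩
    rw [hCP, mem_subgroupOf, mem_centralizer_iff] at hc ⊢
    intro p hp
    have h1 : (g : G)⁻¹ * p * g ∈ P := by
      have := (mem_normalizer_iff.1 (inv_mem g.2) p).1 hp
      rwa [inv_inv] at this
    have h2 := hc _ h1
    calc p * ((g : G) * c * (g : G)⁻¹) = (g : G) * ((g : G)⁻¹ * p * g * c) * (g : G)⁻¹ := by group
      _ = (g : G) * (c * ((g : G)⁻¹ * p * g)) * (g : G)⁻¹ := by rw [h2]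
      _ = _ := by simp [mul_assoc]
  set N1 := N ⊓ CP with hN1
  have hzCP : zM ∈ CP := mem_subgroupOf.2 (mem_centralizer_iff.2 fun p hp => (hzP p hp).symm)
  have hcomm : ∀ g : M, zM * g * zM⁻¹ * g⁻¹ ∈ N1 := fun g =>
    ⟨hNc g, by
      rw [show zM * g * zM⁻¹ * g⁻¹ = zM * (g * zM⁻¹ * g⁻¹) by group]
      exact mul_mem hzCP ((inferInstance : CP.Normal).conj_mem _ (inv_mem hzCP) g)⟩
  have hN1odd : Odd (Nat.card N1) := Odd.of_dvd_nat hNodd (card_dvd_of_le inf_le_left)
  -- the four group and an invariant Sylow subgroup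
  set wM : M := ⟨w, hwP⟩ with hwM
  set Vg := zpowers zM ⊔ zpowers wM with hVg
  have hzwM : zM * wM = wM * zM := Subtype.ext V.four.comm.eq
  have hzz : zM * zM = 1 := Subtype.ext V.zz
  have hww : wM * wM = 1 := Subtype.ext V.ww
  have hVab : ∀ a ∈ Vg, ∀ b ∈ Vg, Commute a b := by
    have hle : Vg ≤ centralizer (Vg : Set M) := by
      have h1 : Vg ≤ centralizer ({zM, wM} : Set M) := by
        refine sup_le ?_ ?_ <;> rw [zpowers_le] <;> refine mem_centralizer_iff.2 ?_ <;>
          rintro x (rfl | rfl) <;> first | rfl | exact hzwM | exact hzwM.symm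
      rw [le_centralizer_iff, hVg]
      refine sup_le ?_ ?_ <;> rw [zpowers_le] <;> refine mem_centralizer_iff.2 fun x hx => ?_
      · exact (mem_centralizer_iff.1 (h1 hx) zM (Or.inl rfl)).symm
      · exact (mem_centralizer_iff.1 (h1 hx) wM (Or.inr rfl)).symm
    exact fun a ha b hb => (mem_centralizer_iff.1 (hle ha) b hb).symm
  have hV2 : IsPGroup 2 Vg := by
    rintro ⟨a, ha⟩
    refine ⟨1, Subtype.ext ?_⟩
    change a ^ 2 ^ 1 = 1
    rw [pow_one, pow_two]
    rw [hVg, zpowers_eq_closure, zpowers_eq_closure, ← Subgroup.closure_union] at ha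
    have hin : ∀ {x : M}, x ∈ closure ({zM} ∪ {wM} : Set M) → x ∈ Vg := fun {x} hx => by
      rw [hVg, zpowers_eq_closure, zpowers_eq_closure, ← Subgroup.closure_union]; exact hx
    induction ha using closure_induction with
    | mem x hx =>
      rcases hx with rfl | rfl
      · exact hzz
      · exact hww
    | one => exact one_mul 1
    | mul x y hx hy h1 h2 =>
      rw [(hVab y (hin hy) x (hin hx)).mul_mul_mul_comm, h1, h2, one_mul]
    | inv x _ h1 => rw [← mul_inv_rev, h1, inv_one]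
  obtain ⟨n2, hn2⟩ := IsPGroup.iff_card.1 hV2
  obtain ⟨Q, hQ⟩ := Coprime.exists_invariant_sylow r (A := Vg) (K := N1)
    (fun a _ => mem_normalizer_fintype fun x hx =>
      (inferInstance : N1.Normal).conj_mem x hx a)
    (by rw [hn2]; exact (Nat.coprime_two_left.2 hN1odd).pow_left n2)
    (Or.inl (haveI := hV2.isNilpotent; inferInstance))
  set Q' := ((Q : Subgroup N1).map N1.subtype).map M.subtype with hQ'
  have hQinv : ∀ a ∈ Vg, ∀ q ∈ Q', (a : G) * q * (a : G)⁻¹ ∈ Q' := by
    rintro a ha _ ⟨q, hq, rfl⟩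
    exact ⟨a * q * a⁻¹, (mem_normalizer_iff.1 (hQ ha) q).1 hq, rfl⟩
  have hQr : ∀ q ∈ Q', Rel r q := fun q hq => rel_of_mem ((Q.isPGroup'.map _).map _) hq
  have hQodd : ∀ q ∈ Q', Odd (orderOf q) := by
    rintro _ ⟨q, ⟨x, -, rfl⟩, rfl⟩
    refine Odd.of_dvd_nat hN1odd ?_
    rw [coe_subtype, coe_subtype, orderOf_coe, orderOf_coe]
    exact orderOf_dvd_natCard _
  have hQR : ∀ q ∈ Q', ∀ o ∈ O z, Rel r o → q * o = o * q := by
    rintro _ ⟨q, ⟨x, -, rfl⟩, rfl⟩ o ho hor
    exact (mem_centralizer_iff.1 (mem_subgroupOf.1 x.2.2) o (hRP o ho hor)).symm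
  have hzV : zM ∈ Vg := mem_sup_left (mem_zpowers _)
  have hwV : wM ∈ Vg := mem_sup_right (mem_zpowers _)
  have hinvQ : ∀ a : G, a * a = 1 → (∀ q ∈ Q', a * q * a⁻¹ ∈ Q') → Commute z a → Setting z a →
      ∀ q ∈ Q', a * q * a⁻¹ = q⁻¹ := by
    intro a haa haQ hza Va
    refine inverts_of_fpf haa haQ ?_
    have hi : ∀ q ∈ Q' ⊓ centralizer ({a} : Set G), z * q * z⁻¹ = q⁻¹ := by
      refine inverts_of_fpf V.zz (fun q hq => ⟨hQinv zM hzV q hq.1, ?_⟩) fun q hq hzq => ?_
      · refine mem_centralizer_singleton_iff.2 ?_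
        have h1 : Commute a q := (mem_centralizer_singleton_iff.1 hq.2).symm
        exact (((hza.symm).mul_right h1).mul_right hza.symm.inv_right).symm.eq
      · have ho := hQodd q hq.1
        refine eq_one_of_sq_of_odd ho (pow_orderOf_eq_one q) ?_
        rcases Va.four.cent q hzq.symm (mem_centralizer_singleton_iff.1 hq.2) with h | h | h | h <;>
          rw [h]
        · exact one_mul 1
        · exact V.zz
        · exact haa
        · rw [(hza.symm).mul_mul_mul_comm, V.zz, haa, one_mul]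
    intro q hq hqa
    exact Va.B_trivial S₀ hS₀ hr2 hall hne hqa.symm
      (hi q ⟨hq, mem_centralizer_singleton_iff.2 hqa.symm⟩) (hQr q hq) (hQR q hq)
  have hzw2 : z * w * (z * w) = 1 := by
    rw [V.four.comm.symm.mul_mul_mul_comm, V.zz, V.ww, one_mul]
  have hi1 := hinvQ w V.ww (hQinv wM hwV) V.four.comm V
  have hi2 := hinvQ (z * w) hzw2 (hQinv (zM * wM) (mul_mem hzV hwV))
    ((Commute.refl z).mul_right V.four.comm) (V.pair (Or.inl rfl) (Or.inr (Or.inr rfl)) V.mul_ne.1.symm)
  have hQz : ∀ q ∈ Q', z * q = q * z := by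
    intro q hq
    have h1 := hi2 q hq
    rw [show z * w * q * (z * w)⁻¹ = z * (w * q * w⁻¹) * z⁻¹ by group, hi1 q hq, ← conj_inv, inv_inj] at h1
    exact mul_inv_eq_iff_eq_mul.1 h1
  -- the Frattini argument
  set Cm := centralizer ({zM} : Set M) with hCm
  have hsup : N1 ⊔ Cm = ⊤ := by
    refine eq_top_iff.2 fun g _ => ?_
    set H := N1 ⊔ zpowers zM with hH
    have hgH : g * zM * g⁻¹ ∈ H := by
      rw [show g * zM * g⁻¹ = (zM * g * zM⁻¹ * g⁻¹)⁻¹ * zM by group]
      exact mul_mem (mem_sup_left (inv_mem (hcomm g))) (mem_sup_right (mem_zpowers _))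
    obtain ⟨h, hh, he⟩ := Involutions.Isolated.conj_within hiso H (mem_sup_right (mem_zpowers _)) g hgH
    obtain ⟨n, hn, x, hx, rfl⟩ := mem_sup_of_normal_left.1 hh
    have hxz : x * zM * x⁻¹ = zM := by
      obtain ⟨i, rfl⟩ := mem_zpowers_iff.1 hx
      rw [(Commute.zpow_self zM i).eq, mul_inv_cancel_right]
    rw [show n * x * zM * (n * x)⁻¹ = n * (x * zM * x⁻¹) * n⁻¹ by group, hxz] at he
    have : n⁻¹ * g ∈ Cm := mem_centralizer_singleton_iff.2 (by
      calc n⁻¹ * g * zM = n⁻¹ * (g * zM * g⁻¹) * g := by group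
        _ = zM * (n⁻¹ * g) := by rw [← he]; group)
    simpa using mul_mem (mem_sup_left (T := Cm) hn) (mem_sup_right (S := N1) this)
  have hcard : Nat.card M * Nat.card (Cm ⊓ N1 : Subgroup M) = Nat.card N1 * Nat.card Cm := by
    have h1 : N1.index = N1.relIndex Cm := by
      rw [← relIndex_top_right, ← hsup, sup_comm, relIndex_sup_right]
    have h2 := N1.card_mul_index
    have h3 := (N1.subgroupOf Cm).card_mul_index
    rw [← relIndex, ← h1] at h3
    have h4 : Nat.card (N1.subgroupOf Cm) = Nat.card (Cm ⊓ N1 : Subgroup M) := by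
      rw [inf_comm, ← inf_subgroupOf_right]
      exact Nat.card_congr (subgroupOfEquivOfLe inf_le_right).toEquiv
    rw [← h2, ← h3, h4]
    ring
  obtain ⟨e, he⟩ : Nat.card Q ∣ Nat.card N1 := card_subgroup_dvd_card _
  have hre : ¬ r ∣ e := by
    intro hre
    have h2 := (Q : Subgroup N1).card_mul_index
    rw [he] at h2
    exact Q.not_dvd_index ((Nat.eq_of_mul_eq_mul_left Nat.card_pos h2) ▸ hre)
  obtain ⟨f, hf⟩ : Nat.card Q ∣ Nat.card (Cm ⊓ N1 : Subgroup M) := by
    rw [← card_map_of_injective (f := N1.subtype) N1.subtype_injective]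
    refine card_dvd_of_le fun q hq => ⟨?_, map_subtype_le _ hq⟩
    exact mem_centralizer_singleton_iff.2 (Subtype.ext (hQz q ⟨q, hq, rfl⟩).symm)
  have hMC : Nat.card M * f = e * Nat.card Cm := by
    refine Nat.eq_of_mul_eq_mul_left (Nat.card_pos (α := Q)) ?_
    rw [← mul_assoc _ e, ← he, mul_left_comm, ← hf, hcard]
  have hCmC : Nat.card Cm ∣ Nat.card (centralizer ({z} : Set G)) := by
    rw [← card_map_of_injective (f := M.subtype) M.subtype_injective]
    refine card_dvd_of_le ?_
    rintro _ ⟨c, hc, rfl⟩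
    exact mem_centralizer_singleton_iff.2 (congrArg Subtype.val (mem_centralizer_singleton_iff.1 hc))
  have hPM : P ≤ M := le_normalizer
  -- so `P` is a Sylow subgroup
  obtain ⟨S, hS⟩ := hPr.exists_le_sylow
  have hPS : P = S := by
    by_contra hne'
    have hlt : P < S := lt_of_le_of_ne hS hne'
    haveI : Group.IsNilpotent (S : Subgroup G) := S.isPGroup'.isNilpotent
    have hnc := Group.normalizerCondition_of_isNilpotent (G := (S : Subgroup G))
      (P.subgroupOf S) (lt_top_iff_ne_top.2 fun h => hne' (le_antisymm hS (subgroupOf_eq_top.1 h)))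
    set L := (normalizer ((P.subgroupOf S : Subgroup S) : Set S)).map (S : Subgroup G).subtype with hL
    have hLM : L ≤ M := by
      rintro _ ⟨s, hs, rfl⟩
      refine mem_normalizer_fintype fun p hp => ?_
      exact (mem_normalizer_iff.1 hs ⟨p, hS hp⟩).1 hp
    have hPL : P < L := by
      have h := (map_lt_map_iff_of_injective (f := (S : Subgroup G).subtype)
        (S : Subgroup G).subtype_injective).2 hnc
      rwa [subgroupOf_map_subtype, inf_eq_left.2 hS] at h
    obtain ⟨k, hk⟩ := IsPGroup.iff_card.1 (S.isPGroup'.to_le (map_subtype_le _ : L ≤ S))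
    obtain ⟨l, hl⟩ := IsPGroup.iff_card.1 hPr
    have hlk : l < k := by
      rw [← Nat.pow_lt_pow_iff_right hr.one_lt, ← hk, ← hl]
      exact lt_of_le_of_ne (card_le_of_le hPL.le)
        fun h => hPL.ne (eq_of_le_of_card_ge hPL.le h.ge)
    have h1 : r ^ k ∣ e * Nat.card Cm := by
      rw [← hMC, ← hk]; exact (card_dvd_of_le hLM).mul_right f
    have h2 := (Nat.Coprime.pow_left k (hr.coprime_iff_not_dvd.2 hre)).dvd_of_dvd_mul_left h1
    have h3 := h2.trans hCmC
    rw [hcardC, hl, ← Nat.sub_add_cancel hlk.le, pow_add, mul_comm (r ^ (k - l))] at h3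
    have h4 : r ^ (k - l) ∣ m :=
      Nat.dvd_of_mul_dvd_mul_left (pow_pos hr.pos l) h3
    exact hm ((dvd_pow_self r (Nat.sub_ne_zero_of_lt hlk)).trans h4)
  -- but the order of the group is too large
  obtain ⟨hidx, hone⟩ := SDFacts.all_conj S₀ hS₀
  have hlin : ∀ lam : G →* ℂˣ, lam = 1 := by
    intro lam
    rcases IsSimpleGroup.eq_bot_or_eq_top_of_normal _ (MonoidHom.normal_ker lam) with h | h
    · exfalso
      have hinj := (MonoidHom.ker_eq_bot_iff lam).1 h
      have hab : ∀ a b : G, Commute a b := fun a b => hinj (by rw [map_mul, map_mul, mul_comm])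
      rcases V.four.cent (Classical.choose (exists_ne (1 : G))) (hab _ _) (hab _ _) with h' | h' | h' | h'
      all_goals
        obtain ⟨g, hg⟩ := V.perm w z (Or.inr (Or.inl rfl)) (Or.inl rfl) V.four.hne.symm |>.imp
          fun _ h => h.1
        rw [(hab g z).eq, mul_inv_cancel_right] at hg
        exact V.four.hne hg
    · exact MonoidHom.ext fun g => MonoidHom.mem_ker.1 (h ▸ mem_top g)
  have hord := E.cov.order_cases (fun u hu => hone z u V.four.hz hu) hlin
  obtain ⟨c, hc⟩ : Nat.card π.ker ^ 3 ∣ Nat.card G := by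
    rcases hord with h | h <;> rw [h] <;> exact dvd_mul_left _ _
  obtain ⟨l, hl⟩ := IsPGroup.iff_card.1 hPr
  set a := (Nat.card π.ker).factorization r with ha
  have ha1 : 1 ≤ a := hr.factorization_pos_of_dvd Nat.card_pos.ne' hrd
  have hl3 : r ^ (3 * a) ∣ Nat.card P := by
    rw [hPS]
    refine S.pow_dvd_card_of_pow_dvd_card ((pow_dvd_pow_of_dvd (Nat.ordProj_dvd _ r) 3).trans ⟨c, hc⟩
      |> fun h => ?_)
    rwa [mul_comm, pow_mul]
  have hla : Nat.card P ∣ r ^ (a + 1) := by
    rw [hl]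
    have h1 : r ^ l ∣ 48 * Nat.card π.ker := by
      rw [← E.cov.card_C, hcardC, hl]; exact dvd_mul_right _ _
    have h2 := (Nat.Prime.pow_dvd_iff_le_factorization hr (Nat.mul_ne_zero (by norm_num) Nat.card_pos.ne')).1 h1
    rw [Nat.factorization_mul (by norm_num) Nat.card_pos.ne', Finsupp.add_apply] at h2
    have h48 : (48 : ℕ).factorization r ≤ 1 := by
      by_contra h
      push Not at h
      have := (Nat.Prime.pow_dvd_iff_le_factorization hr (n := 48) (by norm_num)).2 h
      have h0 : r ∣ 2 ^ 4 * 3 := (dvd_pow_self r (by norm_num)).trans this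
      rcases hr.dvd_mul.1 h0 with h' | h'
      · exact hr2 ((Nat.prime_dvd_prime_iff_eq hr Nat.prime_two).1 (hr.dvd_of_dvd_pow h'))
      · rw [(Nat.prime_dvd_prime_iff_eq hr Nat.prime_three).1 h'] at this
        norm_num at this
    exact pow_dvd_pow r (by omega)
  have := Nat.pow_dvd_pow_iff_le_right hr.one_lt |>.1 (hl3.trans hla)
  omega

/-- The group is `PSL(3, 3)` or `M₁₁`. -/
theorem result :
    (∃ (F : Type) (_ : Field F) (_ : Fintype F), Fintype.card F = 3 ∧
      Nonempty (G ≃* Matrix.ProjectiveSpecialLinearGroup (Fin 3) F)) ∨ Cfsg.Spor.IsoM11 G := by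
  obtain ⟨π, E⟩ := V.exists_cov S₀ hS₀
  have h1 := core_trivial S₀ hS₀ V E
  have hinj : Function.Injective π :=
    (MonoidHom.ker_eq_bot_iff π).1 (eq_bot_of_card_eq _ h1)
  refine S2916.result ?_ z V.four.hz ⟨MulEquiv.ofBijective π ⟨hinj, E.cov.surj⟩⟩
  haveI : (Cfsg.pResidual 2 G).Normal := Transfer.NormalPComplement.pResidual_normal
  refine (IsSimpleGroup.eq_bot_or_eq_top_of_normal _ inferInstance).resolve_left fun hb => ?_
  haveI := Fact.mk Nat.prime_three
  obtain ⟨g, hg⟩ := exists_prime_orderOf_dvd_card' (G := G) 3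
    ((show 3 ∣ Nat.card (centralizer ({z} : Set G)) by rw [E.cov.card_C, h1]; norm_num).trans
      (card_subgroup_dvd_card _))
  have : g ∈ Cfsg.pResidual 2 G := subset_closure (by
    change Nat.Coprime (orderOf g) 2
    rw [hg]; norm_num)
  rw [hb, mem_bot] at this
  rw [this, orderOf_one] at hg
  norm_num at hg

end Cfsg.Agent.Perm.CubicInsoluble.CoreTrivial
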