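import Cfsg.Agent.S0205
import Cfsg.Agent.S0483
import Cfsg.Agent.S2119
import Cfsg.Agent.S3224
import Cfsg.Agent.S3331
import Cfsg.Agent.Lib.AutPSL.Out
import Cfsg.Agent.Lib.Cores.Basic
import Cfsg.Agent.Lib.GW.BenderComponentPSL
import Cfsg.Agent.Lib.Involutions.DihedralSylow
import Cfsg.Agent.Lib.Classical.SmallIso
import Cfsg.Agent.Lib.Classical.Linear
import Cfsg.Agent.Lib.PSLOrderSpectrum.Main
import Cfsg.Agent.Lib.Perm.CubicInsoluble.SDFacts

/-!
# A core-free maximal subgroup of an insoluble group isomorphic to the dihedral group of order 12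

The group is `Sym(5)`, `PGL₂(7)`, `PSL₂(11)` or `PSL₂(13)`.
-/

set_option autoImplicit false
set_option linter.style.haveILetI false
set_option linter.unusedSectionVars false

namespace Cfsg.Agent.Perm.CubicInsolubleDihedral

open Subgroup

universe u

/-- The order of `PGL₂(7)`. -/
theorem card_pgl_seven :
    Nat.card (GL (Fin 2) (ZMod 7) ⧸ Subgroup.center (GL (Fin 2) (ZMod 7))) = 336 := by
  haveI : Fact (Nat.Prime 7) := ⟨by norm_num⟩
  have h1 := card_eq_card_quotient_mul_card_subgroup (Subgroup.center (GL (Fin 2) (ZMod 7)))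
  have h2 : Nat.card (Subgroup.center (GL (Fin 2) (ZMod 7))) = 6 := by
    rw [Matrix.GeneralLinearGroup.center_eq_range_scalar]
    have hinj : Function.Injective (Matrix.GeneralLinearGroup.scalar (Fin 2) (R := ZMod 7)) := by
      intro a b h
      have h' := congrArg (fun g : GL (Fin 2) (ZMod 7) => (g : Matrix (Fin 2) (Fin 2) (ZMod 7)) 0 0) h
      exact Units.ext (by simpa using h')
    rw [← Nat.card_congr (MonoidHom.ofInjective hinj).toEquiv, Nat.card_units, Nat.card_zmod]
  have h3 : Nat.card (GL (Fin 2) (ZMod 7)) = 2016 := by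
    rw [Matrix.card_GL_field, Fin.prod_univ_two]
    simp [ZMod.card]
  rw [h2, h3] at h1
  omega

/-- `Aut PSL₂(7)` is `PGL₂(7)`. -/
theorem aut_psl_seven :
    Nonempty (MulAut (Matrix.ProjectiveSpecialLinearGroup (Fin 2) (ZMod 7)) ≃*
      GL (Fin 2) (ZMod 7) ⧸ Subgroup.center (GL (Fin 2) (ZMod 7))) := by
  haveI : Fact (Nat.Prime 7) := ⟨by norm_num⟩
  have hsurj : Function.Surjective (AutPSL.Basic.gAut (n := 2) (F := ZMod 7)) := fun β => by
    obtain ⟨g, σ, hgs⟩ := AutPSL.Out.exists_decomp_two β
    have hσ : σ = 1 := RingEquiv.ext fun a =>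
      RingHom.congr_fun (RingHom.ext_zmod σ.toRingHom (RingHom.id (ZMod 7))) a
    exact ⟨g, by rw [hgs, hσ, map_one, mul_one]⟩
  have hker : (AutPSL.Basic.gAut (n := 2) (F := ZMod 7)).ker =
      Subgroup.center (GL (Fin 2) (ZMod 7)) :=
    Subgroup.ext fun g => AutPSL.Out.gAut_eq_one_iff le_rfl g
  exact ⟨((QuotientGroup.quotientMulEquivOfEq hker.symm).trans
    (QuotientGroup.quotientKerEquivOfSurjective _ hsurj)).symm⟩

/-- A group with a normal subgroup `D` with trivial centraliser is determined by its order and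
`Aut D`. -/
theorem equiv_aut {G : Type u} [Group G] [Finite G] (D : Subgroup G) [D.Normal]
    (hC : centralizer (D : Set G) = ⊥) {A : Type*} [Group A] [Finite A] (e : MulAut D ≃* A)
    (hcard : Nat.card A ≤ Nat.card G) : Nonempty (G ≃* A) := by
  let f : G →* A := e.toMonoidHom.comp MulAut.conjNormal
  have hf : Function.Injective f := by
    refine (injective_iff_map_eq_one f).2 fun g hg => ?_
    have h1 : (MulAut.conjNormal g : MulAut D) = 1 := e.injective (hg.trans (map_one e).symm)
    have h2 : g ∈ centralizer (D : Set G) := mem_centralizer_iff.2 fun d hd => by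
      have h3 := congrArg (fun φ : MulAut D => ((φ ⟨d, hd⟩ : D) : G)) h1
      simp only [MulAut.conjNormal_apply, MulAut.one_apply] at h3
      exact (mul_inv_eq_iff_eq_mul.1 h3).symm
    rw [hC, mem_bot] at h2
    exact h2
  exact ⟨MulEquiv.ofBijective f ((Nat.bijective_iff_injective_and_card f).2
    ⟨hf, le_antisymm (Nat.card_le_card_of_injective f hf) hcard⟩)⟩

/-- An involution with fixed-point subgroup of odd order normalises only odd normal subgroups. -/
theorem odd_of_fixed_odd {G : Type u} [Group G] [Finite G] {z : G} (hz : orderOf z = 2)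
    (N : Subgroup G) [N.Normal] (h : Odd (Nat.card (centralizer ({z} : Set G) ⊓ N : Subgroup G))) :
    Odd (Nat.card N) := by
  haveI : Fact (Nat.Prime 2) := ⟨Nat.prime_two⟩
  by_contra hev
  obtain ⟨u, hu⟩ := exists_prime_orderOf_dvd_card' (G := N) 2
    (even_iff_two_dvd.1 (Nat.not_odd_iff_even.1 hev))
  rw [← orderOf_coe] at hu
  obtain ⟨S, hS⟩ := (IsPGroup.of_card (n := 1) (by rw [Nat.card_zpowers, hz, pow_one]) :
    IsPGroup 2 (zpowers z)).exists_le_sylow
  obtain ⟨g, hg⟩ := Involutions.DihedralSylow.exists_conj_mem S (u : G) ⟨1, by rw [hu, pow_one]⟩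
  set Q := (N ⊓ (S : Subgroup G)).subgroupOf (S : Subgroup G)
  haveI : Q.Normal := ⟨fun a ha b => by
    refine mem_subgroupOf.2 ⟨?_, (b * a * b⁻¹).2⟩
    exact (inferInstance : N.Normal).conj_mem (a : G) (mem_subgroupOf.1 ha).1 b⟩
  have hQ : Q ≠ ⊥ := fun e => by
    have hm : (⟨g * (u : G) * g⁻¹, hg⟩ : (S : Subgroup G)) ∈ Q :=
      mem_subgroupOf.2 ⟨(inferInstance : N.Normal).conj_mem _ u.2 g, hg⟩
    rw [e, mem_bot] at hm
    have h1 : g * (u : G) * g⁻¹ = 1 := congrArg Subtype.val hm
    rw [conj_eq_one_iff.1 h1, orderOf_one] at hu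
    omega
  haveI := S.2.isNilpotent
  obtain ⟨c, hc, hc1⟩ := (bot_or_exists_ne_one _).resolve_left (Cores.inf_center_ne_bot (N := Q) hQ)
  obtain ⟨hcQ, hcZ⟩ := mem_inf.1 hc
  have hcm : (c : G) ∈ centralizer ({z} : Set G) ⊓ N := by
    refine mem_inf.2 ⟨mem_centralizer_singleton_iff.2 ?_, (mem_subgroupOf.1 hcQ).1⟩
    exact (congrArg Subtype.val (mem_center_iff.1 hcZ ⟨z, hS (mem_zpowers z)⟩) :).symm
  have hd := Subgroup.orderOf_dvd_natCard _ hcm
  obtain ⟨k, hk⟩ := IsPGroup.iff_orderOf.1 S.2 c
  rw [← orderOf_coe] at hk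
  rcases k with _ | k
  · rw [pow_zero] at hk
    exact hc1 (Subtype.ext (orderOf_eq_one_iff.1 hk))
  · rw [hk, pow_succ] at hd
    exact Nat.not_even_iff_odd.2 h (even_iff_two_dvd.2 (dvd_trans (dvd_mul_left 2 _) hd))

theorem d12_facts :
    (∀ g : DihedralGroup 6, (∀ h : DihedralGroup 6, g * h = h * g) → g = 1 ∨ g = DihedralGroup.r 3) ∧
    (∀ g : DihedralGroup 6, DihedralGroup.r 3 * g = g * DihedralGroup.r 3) ∧
    (∀ x : DihedralGroup 6, x ^ 3 = 1 → x = 1 ∨ x = DihedralGroup.r 2 ∨ x = DihedralGroup.r 4) ∧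
    (∀ x g : DihedralGroup 6, x ^ 3 = 1 → x ≠ 1 → g * x = x * g →
      g ^ 3 = 1 ∨ g ^ 3 = DihedralGroup.r 3) ∧
    (∀ u : DihedralGroup 6, u * u = 1 → u ≠ 1 → u ≠ DihedralGroup.r 3 →
      (DihedralGroup.r 1 * u * (DihedralGroup.r 1)⁻¹ * u⁻¹ = DihedralGroup.r 2 ∨
        DihedralGroup.r 1 * u * (DihedralGroup.r 1)⁻¹ * u⁻¹ = DihedralGroup.r 4)) ∧
    (DihedralGroup.r 2 * DihedralGroup.r 2 = (DihedralGroup.r 4 : DihedralGroup 6)) ∧
    (DihedralGroup.r 4 * DihedralGroup.r 4 = (DihedralGroup.r 2 : DihedralGroup 6)) := by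
  refine ⟨by decide, by decide, by decide, by decide, by decide, by decide, by decide⟩

variable {G : Type u} [Group G] [Finite G]

/-- The simple case: the Sylow 2-subgroups are four-groups. -/
theorem psl_of_simple [IsSimpleGroup G] (hnab : ¬ IsMulCommutative G) {z : G} (hz : orderOf z = 2)
    (hC : Nat.card (centralizer ({z} : Set G)) = 12) :
    Nonempty (G ≃* Matrix.ProjectiveSpecialLinearGroup (Fin 2) (ZMod 11)) ∨
      Nonempty (G ≃* Matrix.ProjectiveSpecialLinearGroup (Fin 2) (ZMod 13)) := by
  classical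
  haveI : Fact (Nat.Prime 2) := ⟨Nat.prime_two⟩
  -- a Sylow subgroup meeting the centraliser in a four-group
  obtain ⟨W⟩ := (inferInstance : Nonempty (Sylow 2 (centralizer ({z} : Set G))))
  have hW : Nat.card (W : Subgroup (centralizer ({z} : Set G))) = 4 := by
    rw [W.card_eq_multiplicity, hC]; decide +kernel
  obtain ⟨S, hS⟩ := (W.2.map (centralizer ({z} : Set G)).subtype).exists_le_sylow
  set V := (W : Subgroup (centralizer ({z} : Set G))).map (centralizer ({z} : Set G)).subtype with hVdef
  have hV : Nat.card V = 4 := by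
    rw [hVdef, card_map_of_injective (subtype_injective _), hW]
  have hzV : z ∈ V := by
    refine ⟨⟨z, mem_centralizer_singleton_iff.2 rfl⟩, ?_, rfl⟩
    have hZ : IsPGroup 2 (zpowers (⟨z, mem_centralizer_singleton_iff.2 rfl⟩ : centralizer ({z} : Set G))) :=
      IsPGroup.of_card (n := 1) (by rw [Nat.card_zpowers, orderOf_mk, hz, pow_one])
    haveI : (zpowers (⟨z, mem_centralizer_singleton_iff.2 rfl⟩ : centralizer ({z} : Set G))).Normal :=
      ⟨fun a ha b => by
        obtain ⟨k, rfl⟩ := mem_zpowers_iff.1 ha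
        have hb : b * ⟨z, mem_centralizer_singleton_iff.2 rfl⟩ =
            ⟨z, mem_centralizer_singleton_iff.2 rfl⟩ * b :=
          Subtype.ext (mem_centralizer_singleton_iff.1 b.2)
        rw [((show Commute b _ from hb).zpow_right k).eq, mul_inv_cancel_right]
        exact zpow_mem (mem_zpowers _) k⟩
    exact (Cores.le_pCore hZ).trans (Cores.pCore_le_sylow W) (mem_zpowers _)
  have hzS : z ∈ (S : Subgroup G) := hS hzV
  have hCS : Nat.card (centralizer ({(⟨z, hzS⟩ : (S : Subgroup G))} : Set (S : Subgroup G))) = 4 := by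
    have e : (centralizer ({(⟨z, hzS⟩ : (S : Subgroup G))} : Set (S : Subgroup G))).map
        (S : Subgroup G).subtype = (S : Subgroup G) ⊓ centralizer ({z} : Set G) := by
      ext x
      simp only [Subgroup.mem_map, mem_inf, mem_centralizer_singleton_iff, Subgroup.subtype_apply]
      constructor
      · rintro ⟨y, hy, rfl⟩
        exact ⟨y.2, congrArg Subtype.val hy⟩
      · rintro ⟨hx, hc⟩
        exact ⟨⟨x, hx⟩, Subtype.ext hc, rfl⟩
    have h1 : V ≤ (S : Subgroup G) ⊓ centralizer ({z} : Set G) := le_inf hS (map_subtype_le _)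
    obtain ⟨k, hk⟩ := IsPGroup.iff_card.1
      (S.2.to_le (inf_le_left : (S : Subgroup G) ⊓ centralizer ({z} : Set G) ≤ S))
    have h12 := card_dvd_of_le (inf_le_right : (S : Subgroup G) ⊓ centralizer ({z} : Set G) ≤ _)
    have h4 := card_le_of_le h1
    rw [hV] at h4
    rw [hC, hk] at h12
    rw [← card_map_of_injective (subtype_injective (S : Subgroup G)), e, hk]
    rw [hk] at h4
    have hk4 : 2 ^ k ≤ 12 := Nat.le_of_dvd (by norm_num) h12
    have hk3 : k ≤ 3 := by
      by_contra hh
      have := Nat.pow_le_pow_right two_pos (show 4 ≤ k by omega)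
      omega
    interval_cases k <;> omega
  have hzo : orderOf (⟨z, hzS⟩ : (S : Subgroup G)) = 2 := by rw [orderOf_mk, hz]
  have h2G : 2 < Nat.card G :=
    lt_of_lt_of_le (by norm_num) (hV ▸ Nat.le_of_dvd Nat.card_pos (card_subgroup_dvd_card V))
  have hidx := Involutions.BrauerFowler.no_index_two (G := G) h2G
  -- if all involutions are conjugate to a central one the Sylow subgroup is `V`
  have hfour : ∀ c ∈ (S : Subgroup G), IsConj z c → (∀ s ∈ (S : Subgroup G), s * c = c * s) →
      Nat.card (S : Subgroup G) = 4 := by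
    intro c hcS hconj hcc
    obtain ⟨g, hg⟩ := isConj_iff.1 hconj
    have hle : (S : Subgroup G).map (MulAut.conj g⁻¹).toMonoidHom ≤ centralizer ({z} : Set G) := by
      rintro _ ⟨s, hs, rfl⟩
      refine mem_centralizer_singleton_iff.2 ?_
      show g⁻¹ * s * g⁻¹⁻¹ * z = z * (g⁻¹ * s * g⁻¹⁻¹)
      rw [show z = g⁻¹ * c * g by rw [← hg]; group]
      have := hcc s hs
      calc g⁻¹ * s * g⁻¹⁻¹ * (g⁻¹ * c * g) = g⁻¹ * (s * c) * g := by group
        _ = g⁻¹ * c * g * (g⁻¹ * s * g⁻¹⁻¹) := by rw [this]; group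
    have hd := card_dvd_of_le hle
    rw [card_map_of_injective (f := (MulAut.conj g⁻¹).toMonoidHom) (MulAut.conj g⁻¹).injective,
      hC] at hd
    obtain ⟨k, hk⟩ := IsPGroup.iff_card.1 S.2
    have h4 := card_le_of_le hS
    rw [hV, hk] at h4
    rw [hk] at hd ⊢
    have hk4 : 2 ^ k ≤ 12 := Nat.le_of_dvd (by norm_num) hd
    have hk3 : k ≤ 3 := by
      by_contra hh
      have := Nat.pow_le_pow_right two_pos (show 4 ≤ k by omega)
      omega
    interval_cases k <;> omega
  have hS4 : Nat.card (S : Subgroup G) = 4 := by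
    rcases S3224.result S.2 _ hzo hCS with ⟨m, ⟨e⟩⟩ | hq | h4
    · by_contra hne
      have hm : Nat.card (S : Subgroup G) = 2 * m := by
        rw [Nat.card_congr e.toEquiv, DihedralGroup.nat_card]
      have h4 := card_le_of_le hS
      rw [hV, hm] at h4
      have hm2 := Involutions.DihedralSylow.two_dvd S e (by omega)
      refine hne (hfour _ ?_ (Involutions.DihedralSylow.isConj_z_of_no_index_two S e hm2 (by omega)
        hidx hz) fun s hs => ?_)
      · exact SetLike.coe_mem _
      · exact mul_inv_eq_iff_eq_mul.1 (Involutions.DihedralSylow.z_conj S e hm2 hs)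
    · obtain ⟨c, -, hc, hcc, -, -, -, -⟩ := Perm.CubicInsoluble.SDFacts.involutions hq
      obtain ⟨-, hall⟩ := Perm.CubicInsoluble.SDFacts.all_conj S hq
      exact hfour c c.2 (hall z c hz (by rw [orderOf_coe, hc]))
        fun s hs => congrArg Subtype.val (hcc ⟨s, hs⟩)
    · exact h4
  -- the Sylow subgroup is a four-group
  have hVS : V = (S : Subgroup G) := eq_of_le_of_card_ge hS (by rw [hS4, hV])
  haveI hperf : Group.IsPerfect G := ⟨by
    refine (IsSimpleGroup.eq_bot_or_eq_top_of_normal _ inferInstance).resolve_left fun h => hnab ?_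
    refine ⟨⟨fun a b => ?_⟩⟩
    have := Subgroup.commutator_mem_commutator (mem_top a) (mem_top b)
    rw [← _root_.commutator_def, h, mem_bot] at this
    exact commutatorElement_eq_one_iff_mul_comm.1 this⟩
  have heven : Even (Nat.card G) := even_iff_two_dvd.2
    (hz ▸ orderOf_dvd_natCard z)
  have hncyc : ¬ IsCyclic (S : Subgroup G) := fun hcyc => by
    obtain ⟨K, hK⟩ := Involutions.ThompsonTransfer.exists_index_two_of_isCyclic_sylow heven S hcyc
    exact hidx K hK
  haveI : IsKleinFour (S : Subgroup G) := {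
    card_four := hS4
    exponent_two := by
      have hall : ∀ s : (S : Subgroup G), s ^ 2 = 1 := fun s => by
        have hd := orderOf_dvd_natCard s
        rw [hS4] at hd
        obtain ⟨k, hk, hke⟩ := (Nat.dvd_prime_pow Nat.prime_two (m := 2)).1 (by simpa using hd)
        rcases (show k = 0 ∨ k = 1 ∨ k = 2 by omega) with rfl | rfl | rfl
        · rw [(orderOf_eq_one_iff (x := s)).1 (by simpa using hke), one_pow]
        · exact orderOf_dvd_iff_pow_eq_one.1 (dvd_of_eq (by simpa using hke))
        · exact (hncyc (isCyclic_of_orderOf_eq_card s (by rw [hke, hS4]; rfl))).elim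
      rcases (Nat.dvd_prime Nat.prime_two).1 (Monoid.exponent_dvd_of_forall_pow_eq_one hall) with h | h
      · haveI : Subsingleton (S : Subgroup G) := Monoid.exp_eq_one_iff.1 h
        exact (hncyc inferInstance).elim
      · exact h }
  obtain ⟨e⟩ : Nonempty ((S : Subgroup G) ≃* DihedralGroup 2) := IsKleinFour.nonempty_mulEquiv
  have hO : Cfsg.oddCore G = ⊥ := by
    refine (IsSimpleGroup.eq_bot_or_eq_top_of_normal _ (inferInstance : (Cfsg.oddCore G).Normal)).resolve_right
      fun h => ?_
    have h1 := Cores.oddCore_odd (G := G)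
    rw [h, card_top] at h1
    exact Nat.not_even_iff_odd.2 h1 heven
  rcases S0483.result S 2 le_rfl ⟨e⟩ with ⟨F, _, _, hodd, h3, ⟨f⟩⟩ | ⟨⟨f⟩⟩
  · have g : G ≃* Matrix.ProjectiveSpecialLinearGroup (Fin 2) F :=
      ((QuotientGroup.quotientMulEquivOfEq hO).trans QuotientGroup.quotientBot).symm.trans f
    have hgz : orderOf (g z) = 2 := by rw [MulEquiv.orderOf_eq, hz]
    have hcard : Nat.card (centralizer ({g z} : Set (Matrix.ProjectiveSpecialLinearGroup (Fin 2) F))) = 12 := by
      rw [← hC]
      refine Nat.card_congr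
        { toFun := fun x => ⟨g.symm x, mem_centralizer_singleton_iff.2 (g.injective (by
            simpa using mem_centralizer_singleton_iff.1 x.2))⟩
          invFun := fun x => ⟨g x, mem_centralizer_singleton_iff.2 (by
            rw [← map_mul, ← map_mul, mem_centralizer_singleton_iff.1 x.2])⟩
          left_inv := fun x => Subtype.ext (g.apply_symm_apply _)
          right_inv := fun x => Subtype.ext (g.symm_apply_apply _) }
    have hfin : ∀ p : ℕ, p.Prime → Fintype.card F = p →
        Nonempty (G ≃* Matrix.ProjectiveSpecialLinearGroup (Fin 2) (ZMod p)) := fun p hp hFp => by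
      haveI : Fact p.Prime := ⟨hp⟩
      exact ⟨g.trans (Classical.SmallIso.pslCongr (FiniteField.ringEquivOfCardEq (hFp.trans (ZMod.card p).symm)))⟩
    rcases GW.ComponentPSL.centralizer_cases hodd hgz with h | h <;> rw [hcard] at h
    · exact Or.inr (hfin 13 (by norm_num) (by omega))
    · exact Or.inl (hfin 11 (by norm_num) (by omega))
  · exfalso
    have g : G ≃* alternatingGroup (Fin 7) :=
      ((QuotientGroup.quotientMulEquivOfEq hO).trans QuotientGroup.quotientBot).symm.trans f
    have h8 : 8 ∣ Nat.card G := by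
      rw [Nat.card_congr g.toEquiv, nat_card_alternatingGroup, Nat.card_eq_fintype_card,
        Fintype.card_fin]
      decide +kernel
    have h2k : 8 ∣ Nat.card (S : Subgroup G) :=
      S.pow_dvd_card_of_pow_dvd_card (n := 3) (by simpa using h8)
    rw [hS4] at h2k
    norm_num at h2k

/-- An insoluble group with a core-free maximal subgroup `D₁₂`. -/
theorem cases_of_dihedral (hsol : ¬ Group.IsSolvable G) {H : Subgroup G} (hmax : IsCoatom H)
    (hcore : H.normalCore = ⊥) (e : H ≃* DihedralGroup 6) :
    Nonempty (G ≃* Equiv.Perm (Fin 5)) ∨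
      Nonempty (G ≃* GL (Fin 2) (ZMod 7) ⧸ Subgroup.center (GL (Fin 2) (ZMod 7))) ∨
      Nonempty (G ≃* Matrix.ProjectiveSpecialLinearGroup (Fin 2) (ZMod 11)) ∨
      Nonempty (G ≃* Matrix.ProjectiveSpecialLinearGroup (Fin 2) (ZMod 13)) := by
  classical
  haveI : Fact (Nat.Prime 2) := ⟨Nat.prime_two⟩
  haveI : Fact (Nat.Prime 3) := ⟨Nat.prime_three⟩
  obtain ⟨fc, fz, f3, fcent, fu, f22, f44⟩ := d12_facts
  have h12 : Nat.card H = 12 := by rw [Nat.card_congr e.toEquiv, DihedralGroup.nat_card]
  have heH : ∀ (g : G) (hg : g ∈ H) (h : G) (hh : h ∈ H),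
      e ⟨g, hg⟩ * e ⟨h, hh⟩ = e ⟨h, hh⟩ * e ⟨g, hg⟩ → g * h = h * g := fun g hg h hh he =>
    congrArg Subtype.val (e.injective (show e (⟨g, hg⟩ * ⟨h, hh⟩) = e (⟨h, hh⟩ * ⟨g, hg⟩) by
      rw [map_mul, map_mul]; exact he))
  set zH : H := e.symm (DihedralGroup.r 3) with hzH
  set z : G := (zH : G) with hzdef
  have hezH : e zH = DihedralGroup.r 3 := e.apply_symm_apply _
  have hz : orderOf z = 2 := by
    rw [hzdef, orderOf_coe, hzH, MulEquiv.orderOf_eq, DihedralGroup.orderOf_r]
    decide +kernel
  have hz1 : z ≠ 1 := fun h => by rw [h, orderOf_one] at hz; omega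
  -- a subgroup normalised by `H` but not normal has normaliser `H`
  have hnorm : ∀ B : Subgroup G, B ≤ H → B ≠ ⊥ → H ≤ normalizer (B : Set G) →
      normalizer (B : Set G) = H := by
    intro B hBH hB hHN
    refine (hmax.le_iff.1 hHN).resolve_left fun htop => hB ?_
    haveI := normalizer_eq_top_iff.1 htop
    have hle : B ≤ H.normalCore := normal_le_normalCore.2 hBH
    rwa [hcore, le_bot_iff] at hle
  have hHC : H ≤ centralizer ({z} : Set G) := fun g hg => mem_centralizer_singleton_iff.2
    (heH g hg z zH.2 (by rw [show (⟨z, zH.2⟩ : H) = zH from rfl, hezH, fz]))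
  have hCz : centralizer ({z} : Set G) = H := by
    refine le_antisymm ?_ hHC
    have hcl : centralizer ({z} : Set G) = centralizer ((zpowers z : Subgroup G) : Set G) := by
      rw [zpowers_eq_closure, centralizer_closure]
    rw [← hnorm (zpowers z) (zpowers_le.2 zH.2) (zpowers_ne_bot.2 hz1) ?_, hcl]
    · exact centralizer_le_normalizer _
    · exact hHC.trans (hcl.le.trans (centralizer_le_normalizer _))
  -- every nontrivial normal subgroup supplements `H`, and is insoluble
  haveI hHsol : Group.IsSolvable (DihedralGroup 6) := by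
    haveI : Group.IsSolvable (zpowers (DihedralGroup.r 1 : DihedralGroup 6)) :=
      Group.isSolvable_of_comm fun a b => setLike_mul_comm a.2 b.2 |> fun h => Subtype.ext h
    haveI hn : (zpowers (DihedralGroup.r 1 : DihedralGroup 6)).Normal := normal_of_index_eq_two (by
      have h := card_mul_index (zpowers (DihedralGroup.r 1 : DihedralGroup 6))
      rw [Nat.card_zpowers, DihedralGroup.orderOf_r_one, DihedralGroup.nat_card] at h
      omega)
    refine (Group.isSolvable_iff_subgroup_quotient (zpowers (DihedralGroup.r 1 : DihedralGroup 6))).2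
      ⟨inferInstance, ?_⟩
    haveI : IsCyclic (DihedralGroup 6 ⧸ zpowers (DihedralGroup.r 1 : DihedralGroup 6)) :=
      isCyclic_of_prime_card (p := 2) (by
        rw [← index_eq_card]
        have h := card_mul_index (zpowers (DihedralGroup.r 1 : DihedralGroup 6))
        rw [Nat.card_zpowers, DihedralGroup.orderOf_r_one, DihedralGroup.nat_card] at h
        omega)
    haveI := IsCyclic.isMulCommutative
      (α := DihedralGroup 6 ⧸ zpowers (DihedralGroup.r 1 : DihedralGroup 6))
    infer_instance
  haveI : Group.IsSolvable H := Group.isSolvable_of_isSolvable_injective (f := e.toMonoidHom) e.injective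
  have hsupp : ∀ N : Subgroup G, N.Normal → N ≠ ⊥ →
      ∀ g : G, ∃ h ∈ H, ∃ n ∈ N, g = h * n := by
    intro N hN hne g
    have hNH : ¬ N ≤ H := fun h => hne (le_bot_iff.1 (hcore ▸ normal_le_normalCore.2 h))
    have htop : H ⊔ N = ⊤ := (hmax.le_iff.1 le_sup_left).resolve_right fun h =>
      hNH (h ▸ le_sup_right)
    have hg : g ∈ ((H ⊔ N : Subgroup G) : Set G) := by rw [htop]; trivial
    rw [mul_normal H N] at hg
    obtain ⟨h, hh, m, hm, e⟩ := hg
    exact ⟨h, hh, m, hm, e.symm⟩
  have hquot : ∀ (N : Subgroup G) [N.Normal], N ≠ ⊥ → Function.Surjective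
      ((QuotientGroup.mk' N).comp H.subtype) := by
    intro N _ hne q
    obtain ⟨g, rfl⟩ := QuotientGroup.mk'_surjective N q
    obtain ⟨h, hh, n, hn, rfl⟩ := hsupp N inferInstance hne g
    refine ⟨⟨h, hh⟩, ?_⟩
    show QuotientGroup.mk' N h = QuotientGroup.mk' N (h * n)
    rw [map_mul, show QuotientGroup.mk' N n = 1 from (QuotientGroup.eq_one_iff n).2 hn, mul_one]
  have hNsol : ∀ (N : Subgroup G) [N.Normal], N ≠ ⊥ → ¬ Group.IsSolvable N := fun N _ hne hs =>
    hsol ((Group.isSolvable_iff_subgroup_quotient N).2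
      ⟨hs, Group.isSolvable_of_surjective (hquot N hne)⟩)
  -- the least nontrivial normal subgroup
  obtain ⟨D, ⟨hDn, hD1⟩, hDmin⟩ := (Set.toFinite {N : Subgroup G | N.Normal ∧ N ≠ ⊥}).exists_minimal
    ⟨⊤, inferInstance, fun h => hsol (Group.isSolvable_of_top_eq_bot G h)⟩
  haveI := hDn
  have hDperf : ⁅D, D⁆ = D := by
    refine le_antisymm (commutator_le_self D) (hDmin ⟨inferInstance, fun h => ?_⟩ (commutator_le_self D))
    exact hNsol D hD1 (Group.isSolvable_of_comm fun a b => Subtype.ext
      (commutatorElement_eq_one_iff_mul_comm.1 (mem_bot.1 (h ▸ commutator_mem_commutator a.2 b.2))))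
  haveI hDP : Group.IsPerfect D := ⟨by
    refine map_injective D.subtype_injective ?_
    rw [_root_.commutator_def, map_commutator, ← MonoidHom.range_eq_map, range_subtype, hDperf]⟩
  have hleast : ∀ N : Subgroup G, N.Normal → N ≠ ⊥ → D ≤ N := by
    intro N hN hne
    by_contra hnle
    have hbot : D ⊓ N = ⊥ := by
      by_contra h
      exact hnle ((hDmin ⟨inferInstance, h⟩ inf_le_left).trans inf_le_right)
    let q : D →* G ⧸ N := (QuotientGroup.mk' N).comp D.subtype
    have hq : Function.Injective q := (injective_iff_map_eq_one q).2 fun d hd => Subtype.ext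
      (mem_bot.1 (hbot ▸ mem_inf.2 ⟨d.2, (QuotientGroup.eq_one_iff (d : G)).1 hd⟩))
    haveI : Group.IsSolvable (G ⧸ N) := Group.isSolvable_of_surjective (hquot N hne)
    exact hNsol D hD1 (Group.isSolvable_of_isSolvable_injective hq)
  have hCD : centralizer (D : Set G) = ⊥ := by
    by_contra h
    have hle := hleast _ inferInstance h
    exact hNsol D hD1 (Group.isSolvable_of_comm fun a b =>
      Subtype.ext (mem_centralizer_iff.1 (hle b.2) a a.2))
  have hDtop_or : ∀ q : ℕ, Nat.card (D ⊓ H : Subgroup G) = q → D.index * q = 12 := by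
    intro q hq
    have hsurj := hquot D hD1
    have hk : ((QuotientGroup.mk' D).comp H.subtype).ker = D.subgroupOf H := by
      ext x
      simp [MonoidHom.mem_ker, mem_subgroupOf, QuotientGroup.eq_one_iff]
    have h1 := card_mul_index ((QuotientGroup.mk' D).comp H.subtype).ker
    rw [index_ker, MonoidHom.range_eq_top.2 hsurj, card_top, h12, hk] at h1
    rw [← h1, index_eq_card, mul_comm, ← hq, ← inf_subgroupOf_right,
      Nat.card_congr (subgroupOfEquivOfLe (inf_le_right : D ⊓ H ≤ H)).toEquiv]
  -- `X` of order three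
  set xH : H := e.symm (DihedralGroup.r 2) with hxH
  have hexH : e xH = DihedralGroup.r 2 := e.apply_symm_apply _
  have hx : orderOf (xH : G) = 3 := by
    rw [orderOf_coe, hxH, MulEquiv.orderOf_eq, DihedralGroup.orderOf_r]
    decide +kernel
  by_cases hzD : z ∈ D
  · -- `G` is simple
    have hDH : H ≤ D := by
      by_contra hnle
      -- a Sylow 2-subgroup of `D` has order two
      set K := D ⊓ H
      have hK : Nat.card K ∣ 12 := h12 ▸ card_dvd_of_le inf_le_right
      have hK4 : ¬ 4 ∣ Nat.card K := by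
        intro h4
        obtain ⟨u, hu, huz⟩ : ∃ u : K, orderOf u = 2 ∧ (u : G) ≠ z := by
          obtain ⟨W⟩ := (inferInstance : Nonempty (Sylow 2 K))
          have hW : Nat.card (W : Subgroup K) = 4 := by
            obtain ⟨k, hk⟩ := IsPGroup.iff_card.1 W.2
            have h1 := W.pow_dvd_card_of_pow_dvd_card (n := 2) (by simpa using h4)
            have h2 := (card_subgroup_dvd_card (W : Subgroup K)).trans hK
            rw [hk] at h1 h2 ⊢
            have hk4 : 2 ^ k ≤ 12 := Nat.le_of_dvd (by norm_num) h2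
            have hk3 : k ≤ 3 := by
              by_contra hh
              have := Nat.pow_le_pow_right two_pos (show 4 ≤ k by omega)
              omega
            interval_cases k <;> omega
          haveI := Fintype.ofFinite (W : Subgroup K)
          by_contra hno
          push Not at hno
          -- all nontrivial elements of `W` would equal `z`, as `D₁₂` has no elements of order four
          have hex : ∀ w : (W : Subgroup K), w ≠ 1 → ((w : K) : G) = z := by
            intro w hw
            have ho : orderOf (w : K) ∣ 4 := hW ▸ Subgroup.orderOf_dvd_natCard _ w.2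
            obtain ⟨k, hk, hke⟩ := (Nat.dvd_prime_pow Nat.prime_two (m := 2)).1 (by simpa using ho)
            interval_cases k
            · exact absurd (Subtype.ext (orderOf_eq_one_iff.1 (by simpa using hke))) hw
            · exact hno (w : K) (by simpa using hke)
            · exfalso
              have h6 : ∀ g : DihedralGroup 6, g ^ 4 = 1 → g ^ 2 = 1 := by decide
              have hwH : ((w : K) : G) ∈ H := (mem_inf.1 (w : K).2).2
              have he4 : orderOf (e ⟨_, hwH⟩) = 4 := by
                rw [MulEquiv.orderOf_eq, orderOf_mk, orderOf_coe]; simpa using hke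
              have := orderOf_dvd_of_pow_eq_one (h6 _ (he4 ▸ pow_orderOf_eq_one _))
              rw [he4] at this
              norm_num at this
          have hle : Nat.card (W : Subgroup K) ≤ 2 := by
            refine le_trans (Nat.card_le_card_of_injective (fun w : (W : Subgroup K) =>
              decide (w = 1)) fun a b hab => ?_) (le_of_eq (by simp))
            simp only [decide_eq_decide] at hab
            by_cases ha : a = 1
            · rw [ha, hab.1 ha]
            · exact Subtype.ext (Subtype.ext ((hex a ha).trans (hex b (fun hb => ha (hab.2 hb))).symm))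
          omega
        -- then the commutator with an element of order six puts `X` into `D`
        have huH : (u : G) ∈ H := (mem_inf.1 u.2).2
        have hu1 : e ⟨_, huH⟩ ≠ 1 := fun h => by
          have h1 := (EmbeddingLike.map_eq_one_iff (f := e)).1 h
          have h2 : u = 1 := Subtype.ext (congrArg Subtype.val h1 :)
          rw [h2, orderOf_one] at hu
          omega
        have hu3 : e ⟨_, huH⟩ ≠ DihedralGroup.r 3 := fun h =>
          huz (congrArg Subtype.val (e.injective (h.trans hezH.symm)) :)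
        have huu : e ⟨_, huH⟩ * e ⟨_, huH⟩ = 1 := by
          rw [← map_mul, ← map_one e]
          exact congrArg e (Subtype.ext (congrArg Subtype.val
            (show u * u = 1 by rw [← sq, ← hu, pow_orderOf_eq_one]) :))
        set r1 : H := e.symm (DihedralGroup.r 1)
        have hcm : ((r1 * ⟨_, huH⟩ * r1⁻¹ * ⟨_, huH⟩⁻¹ : H) : G) ∈ D := by
          simp only [Subgroup.coe_mul, Subgroup.coe_inv]
          exact mul_mem (hDn.conj_mem _ (mem_inf.1 u.2).1 _) (inv_mem (mem_inf.1 u.2).1)
        have hxD : (xH : G) ∈ D := by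
          have he : e (r1 * ⟨_, huH⟩ * r1⁻¹ * ⟨_, huH⟩⁻¹) = DihedralGroup.r 2 ∨
              e (r1 * ⟨_, huH⟩ * r1⁻¹ * ⟨_, huH⟩⁻¹) = DihedralGroup.r 4 := by
            simp only [map_mul, map_inv, r1, e.apply_symm_apply]
            exact fu _ huu hu1 hu3
          rcases he with he | he
          · rw [hexH.symm] at he
            rw [← e.injective he]; exact hcm
          · rw [← show (r1 * ⟨_, huH⟩ * r1⁻¹ * ⟨_, huH⟩⁻¹) * (r1 * ⟨_, huH⟩ * r1⁻¹ * ⟨_, huH⟩⁻¹) = xH
              from e.injective (by rw [map_mul, he, f44, hexH])]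
            exact mul_mem hcm hcm
        have h3 : 3 ∣ Nat.card K := hx ▸ Subgroup.orderOf_dvd_natCard K (mem_inf.2 ⟨hxD, xH.2⟩)
        have h12' : 12 ∣ Nat.card K := Nat.Coprime.mul_dvd_of_dvd_of_dvd (m := 4) (n := 3) (by norm_num) h4 h3
        exact hnle ((eq_of_le_of_card_ge (inf_le_right : K ≤ H)
          (h12 ▸ Nat.le_of_dvd Nat.card_pos h12')).ge.trans inf_le_left)
      -- so the fixed points of `z` in a Sylow subgroup of `D` have order two
      obtain ⟨Q, hQ⟩ := (IsPGroup.of_card (n := 1)
        (by rw [Nat.card_zpowers, orderOf_mk, hz, pow_one]) :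
          IsPGroup 2 (zpowers (⟨z, hzD⟩ : D))).exists_le_sylow
      have hzQ := hQ (mem_zpowers _)
      haveI : Nontrivial (Q : Subgroup D) := ⟨⟨⟨z, hzD⟩, hzQ⟩, 1, fun h =>
        hz1 (congrArg (fun q : (Q : Subgroup D) => ((q : D) : G)) h)⟩
      haveI := Q.2.center_nontrivial
      obtain ⟨c, hc⟩ := exists_ne (1 : center (Q : Subgroup D))
      have hsmall : ∀ q : (Q : Subgroup D), q * ⟨⟨z, hzD⟩, hzQ⟩ = ⟨⟨z, hzD⟩, hzQ⟩ * q →
          q = 1 ∨ q = ⟨⟨z, hzD⟩, hzQ⟩ := by
        intro q hq
        by_contra hno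
        push Not at hno
        obtain ⟨hq1, hqz⟩ := hno
        have hqC : ((q : D) : G) ∈ centralizer ({z} : Set G) := mem_centralizer_singleton_iff.2
          (congrArg (fun y : (Q : Subgroup D) => ((y : D) : G)) hq :)
        rw [hCz] at hqC
        have hqK : ((q : D) : G) ∈ K := mem_inf.2 ⟨(q : D).2, hqC⟩
        have hzK : z ∈ K := mem_inf.2 ⟨hzD, zH.2⟩
        let W : Subgroup G := closure {((q : D) : G), z}
        have hWQ : W ≤ (Q : Subgroup D).map D.subtype := closure_le _ |>.2 (by
          rintro y (rfl | rfl)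
          exacts [⟨_, q.2, rfl⟩, ⟨_, hzQ, rfl⟩])
        have hWp : IsPGroup 2 W := (Q.2.map D.subtype).to_le hWQ
        have hWK : W ≤ K := closure_le _ |>.2 (by rintro y (rfl | rfl) <;> assumption)
        obtain ⟨k, hk⟩ := IsPGroup.iff_card.1 hWp
        have hd := card_dvd_of_le hWK
        rw [hk] at hd
        rcases k with _ | _ | k
        · rw [pow_zero, Subgroup.card_eq_one] at hk
          exact hz1 (mem_bot.1 (hk ▸ subset_closure (Or.inr rfl)))
        · rw [pow_one] at hk
          have hWz : zpowers z = W := eq_of_le_of_card_ge (zpowers_le.2 (subset_closure (Or.inr rfl)))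
            (by rw [hk, Nat.card_zpowers, hz])
          have hqW : ((q : D) : G) ∈ zpowers z := hWz ▸ subset_closure (Or.inl rfl)
          obtain ⟨i, hi, hi'⟩ := (mem_zpowers_iff_mem_range_orderOf.1 hqW : _) |> Finset.mem_image.1
          rw [Finset.mem_range, hz] at hi
          interval_cases i
          · exact hq1 (Subtype.ext (Subtype.ext (by simpa using hi'.symm)))
          · exact hqz (Subtype.ext (Subtype.ext (by simpa using hi'.symm)))
        · exact hK4 (dvd_trans ⟨2 ^ k, by rw [pow_succ, pow_succ]; ring⟩ hd)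
      have hQcard : Nat.card (Q : Subgroup D) ≤ 2 := by
        haveI := Fintype.ofFinite (Q : Subgroup D)
        have hcz : (c : (Q : Subgroup D)) = ⟨⟨z, hzD⟩, hzQ⟩ :=
          (hsmall _ (mem_center_iff.1 c.2 _).symm).resolve_left fun h => hc (Subtype.ext h)
        refine le_trans (Nat.card_le_card_of_injective (fun q : (Q : Subgroup D) => decide (q = 1))
          fun a b hab => ?_) (le_of_eq (by simp))
        simp only [decide_eq_decide] at hab
        by_cases ha : a = 1
        · rw [ha, hab.1 ha]
        · have hc' : ∀ q : (Q : Subgroup D), q * ⟨⟨z, hzD⟩, hzQ⟩ = ⟨⟨z, hzD⟩, hzQ⟩ * q :=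
            fun q => hcz ▸ mem_center_iff.1 c.2 q
          rw [(hsmall a (hc' a)).resolve_left ha,
            (hsmall b (hc' b)).resolve_left fun hb => ha (hab.2 hb)]
      have hcyc : IsCyclic (Q : Subgroup D) := by
        have h1 := Finite.one_lt_card (α := (Q : Subgroup D))
        exact isCyclic_of_prime_card (p := 2) (by omega)
      obtain ⟨L, hL⟩ := Involutions.ThompsonTransfer.exists_index_two_of_isCyclic_sylow
        (even_iff_two_dvd.2 (by
          have := orderOf_dvd_natCard (⟨z, hzD⟩ : D)
          rwa [orderOf_mk, hz] at this)) Q hcyc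
      haveI := normal_of_index_eq_two hL
      haveI : IsCyclic (D ⧸ L) := isCyclic_of_prime_card (p := 2) (by rw [← index_eq_card, hL])
      have hcomm := IsCyclic.isMulCommutative (α := D ⧸ L)
      have hle : commutator D ≤ L := by
        rw [_root_.commutator_def, commutator_le]
        intro a _ b _
        rw [← QuotientGroup.eq_one_iff, ← QuotientGroup.mk'_apply, map_commutatorElement,
          commutatorElement_eq_one_iff_mul_comm]
        exact hcomm.is_comm.comm _ _
      rw [Group.IsPerfect.commutator_eq_top (G := D)] at hle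
      rw [top_le_iff.1 hle, index_top] at hL
      omega
    have hDtop : D = ⊤ := ((hmax.le_iff.1 hDH)).resolve_right fun h =>
      hD1 (le_bot_iff.1 (hcore ▸ normal_le_normalCore.2 h.le))
    haveI : Nontrivial G := ⟨z, 1, hz1⟩
    haveI : IsSimpleGroup G := ⟨fun N hN => or_iff_not_imp_left.2 fun hne =>
      top_le_iff.1 (hDtop ▸ hleast N hN hne)⟩
    have hnab : ¬ IsMulCommutative G := fun h => hsol (Group.isSolvable_of_comm h.is_comm.comm)
    exact Or.inr (Or.inr (psl_of_simple hnab hz (by rw [hCz, h12])))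
  · -- `z` induces an outer automorphism of `D`
    set K := D ⊓ H with hKdef
    have hCK : centralizer ({z} : Set G) ⊓ D = K := by rw [hCz, inf_comm]
    have hKev : 2 ∣ Nat.card K := by
      by_contra hodd
      have hDodd := odd_of_fixed_odd hz D (by
        rw [hCK]; exact Nat.not_even_iff_odd.1 (mt even_iff_two_dvd.1 hodd))
      exact hNsol D hD1 (S0205.result hDodd)
    obtain ⟨u, hu⟩ := exists_prime_orderOf_dvd_card' (G := K) 2 hKev
    have huD : (u : G) ∈ D := (mem_inf.1 u.2).1
    have huH : (u : G) ∈ H := (mem_inf.1 u.2).2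
    have hu1 : e ⟨_, huH⟩ ≠ 1 := fun h => by
      have h1 := (EmbeddingLike.map_eq_one_iff (f := e)).1 h
      have h2 : u = 1 := Subtype.ext (congrArg Subtype.val h1 :)
      rw [h2, orderOf_one] at hu
      omega
    have hu3 : e ⟨_, huH⟩ ≠ DihedralGroup.r 3 := fun h =>
      hzD (by rw [← show (u : G) = z from congrArg Subtype.val (e.injective (h.trans hezH.symm))]; exact huD)
    have huu : e ⟨_, huH⟩ * e ⟨_, huH⟩ = 1 := by
      rw [← map_mul, ← map_one e]
      exact congrArg e (Subtype.ext (congrArg Subtype.val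
        (show u * u = 1 by rw [← sq, ← hu, pow_orderOf_eq_one]) :))
    set r1 : H := e.symm (DihedralGroup.r 1)
    have hcm : ((r1 * ⟨_, huH⟩ * r1⁻¹ * ⟨_, huH⟩⁻¹ : H) : G) ∈ D := by
      simp only [Subgroup.coe_mul, Subgroup.coe_inv]
      exact mul_mem (hDn.conj_mem _ huD _) (inv_mem huD)
    have hxD : (xH : G) ∈ D := by
      have he : e (r1 * ⟨_, huH⟩ * r1⁻¹ * ⟨_, huH⟩⁻¹) = DihedralGroup.r 2 ∨
          e (r1 * ⟨_, huH⟩ * r1⁻¹ * ⟨_, huH⟩⁻¹) = DihedralGroup.r 4 := by
        simp only [map_mul, map_inv, r1, e.apply_symm_apply]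
        exact fu _ huu hu1 hu3
      rcases he with he | he
      · rw [hexH.symm] at he
        rw [← e.injective he]; exact hcm
      · rw [← show (r1 * ⟨_, huH⟩ * r1⁻¹ * ⟨_, huH⟩⁻¹) * (r1 * ⟨_, huH⟩ * r1⁻¹ * ⟨_, huH⟩⁻¹) = xH
          from e.injective (by rw [map_mul, he, f44, hexH])]
        exact mul_mem hcm hcm
    have hK6 : Nat.card K = 6 := by
      have h2 := hKev
      have h3 : 3 ∣ Nat.card K := hx ▸ Subgroup.orderOf_dvd_natCard K (mem_inf.2 ⟨hxD, xH.2⟩)
      have h6 := Nat.Coprime.mul_dvd_of_dvd_of_dvd (m := 2) (n := 3) (by norm_num) h2 h3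
      have hd : Nat.card K ∣ 12 := h12 ▸ card_dvd_of_le inf_le_right
      have hne : Nat.card K ≠ 12 := fun h => hzD
        ((mem_inf.1 ((eq_of_le_of_card_ge (inf_le_right : K ≤ H) (by rw [h, h12])).ge zH.2)).1)
      obtain ⟨c, hc⟩ := h6
      have hc' : Nat.card K ≤ 12 := Nat.le_of_dvd (by norm_num) hd
      have hpos : 0 < Nat.card K := Nat.card_pos
      omega
    have hidx : D.index = 2 := by
      have := hDtop_or 6 hK6
      omega
    set x : D := ⟨xH, hxD⟩
    have hXc : Nat.card (zpowers x) = 3 := by rw [Nat.card_zpowers, orderOf_mk, hx]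
    have hXn : H ≤ normalizer (zpowers (xH : G) : Set G) := by
      intro g hg
      have hgx : ∀ g ∈ H, g * (xH : G) * g⁻¹ ∈ zpowers (xH : G) := by
        intro g hg
        have hp : e (⟨g, hg⟩ * xH * ⟨g, hg⟩⁻¹) ^ 3 = 1 := by
          rw [← map_pow, conj_pow, show xH ^ 3 = 1 from (orderOf_coe xH ▸ hx) ▸ pow_orderOf_eq_one xH,
            mul_one, mul_inv_cancel, map_one]
        rcases f3 _ hp with h | h | h
        · exfalso
          have h1 := congrArg Subtype.val ((EmbeddingLike.map_eq_one_iff (f := e)).1 h)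
          simp only [Subgroup.coe_mul, Subgroup.coe_inv, OneMemClass.coe_one, conj_eq_one_iff] at h1
          rw [h1, orderOf_one] at hx
          omega
        · rw [show g * (xH : G) * g⁻¹ = ((⟨g, hg⟩ * xH * ⟨g, hg⟩⁻¹ : H) : G) from rfl,
            e.injective (h.trans hexH.symm)]
          exact mem_zpowers _
        · rw [show g * (xH : G) * g⁻¹ = ((⟨g, hg⟩ * xH * ⟨g, hg⟩⁻¹ : H) : G) from rfl,
            e.injective (h.trans (show DihedralGroup.r 4 = e (xH * xH) by rw [map_mul, hexH, f22]))]
          exact mul_mem (mem_zpowers _) (mem_zpowers _)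
      have hle : ∀ g ∈ H, ∀ y ∈ zpowers (xH : G), g * y * g⁻¹ ∈ zpowers (xH : G) := by
        intro g hg y hy
        obtain ⟨k, rfl⟩ := mem_zpowers_iff.1 hy
        rw [← conj_zpow]
        exact zpow_mem (hgx g hg) k
      refine mem_normalizer_iff.2 fun y => ⟨hle g hg y, fun hy => ?_⟩
      have := hle g⁻¹ (inv_mem hg) _ hy
      rwa [show g⁻¹ * (g * y * g⁻¹) * g⁻¹⁻¹ = y by group] at this
    have hNX := hnorm _ (zpowers_le.2 xH.2) (fun h => by
      rw [zpowers_eq_bot] at h; rw [h, orderOf_one] at hx; omega) hXn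
    have hCX : centralizer ((zpowers x : Subgroup D) : Set D) = zpowers x := by
      refine le_antisymm (fun g hg => ?_) fun y hy => mem_centralizer_iff.2 fun w hw =>
        setLike_mul_comm hw hy
      have hgx : (g : G) * (xH : G) = (xH : G) * g :=
        (congrArg Subtype.val (mem_centralizer_iff.1 hg x (mem_zpowers x)) :).symm
      have hgH : (g : G) ∈ H := by
        rw [← hNX]
        refine centralizer_le_normalizer _ ?_
        rw [zpowers_eq_closure, centralizer_closure]
        exact mem_centralizer_singleton_iff.2 hgx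
      have hex : e ⟨_, hgH⟩ * e xH = e xH * e ⟨_, hgH⟩ := by
        rw [← map_mul, ← map_mul]
        exact congrArg e (Subtype.ext hgx)
      rw [hexH] at hex
      rcases fcent (DihedralGroup.r 2) (e ⟨_, hgH⟩) (by decide) (by decide) hex with h | h
      · have h3 := f3 _ h
        rcases h3 with h3 | h3 | h3
        · rw [show g = 1 from Subtype.ext (congrArg Subtype.val
            ((EmbeddingLike.map_eq_one_iff (f := e)).1 h3) :)]
          exact one_mem _
        · rw [show g = x from Subtype.ext (congrArg Subtype.val (e.injective (h3.trans hexH.symm)) :)]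
          exact mem_zpowers _
        · rw [show g = x * x from Subtype.ext (congrArg Subtype.val (e.injective
            (h3.trans (show DihedralGroup.r 4 = e (xH * xH) by rw [map_mul, hexH, f22]))) :)]
          exact mul_mem (mem_zpowers _) (mem_zpowers _)
      · exfalso
        have hg3 : (g : G) ^ 3 = z := congrArg Subtype.val
          (e.injective (show e (⟨_, hgH⟩ ^ 3) = e zH by rw [map_pow, hezH]; exact h) :)
        exact hzD (hg3 ▸ pow_mem g.2 3)
    have hDns := hNsol D hD1
    rcases S3331.result (zpowers x) hXc hCX with ⟨N, hN, hnil, -, hq⟩ | ⟨N, hN, hNc, hN2, ⟨f⟩⟩ | ⟨⟨f⟩⟩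
    · exfalso
      haveI : Group.IsSolvable N := by haveI := hnil; infer_instance
      refine hDns ((Group.isSolvable_iff_subgroup_quotient N).2 ⟨inferInstance, ?_⟩)
      rcases hq with h | ⟨⟨f⟩⟩
      · haveI : IsCyclic (D ⧸ N) := isCyclic_of_prime_card h
        haveI := IsCyclic.isMulCommutative (α := D ⧸ N)
        infer_instance
      · haveI : IsCyclic (alternatingGroup (Fin 3)) := isCyclic_of_prime_card (p := 3) (by
          rw [nat_card_alternatingGroup, Nat.card_eq_fintype_card, Fintype.card_fin]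
          norm_num [Nat.factorial])
        haveI := IsCyclic.isMulCommutative (α := alternatingGroup (Fin 3))
        haveI : Group.IsSolvable (Equiv.Perm (Fin 3)) :=
          Group.isSolvable_of_ker_le_range (alternatingGroup (Fin 3)).subtype Equiv.Perm.sign
            (by rw [Subgroup.range_subtype]; exact le_rfl)
        exact Group.isSolvable_of_isSolvable_injective (f := f.toMonoidHom) f.injective
    · have hNbot : N = ⊥ := by
        haveI := hN
        have hp : IsPGroup 2 N := fun a => ⟨1, Subtype.ext (by simpa using hN2 a a.2)⟩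
        have hle := Cores.le_pCore hp
        haveI : (Cfsg.pCore 2 D).Characteristic := Cores.pCore_characteristic 2
        have hmap : (Cfsg.pCore 2 D).map D.subtype = ⊥ := by
          by_contra h
          refine hNsol _ h ?_
          haveI := (Cores.pCore_isPGroup (G := D) 2).map D.subtype |>.isNilpotent
          infer_instance
        rw [map_eq_bot_iff_of_injective _ D.subtype_injective] at hmap
        exact le_bot_iff.1 (hmap ▸ hle)
      have g : D ≃* alternatingGroup (Fin 5) :=
        ((QuotientGroup.quotientMulEquivOfEq hNbot).trans QuotientGroup.quotientBot).symm.trans f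
      have hG : Nat.card G = 120 := by
        have h := card_mul_index D
        rw [hidx, Nat.card_congr g.toEquiv, nat_card_alternatingGroup, Nat.card_eq_fintype_card,
          Fintype.card_fin] at h
        norm_num [Nat.factorial] at h
        omega
      refine Or.inl (equiv_aut D hCD ((MulAut.congr g).trans
        (MulEquiv.ofBijective _ (S2119.result 5 (by norm_num) (by norm_num))).symm) ?_)
      rw [hG, Nat.card_eq_fintype_card, Fintype.card_perm, Fintype.card_fin]
      norm_num [Nat.factorial]
    · obtain ⟨a⟩ := aut_psl_seven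
      haveI : Fact (Nat.Prime 7) := ⟨by norm_num⟩
      have hG : Nat.card G = 336 := by
        have h := card_mul_index D
        have h2 := PSLOrderSpectrum.card_psl_two (F := ZMod 7)
        rw [ZMod.card, show Nat.gcd 2 (7 - 1) = 2 from rfl] at h2
        rw [hidx, Nat.card_congr f.toEquiv] at h
        omega
      refine Or.inr (Or.inl (equiv_aut D hCD ((MulAut.congr f).trans a) ?_))
      rw [hG, card_pgl_seven]

end Cfsg.Agent.Perm.CubicInsolubleDihedral
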