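import Cfsg.Agent.Lib.Perm.CubicInsoluble.InvAut
import Cfsg.Agent.Lib.Classical.SmallIso

/-!
# An involutory automorphism of `PSL₂(q)` fixing exactly a `Sym(4)`: the order has `2`-part at most eight
-/

set_option autoImplicit false
set_option linter.style.haveILetI false
set_option linter.unusedSectionVars false
set_option maxRecDepth 10000
set_option synthInstance.maxSize 4000

namespace Cfsg.Agent.Perm.CubicInsoluble.FixedFour

universe u

/-- Two commuting nontrivial permutations of four points have at most four common centralizing elements. -/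
theorem common_centralizer : ∀ x y : Equiv.Perm (Fin 4), x ≠ 1 → y ≠ 1 → x ≠ y → x * y = y * x →
    (Finset.univ.filter fun c : Equiv.Perm (Fin 4) => c * x = x * c ∧ c * y = y * c).card ≤ 4 := by
  decide +kernel

/-- A commuting family in `Sym(4)` has at most four members. -/
theorem card_comm_le (A : Finset (Equiv.Perm (Fin 4))) (hA : ∀ x ∈ A, ∀ y ∈ A, x * y = y * x) :
    A.card ≤ 4 := by
  by_contra h
  push Not at h
  have h1 : 1 < (A.erase 1).card := by
    have := Finset.pred_card_le_card_erase (s := A) (a := (1 : Equiv.Perm (Fin 4)))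
    omega
  obtain ⟨x, hx, y, hy, hxy⟩ := Finset.one_lt_card.1 h1
  obtain ⟨hx1, hxA⟩ := Finset.mem_erase.1 hx
  obtain ⟨hy1, hyA⟩ := Finset.mem_erase.1 hy
  have := common_centralizer x y hx1 hy1 hxy (hA x hxA y hyA)
  have hle := Finset.card_le_card (s := A)
    (t := Finset.univ.filter fun c : Equiv.Perm (Fin 4) => c * x = x * c ∧ c * y = y * c)
    (fun c hc => Finset.mem_filter.2 ⟨Finset.mem_univ _, hA c hc x hxA, hA c hc y hyA⟩)
  omega

variable {F : Type u} [Field F] [Fintype F]

local notation "PG" => Matrix.ProjectiveSpecialLinearGroup (Fin 2) F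

theorem card_ge (hodd : Odd (Fintype.card F)) (h16 : 16 ∣ Nat.card PG) : 15 ≤ Fintype.card F := by
  by_contra hlt
  push Not at hlt
  have h := Classical.SmallIso.natCard_pslTwo F
  rw [Nat.gcd_eq_left (Nat.Odd.sub_odd hodd odd_one).two_dvd] at h
  rw [Classical.GL2.natCard_SL_two] at h
  have h32 : 32 ∣ Fintype.card F * ((Fintype.card F - 1) * (Fintype.card F + 1)) := by
    rw [← h]
    exact Nat.mul_dvd_mul_left 2 h16
  have := Fintype.one_lt_card (α := F)
  obtain ⟨k, hk⟩ := hodd
  interval_cases h : Fintype.card F <;> first | omega | norm_num at h32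

theorem false_of_fixed_sym_four (hodd : Odd (Fintype.card F)) (h16 : 16 ∣ Nat.card PG) (θ : MulAut PG)
    (hθ : θ * θ = 1) (K : Subgroup PG) (hK : ∀ x, x ∈ K ↔ θ x = x) (e : K ≃* Equiv.Perm (Fin 4)) :
    False := by
  classical
  have h15 := card_ge hodd h16
  have h2 : (2 : F) ≠ 0 := by
    intro h
    haveI : CharP F 2 := CharTwo.of_one_ne_zero_of_two_eq_zero one_ne_zero h
    obtain ⟨n, -, hn⟩ := FiniteField.card F 2
    rw [hn] at hodd
    exact Nat.not_even_iff_odd.2 hodd (Nat.even_pow.2 ⟨even_two, n.pos.ne'⟩)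
  have hθ1 : θ ≠ 1 := by
    intro h
    have hK' : K = ⊤ := eq_top_iff.2 fun x _ => (hK x).2 (by rw [h]; rfl)
    have h1 : Nat.card PG = 24 := by
      rw [← Subgroup.card_top, ← hK', Nat.card_congr e.toEquiv, Nat.card_eq_fintype_card,
        Fintype.card_perm, Fintype.card_fin]
      rfl
    rw [h1] at h16
    norm_num at h16
  let f : PG → Equiv.Perm (Fin 4) := fun x => if hx : x ∈ K then e ⟨x, hx⟩ else 1
  have hf : ∀ {x y}, x ∈ K → y ∈ K → x * y = y * x → f x * f y = f y * f x := by
    intro x y hx hy h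
    simp only [f, dif_pos hx, dif_pos hy, ← map_mul]
    exact congrArg e (Subtype.ext h)
  have hbound : ∀ B : Finset PG, (∀ x ∈ B, x ∈ K) → (∀ x ∈ B, ∀ y ∈ B, x * y = y * x) → B.card ≤ 4 := by
    intro B hB hBc
    rw [← Finset.card_image_of_injOn (f := f) fun x hx y hy h => by
      simp only [f, dif_pos (hB x hx), dif_pos (hB y hy)] at h
      exact congrArg Subtype.val (e.injective h)]
    refine card_comm_le _ fun a ha b hb => ?_
    obtain ⟨x, hx, rfl⟩ := Finset.mem_image.1 ha
    obtain ⟨y, hy, rfl⟩ := Finset.mem_image.1 hb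
    exact hf (hB x hx) (hB y hy) (hBc x hx y hy)
  rcases InvAut.fixed_cases h2 hθ hθ1 with ⟨A, hA, hAc, hcard, -⟩ |
    ⟨S, U, L, hS, -, -, hU, hfix, hUc, -⟩
  · have := hbound A (fun x hx => (hK x).2 (hA x hx)) hAc
    omega
  · have h := hbound (S.image U)
      (fun x hx => by
        obtain ⟨c, hc, rfl⟩ := Finset.mem_image.1 hx
        exact (hK _).2 (hfix c hc).1)
      (fun x hx y hy => by
        obtain ⟨c, -, rfl⟩ := Finset.mem_image.1 hx
        obtain ⟨d, -, rfl⟩ := Finset.mem_image.1 hy
        exact hUc c d)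
    rw [Finset.card_image_of_injective S hU] at h
    rw [← hS] at hodd h15
    obtain ⟨hs, -⟩ := Nat.odd_mul.1 hodd
    obtain ⟨m, hm⟩ := hs
    have h4 : S.card ≠ 4 := by omega
    have h3 : S.card * S.card ≤ 3 * 3 := Nat.mul_le_mul (by omega) (by omega)
    omega

end Cfsg.Agent.Perm.CubicInsoluble.FixedFour
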