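import Cfsg.Agent.Lib.Perm.CubicInsoluble.FourSym
import Cfsg.Agent.Lib.M11Order.Unique
import Cfsg.Agent.Recognition.MathieuEleven
import Cfsg.Agent.Lib.Cores.Basic

/-!
# A maximal `Sym(4)` giving a suborbit of length three: the group is `PSL(2, q)` or `PSL(3, 3)`
-/

set_option autoImplicit false
set_option linter.style.haveILetI false
set_option linter.unusedSectionVars false
set_option maxRecDepth 10000

namespace Cfsg.Agent.Perm.CubicInsoluble.FourMain

open Subgroup SymFour
open Local (Vs InStab Setting Cov)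
open Cfsg.Agent.GLTwoThree (GL23 T)

universe u

/-- An element of order four squaring to the central involution is a square. -/
theorem gl_sqrt {g : GL23} (h : g * g = T) : ∃ y : GL23, y * y = g := by
  rw [GLTwoThree.ext_val] at h
  simp only [GLTwoThree.ext_val, Units.val_mul] at h ⊢
  suffices h' : ∃ a b c d : ZMod 3, a * d - b * c ≠ 0 ∧
      GLTwoThree.mat a b c d * GLTwoThree.mat a b c d = g.val by
    obtain ⟨a, b, c, d, hd, he⟩ := h'
    refine ⟨Matrix.GeneralLinearGroup.mkOfDetNeZero (GLTwoThree.mat a b c d) ?_, he⟩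
    rw [GLTwoThree.mat, Matrix.det_fin_two]
    simpa using hd
  revert h
  exact GLTwoThree.mat_cases (P := fun m => m * m = T.val → ∃ a b c d : ZMod 3, a * d - b * c ≠ 0 ∧
    GLTwoThree.mat a b c d * GLTwoThree.mat a b c d = m) (by decide +kernel) g

/-- The squares of four-cycles are double transpositions. -/
theorem four_cycle_sq : ∀ p : Equiv.Perm (Fin 4), p ^ 4 = 1 → p * p ≠ 1 → IsV (p * p) := by
  decide +kernel

/-- Four-cycles generate. -/
theorem swap_four_cycles : ∀ a b : Fin 4, a ≠ b → ∃ p q : Equiv.Perm (Fin 4),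
    (p ^ 4 = 1 ∧ p * p ≠ 1) ∧ (q ^ 4 = 1 ∧ q * q ≠ 1) ∧
      (((p * q)⁻¹ * Equiv.swap a b) ^ 4 = 1 ∧
        ((p * q)⁻¹ * Equiv.swap a b) * ((p * q)⁻¹ * Equiv.swap a b) ≠ 1) := by
  decide +kernel

theorem card_alt_seven : Nat.card (alternatingGroup (Fin 7)) = 2520 := by
  rw [Nat.card_eq_fintype_card, card_alternatingGroup, Fintype.card_fin]; rfl

variable {G : Type u} [Group G] [Finite G]

/-- The action on eleven points is impossible. -/
theorem false_of_index_eleven {H : Subgroup G} (D : FourSym.Data H) (e : H ≃* Equiv.Perm (Fin 4))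
    (V : Setting (FourSym.zG e) (FourSym.wG e)) [IsSimpleGroup G] (S : Sylow 2 G)
    (hS : Cfsg.IsQuasiDihedral (S : Subgroup G)) (hcard : Nat.card G = 7920)
    {L : Subgroup G} (hL : L.index = 11) : False := by
  classical
  set f := MulAction.toPermHom G (G ⧸ L) with hf
  haveI : Fintype (G ⧸ L) := Fintype.ofFinite _
  have h11 : Fintype.card (G ⧸ L) = 11 := by
    rw [← Nat.card_eq_fintype_card, ← Subgroup.index_eq_card, hL]
  -- an involution moves at least eight points
  have key : ∀ x, Vs (FourSym.zG e) (FourSym.wG e) x → ∀ g : G, g * g = x → g * x = x * g →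
      ∀ p : G ⧸ L, x • p = p → g • p = p := by
    intro x hx g hgg hgx p hp
    obtain ⟨y, hy, hxy⟩ : ∃ y, Vs (FourSym.zG e) (FourSym.wG e) y ∧ x ≠ y := by
      by_cases h : x = FourSym.zG e
      · exact ⟨_, Or.inr (Or.inl rfl), h ▸ (FourSym.orders e).2.2.1⟩
      · exact ⟨_, Or.inl rfl, h⟩
    have Vx := V.pair hx hy hxy
    obtain ⟨π, E⟩ := Vx.exists_cov S hS
    have hinj : Function.Injective π :=
      (MonoidHom.ker_eq_bot_iff π).1 (eq_bot_of_card_eq _ (CoreTrivial.core_trivial S hS Vx E))
    set gC : centralizer ({x} : Set G) := ⟨g, mem_centralizer_singleton_iff.2 hgx⟩ with hgC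
    obtain ⟨r, hr⟩ := gl_sqrt (g := π gC) (by
      rw [← map_mul, show gC * gC = GLTwoThree.Core.tC x from Subtype.ext hgg]; exact E.cov.hT)
    obtain ⟨yC, rfl⟩ := E.cov.surj r
    have hyy : yC * yC = gC := hinj (by rw [map_mul, hr])
    set t : G := (yC : G) with ht
    have ht2 : t * t = g := congrArg Subtype.val hyy
    have ht4 : t ^ 4 = x := by rw [show 4 = 2 * 2 from rfl, pow_mul, pow_two, pow_two, ht2, hgg]
    have htx : t * x = x * t := mem_centralizer_singleton_iff.1 yC.2
    have ht8 : t ^ 8 = 1 := by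
      rw [show 8 = 4 * 2 from rfl, pow_mul, ht4, pow_two]
      exact CoreSetup.sq_of_order_two Vx.four.hz
    obtain ⟨q, hq⟩ : ∃ q : G ⧸ L, x • q ≠ q := by
      by_contra h
      push Not at h
      have hker : x ∈ f.ker := MonoidHom.mem_ker.2 (Equiv.ext fun q => by
        simpa [hf] using h q)
      rcases IsSimpleGroup.eq_bot_or_eq_top_of_normal _ (MonoidHom.normal_ker f) with hk | hk
      · rw [hk, mem_bot] at hker
        have := Vx.four.hz
        rw [hker, orderOf_one] at this; norm_num at this
      · have : L = ⊤ := eq_top_iff.2 fun g _ => by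
          have h1 : f g = 1 := MonoidHom.mem_ker.1 (hk ▸ mem_top g)
          have h2 := Equiv.congr_fun h1 ((1 : G) : G ⧸ L)
          simp only [hf, MulAction.toPermHom_apply, MulAction.toPerm_apply, MulAction.Quotient.smul_coe,
            smul_eq_mul, mul_one, Equiv.Perm.coe_one, id_eq, QuotientGroup.eq] at h2
          simpa using inv_mem h2
        rw [this, index_top] at hL
        norm_num at hL
    set M := (Finset.univ.filter fun q : G ⧸ L => x • q ≠ q) with hM
    have hM8 : 8 ≤ M.card := by
      have hinj' : Function.Injective fun i : Fin 8 => t ^ (i : ℕ) • q := by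
        intro i j hij
        by_contra hne
        have key2 : ∀ d : Fin 8, d ≠ 0 → t ^ (d : ℕ) • q = q → False := by
          intro d hd hdq
          obtain ⟨k, hk⟩ := (show ∀ d : Fin 8, d ≠ 0 → ∃ k : Fin 8, ((d : ℕ) * k) % 8 = 4 by decide) d hd
          have h1 : ∀ n : ℕ, t ^ ((d : ℕ) * n) • q = q := by
            intro n
            induction n with
            | zero => simp
            | succ n ih => rw [Nat.mul_succ, pow_add, mul_smul, hdq, ih]
          apply hq
          have h2 := h1 k
          rw [← Nat.div_add_mod ((d : ℕ) * k) 8, hk, pow_add, pow_mul, ht8, one_pow, one_mul, ht4] at h2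
          exact h2
        rcases le_total (i : ℕ) j with hle | hle
        · refine key2 ⟨(j : ℕ) - i, by omega⟩ (fun h => hne (Fin.ext (by
            have := congrArg Fin.val h; simp at this; omega))) ?_
          have h3 : t ^ (i : ℕ) • (t ^ ((j : ℕ) - i) • q) = t ^ (i : ℕ) • q := by
            rw [← mul_smul, ← pow_add, Nat.add_sub_cancel' hle]; exact hij.symm
          exact smul_left_cancel _ h3
        · refine key2 ⟨(i : ℕ) - j, by omega⟩ (fun h => hne (Fin.ext (by
            have := congrArg Fin.val h; simp at this; omega))) ?_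
          have h3 : t ^ (j : ℕ) • (t ^ ((i : ℕ) - j) • q) = t ^ (j : ℕ) • q := by
            rw [← mul_smul, ← pow_add, Nat.add_sub_cancel' hle]; exact hij
          exact smul_left_cancel _ h3
      have := Finset.card_le_card (s := Finset.univ.image fun i : Fin 8 => t ^ (i : ℕ) • q) (t := M) ?_
      · rwa [Finset.card_image_of_injective _ hinj', Finset.card_univ, Fintype.card_fin] at this
      · intro a ha
        obtain ⟨i, -, rfl⟩ := Finset.mem_image.1 ha
        rw [hM, Finset.mem_filter]
        refine ⟨Finset.mem_univ _, fun h => hq ?_⟩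
        rw [← mul_smul, ((show Commute t x from htx).pow_left (i : ℕ)).symm.eq, mul_smul] at h
        exact smul_left_cancel _ h
    let F := {q : G ⧸ L // x • q = q}
    have hF : Fintype.card F ≤ 3 := by
      rw [Fintype.card_subtype]
      have hsum := Finset.card_filter_add_card_filter_not
        (s := (Finset.univ : Finset (G ⧸ L))) (fun q : G ⧸ L => x • q = q)
      rw [Finset.card_univ, h11] at hsum
      simp only [hM, ne_eq] at hM8
      omega
    have hstab : ∀ q : G ⧸ L, x • q = q → x • t • q = t • q := fun q hq => by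
      rw [← mul_smul, ← htx, mul_smul, hq]
    let σ : Equiv.Perm F := Equiv.ofBijective (fun q => ⟨t • q.1, hstab q.1 q.2⟩)
      (Finite.injective_iff_bijective.1 fun a b h =>
        Subtype.ext (smul_left_cancel t (congrArg Subtype.val h)))
    have hσ : ∀ (n : ℕ) (q : F), ((σ ^ n) q).1 = t ^ n • q.1 := by
      intro n
      induction n with
      | zero => simp
      | succ n ih =>
        intro q
        rw [pow_succ', Equiv.Perm.mul_apply, pow_succ', mul_smul, ← ih]
        rfl
    have hσ4 : σ ^ 4 = 1 := Equiv.ext fun q => Subtype.ext (by rw [hσ, ht4]; exact q.2)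
    have hσ6 : σ ^ 6 = 1 := by
      rw [← orderOf_dvd_iff_pow_eq_one]
      refine (orderOf_dvd_natCard σ).trans ?_
      rw [Nat.card_eq_fintype_card, Fintype.card_perm]
      exact (Nat.factorial_dvd_factorial hF).trans (by decide)
    have hσ2 : σ ^ 2 = 1 := by
      have := pow_gcd_eq_one.2 ⟨hσ4, hσ6⟩
      simpa using this
    have := congrArg (fun s : Equiv.Perm F => (s ⟨p, hp⟩).1) hσ2
    simp only [hσ, Equiv.Perm.coe_one, id_eq] at this
    rwa [pow_two, ht2] at this
  -- a common fixed point of the four group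
  haveI := Fact.mk Nat.prime_two
  set W := closure ({FourSym.zG e, FourSym.wG e} : Set G) with hW
  have hWin : ∀ a ∈ W, a * a = 1 := by
    have hh : ∀ a ∈ W, (a = 1 ∨ Vs (FourSym.zG e) (FourSym.wG e) a) := by
      intro a ha
      have hc : Commute a (FourSym.zG e) ∧ Commute a (FourSym.wG e) := by
        induction ha using closure_induction with
        | mem u hu =>
          rcases hu with rfl | rfl
          · exact ⟨Commute.refl _, V.four.comm⟩
          · exact ⟨V.four.comm.symm, Commute.refl _⟩
        | one => exact ⟨Commute.one_left _, Commute.one_left _⟩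
        | mul _ _ _ _ h1 h2 => exact ⟨h1.1.mul_left h2.1, h1.2.mul_left h2.2⟩
        | inv _ _ h1 => exact ⟨h1.1.inv_left, h1.2.inv_left⟩
      exact V.four.cent a hc.1 hc.2
    intro a ha
    rcases hh a ha with rfl | rfl | rfl | rfl
    · exact one_mul 1
    · exact V.zz
    · exact V.ww
    · rw [V.four.comm.symm.mul_mul_mul_comm, V.zz, V.ww, one_mul]
  have hWp : IsPGroup 2 W := fun a => ⟨1, Subtype.ext (by simpa [pow_two] using hWin a a.2)⟩
  obtain ⟨p, hp⟩ := hWp.nonempty_fixed_point_of_prime_not_dvd_card (G ⧸ L)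
    (by rw [Nat.card_eq_fintype_card, h11]; decide)
  have hVp : ∀ x, Vs (FourSym.zG e) (FourSym.wG e) x → x • p = p := by
    intro x hx
    have hxW : x ∈ W := by
      rcases hx with rfl | rfl | rfl
      · exact subset_closure (Or.inl rfl)
      · exact subset_closure (Or.inr rfl)
      · exact mul_mem (subset_closure (Or.inl rfl)) (subset_closure (Or.inr rfl))
    exact hp ⟨x, hxW⟩
  set A : Subgroup (Equiv.Perm (Fin 4)) :=
    (MulAction.stabilizer G p).comap (H.subtype.comp e.symm.toMonoidHom) with hA
  have hfour : ∀ q : Equiv.Perm (Fin 4), q ^ 4 = 1 ∧ q * q ≠ 1 → q ∈ A := by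
    rintro q ⟨hq4, hq2⟩
    have hv := four_cycle_sq q hq4 hq2
    have hx : Vs (FourSym.zG e) (FourSym.wG e) ((e.symm (q * q) : H) : G) :=
      (FourSym.vs_iff e _).2 (by rwa [MulEquiv.apply_symm_apply])
    rw [hA, mem_comap, MulAction.mem_stabilizer_iff]
    refine key _ hx _ ?_ ?_ p (hVp _ hx)
    · simp [map_mul]
    · simp [map_mul, mul_assoc]
  have hAtop : A = ⊤ := by
    rw [eq_top_iff, ← Equiv.Perm.closure_isSwap, closure_le]
    rintro _ ⟨a, b, hab, rfl⟩
    obtain ⟨p', q', h1, h2, h3⟩ := swap_four_cycles a b hab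
    rw [SetLike.mem_coe, show Equiv.swap a b = p' * q' * ((p' * q')⁻¹ * Equiv.swap a b) by group]
    exact mul_mem (mul_mem (hfour _ h1) (hfour _ h2)) (hfour _ h3)
  have hle : H ≤ MulAction.stabilizer G p := fun h hh => by
    have : e ⟨h, hh⟩ ∈ A := hAtop ▸ mem_top _
    rw [hA, mem_comap] at this
    simpa using this
  have hidx : (MulAction.stabilizer G p).index = 11 := by
    rw [MulAction.index_stabilizer_of_transitive, Nat.card_eq_fintype_card, h11]
  rcases D.max.le_iff.1 hle with h | h
  · rw [h, index_top] at hidx; norm_num at hidx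
  · have h1 := (MulAction.stabilizer G p).card_mul_index
    rw [hidx, h, hcard, Nat.card_congr e.toEquiv, Nat.card_eq_fintype_card, Fintype.card_perm,
      Fintype.card_fin] at h1
    norm_num at h1

/-- The group is `PSL(2, q)` or `PSL(3, 3)`. -/
theorem result {H : Subgroup G} (D : FourSym.Data H) :
    (∃ (F : Type) (_ : Field F) (_ : Fintype F), Odd (Fintype.card F) ∧ 3 < Fintype.card F ∧
        Nonempty (G ≃* Matrix.ProjectiveSpecialLinearGroup (Fin 2) F)) ∨
      Nonempty (G ≃* Matrix.ProjectiveSpecialLinearGroup (Fin 3) (ZMod 3)) := by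
  classical
  haveI := Fact.mk Nat.prime_two
  obtain ⟨e⟩ := D.iso
  haveI := FourSym.simple D
  have hV := FourSym.four D e
  obtain ⟨hz, hw, hne, hc⟩ := FourSym.orders e
  have h16 := FourSym.sixteen D
  have hW : IsPGroup 2 (closure ({FourSym.zG e, FourSym.wG e} : Set G)) := by
    rintro ⟨a, ha⟩
    refine ⟨1, Subtype.ext ?_⟩
    have hc' : Commute a (FourSym.zG e) ∧ Commute a (FourSym.wG e) := by
      induction ha using closure_induction with
      | mem u hu =>
        rcases hu with rfl | rfl
        · exact ⟨Commute.refl _, hc⟩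
        · exact ⟨hc.symm, Commute.refl _⟩
      | one => exact ⟨Commute.one_left _, Commute.one_left _⟩
      | mul _ _ _ _ h1 h2 => exact ⟨h1.1.mul_left h2.1, h1.2.mul_left h2.2⟩
      | inv _ _ h1 => exact ⟨h1.1.inv_left, h1.2.inv_left⟩
    have hzz := CoreSetup.sq_of_order_two hz
    have hww := CoreSetup.sq_of_order_two hw
    change a ^ 2 ^ 1 = 1
    rw [pow_one, pow_two]
    rcases hV.cent a hc'.1 hc'.2 with rfl | rfl | rfl | rfl
    · exact one_mul 1
    · exact hzz
    · exact hww
    · rw [hc.symm.mul_mul_mul_comm, hzz, hww, one_mul]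
  obtain ⟨S, hS⟩ := hW.exists_le_sylow
  obtain ⟨hS16, -, htype⟩ := FourSym.sylow_types hV h16 S (hS (subset_closure (Or.inl rfl)))
    (hS (subset_closure (Or.inr rfl)))
  rcases htype with ⟨n, hn, hd⟩ | hsd
  · -- dihedral
    have hnc : ¬ IsMulCommutative G := fun h => by
      obtain ⟨g, hg, -⟩ := FourSym.perm e (x := FourSym.wG e) (y := FourSym.zG e)
        (Or.inr (Or.inl rfl)) (Or.inl rfl) hne.symm
      rw [h.is_comm.comm g (FourSym.zG e), mul_inv_cancel_right] at hg
      exact hne hg
    haveI : Group.IsPerfect G := GW.Assembly.isPerfect_of_simple hnc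
    have hOb : Cfsg.oddCore G = ⊥ := by
      haveI : (Cfsg.oddCore G).Normal := Cores.pPrimeCore_normal 2
      refine (IsSimpleGroup.eq_bot_or_eq_top_of_normal _ inferInstance).resolve_right fun h => ?_
      have h1 : Odd (Nat.card G) := by
        have := Cores.oddCore_odd (G := G)
        rwa [h, card_top] at this
      exact Nat.not_even_iff_odd.2 h1 (even_iff_two_dvd.2 (dvd_trans (by norm_num) h16))
    let i : G ⧸ Cfsg.oddCore G ≃* G :=
      (QuotientGroup.quotientMulEquivOfEq hOb).trans QuotientGroup.quotientBot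
    rcases S0483.result S n hn hd with ⟨F, i1, i2, h1, h2, ⟨j⟩⟩ | hj
    · exact Or.inl ⟨F, i1, i2, h1, h2, ⟨i.symm.trans j⟩⟩
    · exfalso
      obtain ⟨j⟩ := hj
      rw [Nat.card_congr (i.symm.trans j).toEquiv, card_alt_seven] at h16
      norm_num at h16
  · -- quasi-dihedral
    have hset : Setting (FourSym.zG e) (FourSym.wG e) := by
      refine ⟨hV, fun x y hx hy hxy => FourSym.perm e hx hy hxy, fun P hodd hinv _ g hg => ?_⟩
      have hle : H ≤ normalizer (P : Set G) := fun a ha => hinv a (FourSym.stab_of_mem e ha)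
      rcases D.max.le_iff.1 hle with h | h
      · haveI : P.Normal := normalizer_eq_top_iff.1 h
        refine Or.inr ((IsSimpleGroup.eq_bot_or_eq_top_of_normal P inferInstance).resolve_right fun h => ?_)
        rw [h, card_top] at hodd
        exact Nat.not_even_iff_odd.2 hodd (even_iff_two_dvd.2 (dvd_trans (by norm_num) h16))
      · exact Or.inl (FourSym.stab_of_mem e (h ▸ hg))
    rcases CoreTrivial.result S hsd hset with ⟨F, i1, i2, hF, ⟨j⟩⟩ | hj
    · exact Or.inr (Basic.psl_zmod Nat.prime_three hF j)
    · exfalso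
      obtain ⟨j⟩ := (hj : Nonempty (G ≃* Cfsg.Spor.M11))
      have hM := Recognition.MathieuEleven.isM11_M11
      have hcard : Nat.card G = 7920 := (Nat.card_congr j.toEquiv).trans hM.2
      obtain ⟨L, hL⟩ := M11Order.exists_index_eleven (G := G) ⟨inferInstance, hcard⟩
      exact false_of_index_eleven D e hset S hsd hcard hL

end Cfsg.Agent.Perm.CubicInsoluble.FourMain
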