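import Mathlib

/-!
# Facts about the symmetric group of degree four
-/

set_option autoImplicit false
set_option maxRecDepth 10000

namespace Cfsg.Agent.Perm.CubicInsoluble.SymFour

open Equiv Equiv.Perm

/-- A double transposition. -/
def z0 : Perm (Fin 4) := swap 0 1 * swap 2 3

/-- Another double transposition. -/
def w0 : Perm (Fin 4) := swap 0 2 * swap 1 3

/-- The double transpositions. -/
def IsV (x : Perm (Fin 4)) : Prop := x = z0 ∨ x = w0 ∨ x = z0 * w0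

instance : DecidablePred IsV := fun x => by unfold IsV; infer_instance

theorem facts : z0 * z0 = 1 ∧ z0 ≠ 1 ∧ w0 * w0 = 1 ∧ w0 ≠ 1 ∧ z0 ≠ w0 ∧ z0 * w0 = w0 * z0 ∧
    (z0 * w0) * (z0 * w0) = 1 ∧ z0 * w0 ≠ 1 ∧ z0 * w0 ≠ z0 ∧ z0 * w0 ≠ w0 := by
  decide +kernel

theorem conj_V : ∀ h : Perm (Fin 4), IsV (h * z0 * h⁻¹) ∧ IsV (h * w0 * h⁻¹) := by
  decide +kernel

theorem cent : ∀ h : Perm (Fin 4), h * z0 = z0 * h → h * w0 = w0 * h → h = 1 ∨ IsV h := by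
  decide +kernel

theorem trans : ∀ x y : Perm (Fin 4), IsV x → IsV y → x ≠ y →
    ∃ h, h * z0 * h⁻¹ = x ∧ h * w0 * h⁻¹ = y := by
  decide +kernel

theorem normal_step : ∀ x : Perm (Fin 4), x ≠ 1 →
    IsV x ∨ IsV (x * x) ∨ ∃ a, IsV (x * a * x⁻¹ * a⁻¹) := by
  decide +kernel

theorem even_two : ∀ x : Perm (Fin 4), sign x = 1 → x ^ 8 = 1 → x = 1 ∨ IsV x := by
  decide +kernel

theorem odd_swap : ∀ x : Perm (Fin 4), sign x ≠ 1 →
    ∃ v, (v = 1 ∨ IsV v) ∧ ∃ a b : Fin 4, a ≠ b ∧ x * v = swap a b := by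
  decide +kernel

set_option maxHeartbeats 400000 in
set_option synthInstance.maxSize 4000 in
theorem four_unique : ∀ x : Perm (Fin 4), x * x = 1 → x ≠ 1 → ∀ y : Perm (Fin 4), y * y = 1 → y ≠ 1 →
    x ≠ y → x * y = y * x → ¬ (IsV x ∧ IsV y) → ∀ x' : Perm (Fin 4), x' * x' = 1 → x' ≠ 1 → ¬ IsV x' →
    (x' * x) ^ 8 = 1 → (x' * y) ^ 8 = 1 → x' = x ∨ x' = y ∨ x' = x * y := by
  decide +kernel

/-- A nontrivial normal subgroup contains the double transpositions. -/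
theorem isV_mem {N : Subgroup (Perm (Fin 4))} [hN : N.Normal] (h : N ≠ ⊥) {v : Perm (Fin 4)}
    (hv : IsV v) : v ∈ N := by
  obtain ⟨x, hx, hx1⟩ := N.bot_or_exists_ne_one.resolve_left h
  obtain ⟨u, hu, huN⟩ : ∃ u, IsV u ∧ u ∈ N := by
    rcases normal_step x hx1 with h1 | h1 | ⟨a, h1⟩
    · exact ⟨x, h1, hx⟩
    · exact ⟨_, h1, mul_mem hx hx⟩
    · refine ⟨_, h1, ?_⟩
      rw [show x * a * x⁻¹ * a⁻¹ = x * (a * x⁻¹ * a⁻¹) by group]
      exact mul_mem hx (hN.conj_mem _ (inv_mem hx) a)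
  obtain ⟨u', hu', hne⟩ : ∃ u', IsV u' ∧ u ≠ u' := by
    by_cases e : u = z0
    · exact ⟨w0, Or.inr (Or.inl rfl), e ▸ facts.2.2.2.2.1⟩
    · exact ⟨z0, Or.inl rfl, e⟩
  obtain ⟨v', hv', hne'⟩ : ∃ v', IsV v' ∧ v ≠ v' := by
    by_cases e : v = z0
    · exact ⟨w0, Or.inr (Or.inl rfl), e ▸ facts.2.2.2.2.1⟩
    · exact ⟨z0, Or.inl rfl, e⟩
  obtain ⟨h1, h1z, -⟩ := trans u u' hu hu' hne
  obtain ⟨h2, h2z, -⟩ := trans v v' hv hv' hne'
  have hz : z0 ∈ N := by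
    have := hN.conj_mem u huN h1⁻¹
    rwa [← h1z, show h1⁻¹ * (h1 * z0 * h1⁻¹) * h1⁻¹⁻¹ = z0 by group] at this
  exact h2z ▸ hN.conj_mem z0 hz h2

/-- A normal subgroup containing an odd permutation is everything. -/
theorem eq_top_of_odd {N : Subgroup (Perm (Fin 4))} [hN : N.Normal] {x : Perm (Fin 4)} (hx : x ∈ N)
    (hs : sign x ≠ 1) : N = ⊤ := by
  have hne : N ≠ ⊥ := fun h => by
    rw [h, Subgroup.mem_bot] at hx
    exact hs (by rw [hx, map_one])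
  obtain ⟨v, hv, a, b, hab, hxv⟩ := odd_swap x hs
  have hsw : swap a b ∈ N := hxv ▸ mul_mem hx (hv.elim (fun e => e ▸ one_mem N) (isV_mem hne))
  rw [eq_top_iff, ← Equiv.Perm.closure_isSwap, Subgroup.closure_le]
  rintro t ⟨c, d, hcd, rfl⟩
  obtain ⟨g, hg⟩ := isConj_iff.1 (Equiv.Perm.isConj_swap hab hcd)
  exact hg ▸ hN.conj_mem _ hsw g

end Cfsg.Agent.Perm.CubicInsoluble.SymFour
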