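import Cfsg.Agent.Lib.Perm.CubicInsoluble.Basic
import Cfsg.Agent.Lib.Perm.CubicInsoluble.SymFour
import Cfsg.Agent.Lib.Perm.CubicInsoluble.CoreTrivial
import Cfsg.Agent.Lib.Cores.Nilpotent
import Cfsg.Agent.S3224
import Cfsg.Agent.S0483

/-!
# A maximal subgroup isomorphic to `Sym(4)` giving a suborbit of length three

The group is simple with dihedral or quasi-dihedral Sylow `2`-subgroups of order at least sixteen.
-/

set_option autoImplicit false
set_option linter.style.haveILetI false
set_option linter.unusedSectionVars false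

namespace Cfsg.Agent.Perm.CubicInsoluble.FourSym

open Subgroup SymFour
open Local (Vs InStab)
open scoped Pointwise

universe u

variable {G : Type u} [Group G] [Finite G]

/-- A maximal subgroup isomorphic to `Sym(4)` with trivial core, meeting a conjugate in a subgroup of
order eight. -/
structure Data (H : Subgroup G) : Prop where
  max : IsCoatom H
  core : H.normalCore = ⊥
  iso : Nonempty (H ≃* Equiv.Perm (Fin 4))
  eight : ∃ g, g ∉ H ∧ Nat.card (H ⊓ H.map (MulAut.conj g).toMonoidHom : Subgroup G) = 8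

variable {H : Subgroup G} (D : Data H) (e : H ≃* Equiv.Perm (Fin 4))

/-- The first double transposition, in the group. -/
def zG : G := e.symm z0

/-- The second double transposition, in the group. -/
def wG : G := e.symm w0

theorem val_eq {x : Equiv.Perm (Fin 4)} {h : H} : (e.symm x : G) = h ↔ x = e h :=
  ⟨fun a => by rw [← Subtype.ext a, MulEquiv.apply_symm_apply], fun a => by rw [a, MulEquiv.symm_apply_apply]⟩

theorem vs_iff (h : H) : Vs (zG e) (wG e) (h : G) ↔ IsV (e h) := by
  unfold Vs IsV zG wG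
  rw [← coe_mul, ← map_mul, eq_comm, val_eq e, eq_comm (a := (h : G)) (b := ↑(e.symm w0)), val_eq e,
    eq_comm (a := (h : G)), val_eq e, eq_comm (a := z0), eq_comm (a := w0), eq_comm (a := z0 * w0)]

theorem vs_mem {x : G} (hx : Vs (zG e) (wG e) x) : ∃ h : H, (h : G) = x ∧ IsV (e h) := by
  have key : ∀ p, IsV p → ∃ h : H, (h : G) = (e.symm p : G) ∧ IsV (e h) := fun p hp =>
    ⟨e.symm p, rfl, by rwa [MulEquiv.apply_symm_apply]⟩
  rcases hx with rfl | rfl | rfl
  · exact key z0 (Or.inl rfl)
  · exact key w0 (Or.inr (Or.inl rfl))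
  · obtain ⟨h, h1, h2⟩ := key _ (Or.inr (Or.inr rfl))
    exact ⟨h, by rw [h1, map_mul]; rfl, h2⟩

theorem orders : orderOf (zG e) = 2 ∧ orderOf (wG e) = 2 ∧ zG e ≠ wG e ∧ Commute (zG e) (wG e) := by
  haveI := Fact.mk Nat.prime_two
  obtain ⟨h1, h2, h3, h4, h5, h6, -⟩ := facts
  refine ⟨?_, ?_, fun h => h5 (e.symm.injective (Subtype.ext h)), ?_⟩
  · rw [zG, orderOf_coe, MulEquiv.orderOf_eq]
    exact orderOf_eq_prime (by rw [pow_two, h1]) h2
  · rw [wG, orderOf_coe, MulEquiv.orderOf_eq]
    exact orderOf_eq_prime (by rw [pow_two, h3]) h4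
  · change _ * _ = _ * _
    rw [zG, wG, ← coe_mul, ← coe_mul, ← map_mul, ← map_mul, h6]

theorem stab_of_mem {g : G} (hg : g ∈ H) : InStab (zG e) (wG e) g := by
  obtain ⟨h1, h2⟩ := conj_V (e ⟨g, hg⟩)
  constructor
  · have := (vs_iff e (⟨g, hg⟩ * e.symm z0 * ⟨g, hg⟩⁻¹)).2 (by simpa using h1)
    simpa [zG] using this
  · have := (vs_iff e (⟨g, hg⟩ * e.symm w0 * ⟨g, hg⟩⁻¹)).2 (by simpa using h2)
    simpa [wG] using this

theorem perm {x y : G} (hx : Vs (zG e) (wG e) x) (hy : Vs (zG e) (wG e) y) (hne : x ≠ y) :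
    ∃ g, g * zG e * g⁻¹ = x ∧ g * wG e * g⁻¹ = y := by
  obtain ⟨a, rfl, ha⟩ := vs_mem e hx
  obtain ⟨b, rfl, hb⟩ := vs_mem e hy
  obtain ⟨h, h1, h2⟩ := trans (e a) (e b) ha hb (fun h => hne (by rw [e.injective h]))
  refine ⟨(e.symm h : G), ?_, ?_⟩
  · have := congrArg (fun p => (e.symm p : G)) h1
    simpa [zG] using this
  · have := congrArg (fun p => (e.symm p : G)) h2
    simpa [wG] using this

include D

theorem mem_of_stab {g : G} (hg : InStab (zG e) (wG e) g) : g ∈ H := by
  obtain ⟨hz, hw, hne, hc⟩ := orders e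
  set V := closure ({zG e, wG e} : Set G) with hV
  have hmem : ∀ x, Vs (zG e) (wG e) x → x ∈ V := by
    rintro x (rfl | rfl | rfl)
    · exact subset_closure (Or.inl rfl)
    · exact subset_closure (Or.inr rfl)
    · exact mul_mem (subset_closure (Or.inl rfl)) (subset_closure (Or.inr rfl))
  have hnorm : ∀ a, InStab (zG e) (wG e) a → a ∈ normalizer (V : Set G) := by
    intro a ha
    refine mem_normalizer_fintype fun v hv => ?_
    induction hv using closure_induction with
    | mem x hx =>
      rcases hx with rfl | rfl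
      · exact hmem _ ha.1
      · exact hmem _ ha.2
    | one => simp
    | mul x y _ _ h1 h2 => rw [← conj_mul]; exact mul_mem h1 h2
    | inv x _ h1 => rw [← conj_inv]; exact inv_mem h1
  have hle : H ≤ normalizer (V : Set G) := fun a ha => hnorm a (stab_of_mem e ha)
  rcases D.max.le_iff.1 hle with h | h
  · exfalso
    haveI : V.Normal := normalizer_eq_top_iff.1 h
    have hVH : V ≤ H := by
      rw [hV, closure_le]
      rintro x (rfl | rfl)
      · exact (e.symm z0).2
      · exact (e.symm w0).2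
    have h1 := normal_le_normalCore.2 hVH
    rw [D.core, le_bot_iff] at h1
    have := hmem _ (Or.inl rfl)
    rw [h1, mem_bot] at this
    rw [this, orderOf_one] at hz
    norm_num at hz
  · exact h ▸ hnorm g hg

omit D

theorem four_of_mem (hmem : ∀ g, InStab (zG e) (wG e) g → g ∈ H) :
    CoreSetup.Four (zG e) (wG e) := by
  obtain ⟨hz, hw, hne, hc⟩ := orders e
  refine ⟨hz, hw, hne, hc, fun c h1 h2 => ?_⟩
  have hcH : c ∈ H := hmem _ ⟨by rw [h1.eq, mul_inv_cancel_right]; exact Or.inl rfl,
    by rw [h2.eq, mul_inv_cancel_right]; exact Or.inr (Or.inl rfl)⟩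
  have e1 : e ⟨c, hcH⟩ * z0 = z0 * e ⟨c, hcH⟩ := by
    have : (⟨c, hcH⟩ : H) * e.symm z0 = e.symm z0 * ⟨c, hcH⟩ := Subtype.ext h1.eq
    simpa using congrArg e this
  have e2 : e ⟨c, hcH⟩ * w0 = w0 * e ⟨c, hcH⟩ := by
    have : (⟨c, hcH⟩ : H) * e.symm w0 = e.symm w0 * ⟨c, hcH⟩ := Subtype.ext h2.eq
    simpa using congrArg e this
  rcases cent _ e1 e2 with h | h
  · exact Or.inl (congrArg Subtype.val (e.injective (h.trans (map_one e).symm)))
  · exact Or.inr ((vs_iff e ⟨c, hcH⟩).2 h)

include D

theorem four : CoreSetup.Four (zG e) (wG e) :=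
  four_of_mem e fun _ hg => mem_of_stab D e hg

/-- The Sylow subgroups have order at least sixteen. -/
theorem sixteen : 16 ∣ Nat.card G := by
  classical
  haveI := Fact.mk Nat.prime_two
  obtain ⟨e⟩ := D.iso
  have hcard : Nat.card H = 24 := by
    rw [Nat.card_congr e.toEquiv, Nat.card_eq_fintype_card, Fintype.card_perm]; rfl
  obtain ⟨g, hgH, hK8⟩ := D.eight
  have hN : normalizer (H : Set G) ≤ H := by
    rcases D.max.le_iff.1 (le_normalizer (H := H)) with h | h
    · exfalso
      haveI : H.Normal := normalizer_eq_top_iff.1 h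
      have := D.core
      rw [normalCore_eq_self] at this
      rw [this, card_bot] at hcard
      norm_num at hcard
    · exact h.le
  obtain ⟨k, hkH, hk⟩ := Basic.exists_normalizing (n := 3) hgH (by rw [hK8]; rfl)
    (by rw [hcard]; decide) hN
  set K := H ⊓ H.map (MulAut.conj g).toMonoidHom with hK
  have hKH : ∀ {x}, x ∈ K → x ∈ H := fun hx => hx.1
  have hp8 : ∀ x ∈ K, x ^ 8 = 1 := fun x hx => by
    have := pow_card_eq_one' (G := K) (x := ⟨x, hx⟩)
    rw [hK8] at this
    exact congrArg Subtype.val this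
  -- `K` contains the four group
  have hVK : ∀ x, Vs (zG e) (wG e) x → x ∈ K := by
    intro x hx
    obtain ⟨v, rfl, hv⟩ := vs_mem e hx
    have hPc : Nat.card (K.subgroupOf H) = 2 ^ (Nat.card H).factorization 2 := by
      rw [Nat.card_congr (subgroupOfEquivOfLe inf_le_left).toEquiv, hK8, hcard,
        show (24 : ℕ) = 2 ^ 3 * 3 by norm_num, Nat.factorization_mul (by norm_num) (by norm_num),
        Nat.factorization_pow]
      simp [Nat.Prime.factorization_self Nat.prime_two, Nat.factorization_eq_zero_of_not_dvd]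
    let P : Sylow 2 H := Sylow.ofCard (K.subgroupOf H) hPc
    -- the four group is a normal `2`-subgroup
    set Vs' : Subgroup H := (closure ({z0, w0} : Set (Equiv.Perm (Fin 4)))).comap e.toMonoidHom
    haveI hVn : (closure ({z0, w0} : Set (Equiv.Perm (Fin 4)))).Normal := by
      refine ⟨fun a ha b => ?_⟩
      induction ha using closure_induction with
      | mem y hy =>
        have hin : ∀ y, IsV y → y ∈ closure ({z0, w0} : Set (Equiv.Perm (Fin 4))) := by
          rintro y (rfl | rfl | rfl)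
          · exact subset_closure (Or.inl rfl)
          · exact subset_closure (Or.inr rfl)
          · exact mul_mem (subset_closure (Or.inl rfl)) (subset_closure (Or.inr rfl))
        rcases hy with rfl | rfl
        · exact hin _ (conj_V b).1
        · exact hin _ (conj_V b).2
      | one => simp
      | mul y y' _ _ h1 h2 => rw [← conj_mul]; exact mul_mem h1 h2
      | inv y _ h1 => rw [← conj_inv]; exact inv_mem h1
    haveI : Vs'.Normal := Normal.comap hVn _
    have hV2 : IsPGroup 2 Vs' := by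
      rintro ⟨y, hy⟩
      refine ⟨1, Subtype.ext (e.injective ?_)⟩
      change e (y ^ 2 ^ 1) = e 1
      rw [map_pow, map_one, pow_one, pow_two]
      have h' : ∀ a, a ∈ closure ({z0, w0} : Set (Equiv.Perm (Fin 4))) → a = 1 ∨ IsV a := by
        intro a ha
        induction ha using closure_induction with
        | mem y hy => exact hy.elim (fun h => Or.inr (Or.inl h)) fun h => Or.inr (Or.inr (Or.inl h))
        | one => exact Or.inl rfl
        | mul y y' _ _ h1 h2 =>
          obtain ⟨f1, f2, f3, f4, f5, f6, f7, f8, f9, f10⟩ := facts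
          rcases h1 with rfl | rfl | rfl | rfl <;> rcases h2 with rfl | rfl | rfl | rfl <;>
            revert f1 f2 f3 f4 f5 f6 f7 f8 f9 f10 <;> decide +kernel
        | inv y _ h1 =>
          obtain ⟨f1, f2, f3, f4, f5, f6, f7, f8, f9, f10⟩ := facts
          rcases h1 with rfl | rfl | rfl | rfl <;> decide +kernel
      rcases h' _ hy with h | h | h | h <;> rw [show e y = e.toMonoidHom y from rfl, h]
      · exact one_mul 1
      · exact facts.1
      · exact facts.2.2.1
      · exact facts.2.2.2.2.2.2.1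
    have hle : Vs' ≤ (P : Subgroup H) :=
      P.is_maximal' (IsPGroup.to_sup_of_normal_right P.isPGroup' hV2) le_sup_left ▸ le_sup_right
    refine mem_subgroupOf.1 (hle (?_ : v ∈ Vs'))
    rw [mem_comap]
    change e v ∈ _
    rcases hv with h | h | h <;> rw [h]
    · exact subset_closure (Or.inl rfl)
    · exact subset_closure (Or.inr rfl)
    · exact mul_mem (subset_closure (Or.inl rfl)) (subset_closure (Or.inr rfl))
  obtain ⟨hz, hw, hne, hc⟩ := orders e
  have hV : CoreSetup.Four (zG e) (wG e) := four D e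
  have hzz := CoreSetup.sq_of_order_two hz
  have hww := CoreSetup.sq_of_order_two hw
  set c : G → G := fun x => k * x * k⁻¹ with hcdef
  have hcmul : ∀ a b, c (a * b) = c a * c b := fun a b => by simp [hcdef, mul_assoc]
  have hcinj : Function.Injective c := fun a b h => mul_left_cancel (mul_right_cancel h)
  have hcK : ∀ x, Vs (zG e) (wG e) x → c x ∈ K ∧ c (c x) ∈ K := fun x hx =>
    ⟨hk _ (hVK x hx), hk _ (hk _ (hVK x hx))⟩
  have hnotall : ¬ (Vs (zG e) (wG e) (c (zG e)) ∧ Vs (zG e) (wG e) (c (wG e))) := fun h =>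
    hkH (mem_of_stab D e h)
  -- the square is in the stabilizer
  have hk2 : Vs (zG e) (wG e) (c (c (zG e))) ∧ Vs (zG e) (wG e) (c (c (wG e))) := by
    set aH : G → H := fun x => if h : x ∈ H then ⟨x, h⟩ else 1 with haH
    have haH' : ∀ {x}, x ∈ K → (aH x : G) = x := fun {x} hx => by simp [haH, dif_pos (hKH hx)]
    set f : G → Equiv.Perm (Fin 4) := fun x => e (aH x) with hf
    have fmul : ∀ {a b}, a ∈ K → b ∈ K → f (a * b) = f a * f b := fun {a b} ha hb => by
      simp only [hf, ← map_mul]
      exact congrArg e (Subtype.ext (by rw [coe_mul, haH' ha, haH' hb, haH' (mul_mem ha hb)]))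
    have fV : ∀ {x}, x ∈ K → (IsV (f x) ↔ Vs (zG e) (wG e) x) := fun {x} hx => by
      rw [hf, ← vs_iff e, haH' hx]
    have finj : ∀ {a b}, a ∈ K → b ∈ K → f a = f b → a = b := fun {a b} ha hb h => by
      rw [← haH' ha, ← haH' hb, e.injective h]
    have f1 : f 1 = 1 := by simp only [hf]; rw [show aH 1 = 1 from Subtype.ext (haH' K.one_mem), map_one]
    have fpow : ∀ {x}, x ∈ K → f x ^ 8 = 1 := fun {x} hx => by
      simp only [hf, ← map_pow]
      rw [show aH x ^ 8 = 1 from Subtype.ext (by rw [coe_pow, haH' hx, hp8 x hx]; rfl), map_one]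
    have hcinv : ∀ {x}, Vs (zG e) (wG e) x → c x * c x = 1 ∧ c x ≠ 1 := fun {x} hx => by
      have hx2 : x * x = 1 ∧ x ≠ 1 := by
        rcases hx with rfl | rfl | rfl
        · exact ⟨hzz, fun h => by rw [h, orderOf_one] at hz; norm_num at hz⟩
        · exact ⟨hww, fun h => by rw [h, orderOf_one] at hw; norm_num at hw⟩
        · refine ⟨by rw [hc.symm.mul_mul_mul_comm, hzz, hww, one_mul], fun h => hne ?_⟩
          rw [mul_eq_one_iff_eq_inv.1 h, inv_eq_of_mul_eq_one_right hww]
      refine ⟨by rw [← hcmul, hx2.1]; simp [hcdef], fun h => hx2.2 (hcinj (h.trans ?_))⟩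
      simp [hcdef]
    obtain ⟨hxK, hxK'⟩ := hcK _ (Or.inl rfl)
    obtain ⟨hyK, hyK'⟩ := hcK _ (Or.inr (Or.inl rfl))
    set x := c (zG e)
    set y := c (wG e)
    have sq1 : ∀ {a}, a ∈ K → a * a = 1 → f a * f a = 1 := fun {a} ha h => by
      rw [← fmul ha ha, h, f1]
    have ne1 : ∀ {a}, a ∈ K → a ≠ 1 → f a ≠ 1 := fun {a} ha h e' => h (finj ha K.one_mem (e'.trans f1.symm))
    have hxy : x * y = y * x := by rw [← hcmul, ← hcmul, hc.eq]
    have main : ∀ v, Vs (zG e) (wG e) v → ¬ Vs (zG e) (wG e) (c (c v)) → Vs (zG e) (wG e) (c v) := by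
      intro v hv hnv
      obtain ⟨hvK, hvK'⟩ := hcK v hv
      have h2 : c (c v) * c (c v) = 1 ∧ c (c v) ≠ 1 := by
        obtain ⟨a1, a2⟩ := hcinv hv
        exact ⟨by rw [← hcmul, a1]; simp [hcdef], fun h => a2 (hcinj (h.trans (by simp [hcdef])))⟩
      have h4 := four_unique (f x) (sq1 hxK (hcinv (Or.inl rfl)).1) (ne1 hxK (hcinv (Or.inl rfl)).2)
        (f y) (sq1 hyK (hcinv (Or.inr (Or.inl rfl))).1) (ne1 hyK (hcinv (Or.inr (Or.inl rfl))).2)
        (fun h => hne (hcinj (finj hxK hyK h))) (by rw [← fmul hxK hyK, ← fmul hyK hxK, hxy])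
        (fun h => hnotall ⟨(fV hxK).1 h.1, (fV hyK).1 h.2⟩) (f (c (c v))) (sq1 hvK' h2.1)
        (ne1 hvK' h2.2) (fun h => hnv ((fV hvK').1 h))
        (by rw [← fmul hvK' hxK]; exact fpow (mul_mem hvK' hxK))
        (by rw [← fmul hvK' hyK]; exact fpow (mul_mem hvK' hyK))
      rcases h4 with h | h | h
      · exact (hcinj (finj hvK' hxK h)).symm ▸ Or.inl rfl
      · exact (hcinj (finj hvK' hyK h)).symm ▸ Or.inr (Or.inl rfl)
      · rw [← fmul hxK hyK] at h
        exact (hcinj ((finj hvK' (mul_mem hxK hyK) h).trans (hcmul _ _).symm)).symm ▸ Or.inr (Or.inr rfl)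
    have hzw : Vs (zG e) (wG e) (zG e * wG e) := Or.inr (Or.inr rfl)
    have vmul : ∀ {a b}, Vs (zG e) (wG e) a → Vs (zG e) (wG e) b → a ≠ b → Vs (zG e) (wG e) (a * b) := by
      intro a b ha hb hab
      obtain ⟨a', rfl, ha'⟩ := vs_mem e ha
      obtain ⟨b', rfl, hb'⟩ := vs_mem e hb
      rw [← coe_mul, vs_iff e, map_mul]
      have hne' : e a' ≠ e b' := fun h => hab (by rw [e.injective h])
      have key : ∀ p q : Equiv.Perm (Fin 4), IsV p → IsV q → p ≠ q → IsV (p * q) := by decide +kernel
      exact key _ _ ha' hb' hne'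
    have ezw : zG e * (zG e * wG e) = wG e := by rw [← mul_assoc, hzz, one_mul]
    have ewz : zG e * wG e * wG e = zG e := by rw [mul_assoc, hww, mul_one]
    by_contra hnot
    refine hnotall ?_
    by_cases h1 : Vs (zG e) (wG e) (c (c (zG e))) <;> by_cases h2 : Vs (zG e) (wG e) (c (c (wG e)))
    · exact absurd ⟨h1, h2⟩ hnot
    · have h3 : ¬ Vs (zG e) (wG e) (c (c (zG e * wG e))) := fun h3 => h2 (by
        have := vmul h1 h3 fun h => by
          have h' := hcinj (hcinj h)
          rw [eq_comm, mul_eq_left] at h'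
          rw [h', orderOf_one] at hw; norm_num at hw
        rwa [← hcmul, ← hcmul, ezw] at this)
      have a1 := main _ (Or.inr (Or.inl rfl)) h2
      have a2 := main _ hzw h3
      refine ⟨?_, a1⟩
      have := vmul a2 a1 fun h => by
        have h' := hcinj h
        rw [mul_eq_right] at h'
        rw [h', orderOf_one] at hz; norm_num at hz
      rwa [← hcmul, ewz] at this
    · have h3 : ¬ Vs (zG e) (wG e) (c (c (zG e * wG e))) := fun h3 => h1 (by
        have := vmul h3 h2 fun h => by
          have h' := hcinj (hcinj h)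
          rw [mul_eq_right] at h'
          rw [h', orderOf_one] at hz; norm_num at hz
        rwa [← hcmul, ← hcmul, ewz] at this)
      have a1 := main _ (Or.inl rfl) h1
      have a2 := main _ hzw h3
      refine ⟨a1, ?_⟩
      have := vmul a1 a2 fun h => by
        have h' := hcinj h
        rw [eq_comm, mul_eq_left] at h'
        rw [h', orderOf_one] at hw; norm_num at hw
      rwa [← hcmul, ezw] at this
    · exact ⟨main _ (Or.inl rfl) h1, main _ (Or.inr (Or.inl rfl)) h2⟩
  have hk2H : k * k ∈ H := by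
    refine mem_of_stab D e ⟨?_, ?_⟩
    · simpa [hcdef, mul_assoc] using hk2.1
    · simpa [hcdef, mul_assoc] using hk2.2
  -- a `2`-element outside `H` normalizing `K`
  obtain ⟨a, m, hm, ham⟩ := Nat.exists_eq_pow_mul_and_not_dvd (orderOf_pos k).ne' 2 (by norm_num)
  obtain ⟨j, rfl⟩ : Odd m := Nat.odd_iff.2 (Nat.two_dvd_ne_zero.1 hm)
  set k' := k ^ (2 * j + 1) with hk'
  have hk'H : k' ∉ H := fun h => hkH (by
    rw [hk', pow_succ', pow_mul, pow_two] at h
    exact (H.mul_mem_cancel_right (pow_mem hk2H j)).1 h)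
  have hk'N : k' ∈ normalizer (K : Set G) := pow_mem (mem_normalizer_fintype fun x hx => hk x hx) _
  have hk'2 : IsPGroup 2 (zpowers k') := by
    obtain ⟨b, -, hb⟩ := (Nat.dvd_prime_pow Nat.prime_two (m := a)).1 (orderOf_dvd_of_pow_eq_one (x := k')
      (by rw [hk', ← pow_mul, mul_comm, ← ham, pow_orderOf_eq_one]))
    exact IsPGroup.of_card (n := b) (by rw [Nat.card_zpowers, hb])
  have hK2 : IsPGroup 2 K := IsPGroup.of_card (n := 3) (by rw [hK8]; rfl)
  have hL := IsPGroup.to_sup_of_normal_left' hK2 hk'2 ((zpowers_le).2 hk'N)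
  obtain ⟨l, hl⟩ := IsPGroup.iff_card.1 hL
  have hlt : 8 < Nat.card (K ⊔ zpowers k' : Subgroup G) := by
    rw [← hK8]
    refine lt_of_le_of_ne (card_le_of_le le_sup_left) fun h => hk'H (hKH ?_)
    exact (eq_of_le_of_card_ge le_sup_left h.ge).symm ▸ mem_sup_right (mem_zpowers k')
  rw [hl, show 8 = 2 ^ 3 from rfl, Nat.pow_lt_pow_iff_right one_lt_two] at hlt
  exact (show 16 ∣ 2 ^ l from (pow_dvd_pow 2 (show 4 ≤ l by omega))).trans (hl ▸ card_subgroup_dvd_card _)

omit D

/-- A four group which is its own centralizer in a Sylow subgroup of order at least sixteen. -/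
theorem sylow_types {z w : G} (V : CoreSetup.Four z w) (h16 : 16 ∣ Nat.card G) (S : Sylow 2 G)
    (hzS : z ∈ S) (hwS : w ∈ S) :
    16 ≤ Nat.card S ∧ (∃ c : G, c ∈ S ∧ orderOf c = 2 ∧ (c = z ∨ c = w ∨ c = z * w) ∧ ∀ s ∈ S, s * c = c * s) ∧
      ((∃ n : ℕ, 2 ≤ n ∧ Nonempty ((S : Subgroup G) ≃* DihedralGroup n)) ∨
        Cfsg.IsQuasiDihedral (S : Subgroup G)) := by
  haveI := Fact.mk Nat.prime_two
  have h16' : 16 ≤ Nat.card S := Nat.le_of_dvd Nat.card_pos
    (show 2 ^ 4 ∣ Nat.card S from S.pow_dvd_card_of_pow_dvd_card h16)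
  haveI : Nontrivial (S : Subgroup G) := Finite.one_lt_card_iff_nontrivial.1 (by omega)
  haveI := IsPGroup.center_nontrivial S.isPGroup'
  obtain ⟨x, hx⟩ := exists_ne (1 : center (S : Subgroup G))
  have hxc : ∀ s ∈ S, s * ((x : (S : Subgroup G)) : G) = ((x : (S : Subgroup G)) : G) * s := fun s hs =>
    congrArg Subtype.val (mem_center_iff.1 x.2 ⟨s, hs⟩)
  set c : G := ((x : (S : Subgroup G)) : G) with hc
  have hc1 : c ≠ 1 := fun h => hx (Subtype.ext (Subtype.ext h))
  have hcV : c = z ∨ c = w ∨ c = z * w :=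
    (V.cent c (hxc z hzS).symm (hxc w hwS).symm).resolve_left hc1
  have hzz := CoreSetup.sq_of_order_two V.hz
  have hww := CoreSetup.sq_of_order_two V.hw
  have hc2 : orderOf c = 2 := orderOf_eq_prime (by
    rw [pow_two]
    rcases hcV with h | h | h <;> rw [h]
    · exact hzz
    · exact hww
    · rw [V.comm.symm.mul_mul_mul_comm, hzz, hww, one_mul]) hc1
  refine ⟨h16', ⟨c, x.1.2, hc2, hcV, hxc⟩, ?_⟩
  obtain ⟨d, hd, hdS, hdc⟩ : ∃ d : G, orderOf d = 2 ∧ d ∈ S ∧
      ∀ g, Commute g d → Commute g c → g = 1 ∨ g = z ∨ g = w ∨ g = z * w := by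
    by_cases h : c = z
    · exact ⟨w, V.hw, hwS, fun g h1 h2 => V.cent g (h ▸ h2) h1⟩
    · refine ⟨z, V.hz, hzS, fun g h1 h2 => V.cent g h1 ?_⟩
      rcases hcV.resolve_left h with e | e
      · exact e ▸ h2
      · have := h1.mul_right (e ▸ h2 : Commute g (z * w))
        rwa [← mul_assoc, hzz, one_mul] at this
  set dS : (S : Subgroup G) := ⟨d, hdS⟩
  set zS : (S : Subgroup G) := ⟨z, hzS⟩
  set wS : (S : Subgroup G) := ⟨w, hwS⟩
  have hC : Nat.card (centralizer ({dS} : Set (S : Subgroup G))) = 4 := by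
    have hsub : ∀ g : (S : Subgroup G), g ∈ centralizer ({dS} : Set (S : Subgroup G)) →
        g = 1 ∨ g = zS ∨ g = wS ∨ g = zS * wS := by
      intro g hg
      rcases hdc g (congrArg Subtype.val (mem_centralizer_singleton_iff.1 hg)) (hxc g g.2) with h | h | h | h
      · exact Or.inl (Subtype.ext h)
      · exact Or.inr (Or.inl (Subtype.ext h))
      · exact Or.inr (Or.inr (Or.inl (Subtype.ext h)))
      · exact Or.inr (Or.inr (Or.inr (Subtype.ext h)))
    have hdd : dS = zS ∨ dS = wS ∨ dS = zS * wS :=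
      (hsub dS (mem_centralizer_singleton_iff.2 rfl)).resolve_left fun h => by
        rw [show d = 1 from congrArg Subtype.val h, orderOf_one] at hd; norm_num at hd
    have hcomm : zS * wS = wS * zS := Subtype.ext V.comm.eq
    have hback : ∀ g, g = 1 ∨ g = zS ∨ g = wS ∨ g = zS * wS →
        g ∈ centralizer ({dS} : Set (S : Subgroup G)) := fun g hg => by
      refine mem_centralizer_singleton_iff.2 ?_
      have hzw : Commute zS wS := hcomm
      rcases hg with rfl | rfl | rfl | rfl <;> rcases hdd with h | h | h <;> rw [h] <;>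
        first
          | exact (Commute.one_left _).eq
          | rfl
          | exact hzw.eq
          | exact hzw.symm.eq
          | exact ((Commute.refl zS).mul_right hzw).eq
          | exact (hzw.symm.mul_right (Commute.refl wS)).eq
          | exact ((Commute.refl zS).mul_left hzw.symm).eq
          | exact (hzw.mul_left (Commute.refl wS)).eq
    have hset : (centralizer ({dS} : Set (S : Subgroup G)) : Set (S : Subgroup G)) =
        {1, zS, wS, zS * wS} := Set.ext fun g => ⟨fun h => by simpa using hsub g h,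
          fun h => hback g (by simpa using h)⟩
    rw [← SetLike.coe_sort_coe, Nat.card_coe_set_eq, hset]
    have h1 : zS ≠ 1 := fun h => absurd V.hz (by
      rw [show z = 1 from congrArg Subtype.val h, orderOf_one]; norm_num)
    have h2 : wS ≠ 1 := fun h => absurd V.hw (by
      rw [show w = 1 from congrArg Subtype.val h, orderOf_one]; norm_num)
    have h3 : zS ≠ wS := fun h => V.hne (congrArg Subtype.val h)
    have h4 : zS * wS ≠ 1 := fun h => h3 (by
      rw [mul_eq_one_iff_eq_inv.1 h, inv_eq_of_mul_eq_one_right (Subtype.ext hww : wS * wS = 1)])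
    rw [Set.ncard_insert_of_notMem, Set.ncard_insert_of_notMem, Set.ncard_pair]
    · exact fun h => h1 (mul_eq_right.1 h.symm)
    · simp [h3, h1, h2, Ne.symm h2, Ne.symm h1]
    · simp [Ne.symm h4, Ne.symm h1, Ne.symm h2]
  rcases S3224.result S.isPGroup' dS (by rw [← orderOf_coe]; exact hd) hC with ⟨n, hn⟩ | h | h
  · refine Or.inl ⟨n, ?_, hn⟩
    obtain ⟨f⟩ := hn
    have := Nat.card_congr f.toEquiv
    rw [DihedralGroup.nat_card] at this
    omega
  · exact Or.inr h
  · omega

/-- A normal subgroup supplementing a `Sym(4)` normalizing its four group is everything. -/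
theorem normal_eq_top (hmem : ∀ g, InStab (zG e) (wG e) g → g ∈ H) (hV : CoreSetup.Four (zG e) (wG e))
    (h16 : 16 ∣ Nat.card G) {N : Subgroup G} (hN : N.Normal) (hN1 : N ≠ ⊥) (hsup : N ⊔ H = ⊤) :
    N = ⊤ := by
  classical
  haveI := Fact.mk Nat.prime_two
  have hcard : Nat.card H = 24 := by
    rw [Nat.card_congr e.toEquiv, Nat.card_eq_fintype_card, Fintype.card_perm]; rfl
  obtain ⟨hz, hw, hne, hc⟩ := orders e
  have hV2 : IsPGroup 2 (closure ({zG e, wG e} : Set G)) := by
    have hh : ∀ a ∈ closure ({zG e, wG e} : Set G), a * a = 1 ∧ Commute a (zG e) ∧ Commute a (wG e) := by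
      intro a ha
      induction ha using closure_induction with
      | mem x hx =>
        rcases hx with rfl | rfl
        · exact ⟨CoreSetup.sq_of_order_two hz, Commute.refl _, hc⟩
        · exact ⟨CoreSetup.sq_of_order_two hw, hc.symm, Commute.refl _⟩
      | one => exact ⟨one_mul 1, Commute.one_left _, Commute.one_left _⟩
      | mul x y _ _ h1 h2 =>
        refine ⟨?_, h1.2.1.mul_left h2.2.1, h1.2.2.mul_left h2.2.2⟩
        have hxy : Commute y x := by
          rcases hV.cent y h2.2.1 h2.2.2 with h | h | h | h <;> rw [h]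
          · exact Commute.one_left _
          · exact h1.2.1.symm
          · exact h1.2.2.symm
          · exact (h1.2.1.mul_right h1.2.2).symm
        rw [hxy.mul_mul_mul_comm, h1.1, h2.1, one_mul]
      | inv x _ h1 => exact ⟨by rw [← mul_inv_rev, h1.1, inv_one], h1.2.1.inv_left, h1.2.2.inv_left⟩
    rintro ⟨a, ha⟩
    exact ⟨1, Subtype.ext (by simpa [pow_two] using (hh a ha).1)⟩
  obtain ⟨S, hS⟩ := hV2.exists_le_sylow
  have hzS : zG e ∈ S := hS (subset_closure (Or.inl rfl))
  have hwS : wG e ∈ S := hS (subset_closure (Or.inr rfl))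
  obtain ⟨h16', ⟨c, hcS, hc2, hcV, hcc⟩, -⟩ := sylow_types hV h16 S hzS hwS
  have hcard' : Nat.card G * Nat.card (N.subgroupOf H) = Nat.card N * 24 := by
    have h1 : N.index = N.relIndex H := by
      rw [← relIndex_top_right, ← hsup, sup_comm, relIndex_sup_right]
    have h3 := (N.subgroupOf H).card_mul_index
    rw [← relIndex, ← h1, hcard] at h3
    rw [← N.card_mul_index, ← h3]
    ring
  set T := (S : Subgroup G) ⊓ N with hT
  -- `T` is a Sylow subgroup of `N`
  have hTidx : Nat.card S ∣ Nat.card T * (24 / Nat.card (N.subgroupOf H)) := by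
    obtain ⟨f, hf⟩ : Nat.card (N.subgroupOf H) ∣ 24 := hcard ▸ card_subgroup_dvd_card _
    have hdiv : 24 / Nat.card (N.subgroupOf H) = f := by
      rw [hf, Nat.mul_div_cancel_left _ Nat.card_pos]
    have hNf : N.index = f := by
      have h1 := N.card_mul_index
      rw [hf] at hcard'
      rw [← h1] at hcard'
      have : Nat.card N * (N.index * Nat.card (N.subgroupOf H)) =
          Nat.card N * (f * Nat.card (N.subgroupOf H)) := by rw [← mul_assoc, hcard']; ring
      exact Nat.eq_of_mul_eq_mul_right Nat.card_pos (Nat.eq_of_mul_eq_mul_left Nat.card_pos this)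
    rw [hdiv]
    have h3 := (N.subgroupOf (S : Subgroup G)).card_mul_index
    have h5 : Nat.card (N.subgroupOf (S : Subgroup G)) = Nat.card T := by
      rw [hT, inf_comm, ← inf_subgroupOf_right]
      exact Nat.card_congr (subgroupOfEquivOfLe inf_le_right).toEquiv
    rw [← h3, h5]
    refine mul_dvd_mul_left _ ?_
    rw [← relIndex, ← hNf]
    exact relIndex_dvd_index_of_normal N S
  by_cases hNH : N.subgroupOf H = ⊥
  · -- `N` contains a central involution of the Sylow subgroup
    exfalso
    haveI : Nontrivial T := by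
      by_contra hnt
      have hT1 : Nat.card T = 1 := by
        rw [not_nontrivial_iff_subsingleton] at hnt
        exact Nat.card_unique
      rw [hT1, one_mul, hNH, card_bot, Nat.div_one] at hTidx
      obtain ⟨k, hk⟩ := IsPGroup.iff_card.1 S.isPGroup'
      rw [hk] at hTidx h16'
      have : 2 ^ k ∣ 2 ^ 3 := (Nat.Coprime.dvd_of_dvd_mul_right
        ((Nat.coprime_primes Nat.prime_two Nat.prime_three).2 (by norm_num) |>.pow_left k)
        (by simpa using hTidx))
      have := Nat.le_of_dvd (by norm_num) this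
      omega
    haveI : (T.subgroupOf (S : Subgroup G)).Normal := by
      rw [hT, inf_subgroupOf_left]; infer_instance
    have hTS : (T.subgroupOf (S : Subgroup G)) ≠ ⊥ := by
      rw [ne_eq, subgroupOf_eq_bot, disjoint_iff, inf_eq_left.2 (show T ≤ S from inf_le_left)]
      exact (nontrivial_iff_ne_bot T).1 inferInstance
    haveI : Nontrivial (T.subgroupOf (S : Subgroup G)) := (nontrivial_iff_ne_bot _).2 hTS
    haveI : Group.IsNilpotent (S : Subgroup G) := S.isPGroup'.isNilpotent
    have := Cores.inf_center_ne_bot hTS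
    obtain ⟨y, hy, hy1⟩ := (T.subgroupOf (S : Subgroup G) ⊓ center _).bot_or_exists_ne_one.resolve_left this
    have hyc : ∀ s ∈ S, s * (y : G) = (y : G) * s := fun s hs =>
      congrArg Subtype.val (mem_center_iff.1 hy.2 ⟨s, hs⟩)
    have hyV := (hV.cent (y : G) (hyc _ hzS).symm (hyc _ hwS).symm).resolve_left
      (fun h => hy1 (Subtype.ext h))
    obtain ⟨v, hv, -⟩ := vs_mem e hyV
    have hvN : v ∈ N.subgroupOf H := mem_subgroupOf.2 (hv.symm ▸ (mem_subgroupOf.1 hy.1).2)
    rw [hNH, mem_bot] at hvN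
    rw [hvN] at hv
    exact hy1 (Subtype.ext hv.symm)
  set N0 := (N.subgroupOf H).map e.toMonoidHom with hN0
  haveI : N0.Normal := Normal.map inferInstance _ e.surjective
  have hN0ne : N0 ≠ ⊥ := fun h => hNH ((map_eq_bot_iff_of_injective _ e.injective).1 h)
  have hVN : ∀ x, Vs (zG e) (wG e) x → x ∈ N := by
    intro x hx
    obtain ⟨v, rfl, hv⟩ := vs_mem e hx
    obtain ⟨v', hv', he⟩ := SymFour.isV_mem hN0ne hv
    rw [show v = v' from (e.injective he).symm]
    exact mem_subgroupOf.1 hv'
  by_cases hodd : ∃ h ∈ N.subgroupOf H, Equiv.Perm.sign (e h) ≠ 1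
  · obtain ⟨h, hh, hs⟩ := hodd
    have htop := SymFour.eq_top_of_odd (N := N0) ⟨h, hh, rfl⟩ hs
    rw [← hsup, left_eq_sup]
    intro a ha
    obtain ⟨b, hb, hbe⟩ : e ⟨a, ha⟩ ∈ N0 := htop ▸ mem_top _
    have := congrArg Subtype.val (e.injective hbe)
    rw [show a = (b : G) from this.symm]
    exact mem_subgroupOf.1 hb
  push Not at hodd
  exfalso
  -- an element of `T` outside the four group normalizes it
  have hV4 : 4 ∣ Nat.card (N.subgroupOf H) := by
    have hzN : (e.symm z0) ∈ N.subgroupOf H := mem_subgroupOf.2 (hVN _ (Or.inl rfl))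
    have hwN : (e.symm w0) ∈ N.subgroupOf H := mem_subgroupOf.2 (hVN _ (Or.inr (Or.inl rfl)))
    set Vp := closure ({z0, w0} : Set (Equiv.Perm (Fin 4))) with hVp
    have hle : Vp ≤ N0 := by
      rw [hVp, closure_le]
      rintro p (rfl | rfl)
      · exact ⟨_, hzN, by simp⟩
      · exact ⟨_, hwN, by simp⟩
    rw [← card_map_of_injective (f := e.toMonoidHom) e.injective]
    refine dvd_trans ?_ (card_dvd_of_le hle)
    obtain ⟨f1, f2, f3, f4, f5, f6, f7, f8, f9, f10⟩ := facts
    have := Nat.card_eq_fintype_card (α := ({1, z0, w0, z0 * w0} : Finset (Equiv.Perm (Fin 4))))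
    let V4 : Subgroup (Equiv.Perm (Fin 4)) :=
      { carrier := ({1, z0, w0, z0 * w0} : Finset (Equiv.Perm (Fin 4)))
        one_mem' := by simp
        mul_mem' := fun {a b} => by
          simp only [Finset.coe_insert, Finset.coe_singleton, Set.mem_insert_iff, Set.mem_singleton_iff]
          revert a b; decide +kernel
        inv_mem' := fun {a} => by
          simp only [Finset.coe_insert, Finset.coe_singleton, Set.mem_insert_iff, Set.mem_singleton_iff]
          revert a; decide +kernel }
    have hV4le : V4 ≤ Vp := by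
      intro p hp
      rcases (by simpa [V4] using hp : p = 1 ∨ p = z0 ∨ p = w0 ∨ p = z0 * w0) with rfl | rfl | rfl | rfl
      · exact one_mem _
      · exact subset_closure (Or.inl rfl)
      · exact subset_closure (Or.inr rfl)
      · exact mul_mem (subset_closure (Or.inl rfl)) (subset_closure (Or.inr rfl))
    refine dvd_trans ?_ (card_dvd_of_le hV4le)
    rw [show Nat.card V4 = Nat.card ({1, z0, w0, z0 * w0} : Finset (Equiv.Perm (Fin 4))) from rfl, this,
      Fintype.card_coe]
    decide +kernel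
  have hT8 : 4 < Nat.card T := by
    obtain ⟨a, ha⟩ := hV4
    obtain ⟨b, hb⟩ : 4 * a ∣ 24 := ha ▸ hcard ▸ card_subgroup_dvd_card _
    have hb6 : 24 / Nat.card (N.subgroupOf H) ∣ 6 := by
      have hdvd : a * b = 6 := by nlinarith
      rw [ha, hb, Nat.mul_div_cancel_left _ (Nat.pos_of_ne_zero fun h => by rw [h] at hb; norm_num at hb)]
      exact Dvd.intro_left a hdvd
    have h1 := hTidx.trans (mul_dvd_mul_left _ hb6)
    obtain ⟨k, hk⟩ := IsPGroup.iff_card.1 S.isPGroup'
    rw [hk, show 6 = 2 * 3 from rfl, ← mul_assoc] at h1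
    have h2 := Nat.Coprime.dvd_of_dvd_mul_right
      ((Nat.coprime_primes Nat.prime_two Nat.prime_three).2 (by norm_num) |>.pow_left k) h1
    have := Nat.le_of_dvd (Nat.mul_pos Nat.card_pos two_pos) h2
    omega
  set VT := closure ({zG e, wG e} : Set G) with hVT
  have hVTT : VT ≤ T := by
    rw [hVT, closure_le]
    rintro x (rfl | rfl)
    · exact ⟨hzS, hVN _ (Or.inl rfl)⟩
    · exact ⟨hwS, hVN _ (Or.inr (Or.inl rfl))⟩
  haveI : Group.IsNilpotent T := (S.isPGroup'.to_le inf_le_left).isNilpotent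
  have hin : ∀ x ∈ VT, x = 1 ∨ Vs (zG e) (wG e) x := by
    intro x hx
    have hc' : ∀ v ∈ VT, Commute v (zG e) ∧ Commute v (wG e) := by
      intro v hv
      induction hv using closure_induction with
      | mem u hu =>
        rcases hu with rfl | rfl
        · exact ⟨Commute.refl _, hc⟩
        · exact ⟨hc.symm, Commute.refl _⟩
      | one => exact ⟨Commute.one_left _, Commute.one_left _⟩
      | mul _ _ _ _ h1 h2 => exact ⟨h1.1.mul_left h2.1, h1.2.mul_left h2.2⟩
      | inv _ _ h1 => exact ⟨h1.1.inv_left, h1.2.inv_left⟩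
    exact hV.cent x (hc' x hx).1 (hc' x hx).2
  have hVne : VT.subgroupOf T ≠ ⊤ := fun h => by
    have hTV : T ≤ VT := subgroupOf_eq_top.1 h
    have hsub : (T : Set G) ⊆ {1, zG e, wG e, zG e * wG e} := fun x hx => by
      simpa [Vs] using hin x (hTV hx)
    have h4 : Nat.card T ≤ 4 := by
      have h1 : ({1, zG e, wG e, zG e * wG e} : Set G).ncard ≤ 4 := by
        refine (Set.ncard_insert_le _ _).trans ?_
        refine Nat.succ_le_succ ((Set.ncard_insert_le _ _).trans (Nat.succ_le_succ ?_))
        exact (Set.ncard_insert_le _ _).trans (by rw [Set.ncard_singleton])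
      rw [← SetLike.coe_sort_coe, Nat.card_coe_set_eq]
      exact (Set.ncard_le_ncard hsub (Set.toFinite _)).trans h1
    omega
  have hnc := Group.normalizerCondition_of_isNilpotent (G := T) (VT.subgroupOf T) (lt_top_iff_ne_top.2 hVne)
  obtain ⟨q, hq, hqn⟩ := SetLike.exists_of_lt hnc
  apply hqn
  rw [mem_subgroupOf]
  have hzT : zG e ∈ T := hVTT (subset_closure (Or.inl rfl))
  have hwT : wG e ∈ T := hVTT (subset_closure (Or.inr rfl))
  have hqH : (q : G) ∈ H := by
    refine hmem _ ⟨?_, ?_⟩
    · refine (hin _ ?_).resolve_left fun h => ?_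
      · exact (mem_normalizer_iff.1 hq ⟨_, hzT⟩).1 (mem_subgroupOf.2 (subset_closure (Or.inl rfl)))
      · rw [conj_eq_one_iff] at h; rw [h, orderOf_one] at hz; norm_num at hz
    · refine (hin _ ?_).resolve_left fun h => ?_
      · exact (mem_normalizer_iff.1 hq ⟨_, hwT⟩).1 (mem_subgroupOf.2 (subset_closure (Or.inr rfl)))
      · rw [conj_eq_one_iff] at h; rw [h, orderOf_one] at hw; norm_num at hw
  have hsq : e ⟨q, hqH⟩ ^ 8 = 1 := by
    obtain ⟨k, hk⟩ := (S.isPGroup'.to_le inf_le_left : IsPGroup 2 T) q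
    have h1 : orderOf (e ⟨q, hqH⟩) ∣ 2 ^ k := by
      rw [MulEquiv.orderOf_eq, ← orderOf_coe]
      exact orderOf_dvd_of_pow_eq_one (by simpa using congrArg Subtype.val hk)
    have h2 : orderOf (e ⟨q, hqH⟩) ∣ 8 * 3 := by
      have := orderOf_dvd_natCard (e ⟨q, hqH⟩)
      rwa [Nat.card_eq_fintype_card, Fintype.card_perm, Fintype.card_fin] at this
    exact orderOf_dvd_iff_pow_eq_one.1 ((Nat.Coprime.coprime_dvd_left h1
      (Nat.Coprime.pow_left k (by norm_num))).dvd_of_dvd_mul_right h2)
  rcases even_two _ (hodd ⟨q, hqH⟩ (mem_subgroupOf.2 q.2.2)) hsq with h | h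
  · rw [show ((q : G)) = 1 from congrArg Subtype.val (e.injective (h.trans (map_one e).symm))]
    exact one_mem _
  · rcases (vs_iff e ⟨q, hqH⟩).2 h with h' | h' | h' <;> simp only at h' <;> rw [h']
    · exact subset_closure (Or.inl rfl)
    · exact subset_closure (Or.inr rfl)
    · exact mul_mem (subset_closure (Or.inl rfl)) (subset_closure (Or.inr rfl))

include D

/-- The group is simple. -/
theorem simple : IsSimpleGroup G := by
  obtain ⟨e⟩ := D.iso
  obtain ⟨hz, -⟩ := orders e
  haveI : Nontrivial G := ⟨⟨zG e, 1, fun h => by rw [h, orderOf_one] at hz; norm_num at hz⟩⟩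
  refine ⟨fun N hN => or_iff_not_imp_left.2 fun hN1 => ?_⟩
  refine normal_eq_top e (fun g hg => mem_of_stab D e hg) (four D e) (sixteen D) hN hN1 ?_
  refine (D.max.le_iff.1 le_sup_right).resolve_right fun h => hN1 ?_
  have := normal_le_normalCore.2 (h ▸ le_sup_left : N ≤ H)
  rwa [D.core, le_bot_iff] at this

end Cfsg.Agent.Perm.CubicInsoluble.FourSym
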