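import Cfsg.Agent.Lib.AutPSL.Conj
import Cfsg.Agent.Lib.AutPSL.Out
import Cfsg.Agent.Lib.Forms.KleinPSL

/-!
# The fixed points of an involutory automorphism of `PSL₂(q)`, `q` odd

Either the fixed points contain `(q - 1) / 2` pairwise commuting elements and one more, or they
contain both root groups of a subfield of order `√q`.
-/

set_option autoImplicit false
set_option linter.style.haveILetI false
set_option linter.unusedSectionVars false

namespace Cfsg.Agent.Perm.CubicInsoluble.InvAut

open Matrix
open scoped MatrixGroups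
open Cfsg.Agent.AutPSL Cfsg.Agent.AutPSL.Basic

universe u

variable {F : Type u} [Field F] [Fintype F]

local notation "M2" => Matrix (Fin 2) (Fin 2) F
local notation "PG" => Matrix.ProjectiveSpecialLinearGroup (Fin 2) F
local notation "π" => Forms.KleinPSL.pi F

theorem gAut_pi (g : GL (Fin 2) F) {s s' : SL(2, F)} (h : (g : M2) * (s : M2) = (s' : M2) * (g : M2)) :
    (gAut g : MulAut PG) (π s) = π s' := by
  refine congrArg π (Subtype.ext ?_)
  exact (conjSL_coe g s).trans (by rw [h, mul_assoc, Units.mul_inv, mul_one])

theorem fAut_pi (σ : F ≃+* F) {s : SL(2, F)} (h : (s : M2).map σ = (s : M2)) :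
    (fAut σ : MulAut PG) (π s) = π s :=
  congrArg π (Subtype.ext ((fieldSL_coe σ s).trans h))

/-- The upper unipotents. -/
def upper (c : F) : SL(2, F) := ⟨!![1, c; 0, 1], by simp [Matrix.det_fin_two]⟩

/-- The lower unipotents. -/
def lower (c : F) : SL(2, F) := ⟨!![1, 0; c, 1], by simp [Matrix.det_fin_two]⟩

@[simp] theorem upper_coe (c : F) : (upper c : M2) = !![1, c; 0, 1] := rfl

@[simp] theorem lower_coe (c : F) : (lower c : M2) = !![1, 0; c, 1] := rfl

theorem upper_mul (c d : F) : upper c * upper d = upper (c + d) := by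
  refine Subtype.ext ?_
  rw [Matrix.SpecialLinearGroup.coe_mul, upper_coe, upper_coe, upper_coe]
  ext i j
  fin_cases i <;> fin_cases j <;> simp [Matrix.mul_apply, Fin.sum_univ_two, add_comm]

theorem upper_zero : upper (0 : F) = 1 := by
  refine Subtype.ext ?_
  ext i j
  fin_cases i <;> fin_cases j <;> simp [upper]

theorem lower_mul (c d : F) : lower c * lower d = lower (c + d) := by
  refine Subtype.ext ?_
  rw [Matrix.SpecialLinearGroup.coe_mul, lower_coe, lower_coe, lower_coe]
  ext i j
  fin_cases i <;> fin_cases j <;> simp [Matrix.mul_apply, Fin.sum_univ_two, add_comm]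

theorem lower_zero : lower (0 : F) = 1 := by
  refine Subtype.ext ?_
  ext i j
  fin_cases i <;> fin_cases j <;> simp [lower]

theorem upper_injective (h2 : (2 : F) ≠ 0) : Function.Injective fun c : F => π (upper c) := by
  intro c d h
  rcases Forms.KleinPSL.pi_eq_iff.1 h with e | e
  · simpa using congrArg (fun s : SL(2, F) => (s : M2) 0 1) e
  · have := congrArg (fun s : SL(2, F) => (s : M2) 0 0) e
    simp [Matrix.SpecialLinearGroup.coe_neg] at this
    exact absurd (by linear_combination this) h2

theorem upper_lower_ne (h2 : (2 : F) ≠ 0) {c d : F} (hc : c ≠ 0) (hd : d ≠ 0) :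
    π (upper c) * π (lower d) ≠ π (lower d) * π (upper c) := by
  intro h
  rw [← map_mul, ← map_mul] at h
  rcases Forms.KleinPSL.pi_eq_iff.1 h with e | e
  · have := congrArg (fun s : SL(2, F) => (s : M2) 0 0) e
    simp [Matrix.SpecialLinearGroup.coe_mul, Matrix.SpecialLinearGroup.coe_neg] at this
    exact this.elim hc hd
  · have := congrArg (fun s : SL(2, F) => (s : M2) 0 1) e
    simp [Matrix.SpecialLinearGroup.coe_mul, Matrix.SpecialLinearGroup.coe_neg] at this
    exact mul_ne_zero h2 hc (by linear_combination this)

theorem upper_pow (c : F) (n : ℕ) : upper c ^ n = upper (n * c) := by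
  induction n with
  | zero => rw [pow_zero, Nat.cast_zero, zero_mul, upper_zero]
  | succ n ih => rw [pow_succ, ih, upper_mul]; push_cast; ring_nf

theorem lower_pow (c : F) (n : ℕ) : lower c ^ n = lower (n * c) := by
  induction n with
  | zero => rw [pow_zero, Nat.cast_zero, zero_mul, lower_zero]
  | succ n ih => rw [pow_succ, ih, lower_mul]; push_cast; ring_nf

/-- The two kinds of fixed point sets. -/
theorem fixed_cases (h2 : (2 : F) ≠ 0) {θ : MulAut PG} (hθ : θ * θ = 1) (hθ1 : θ ≠ 1) :
    (∃ A : Finset PG, (∀ x ∈ A, θ x = x) ∧ (∀ x ∈ A, ∀ y ∈ A, x * y = y * x) ∧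
        Fintype.card F ≤ 2 * A.card + 1 ∧ ∃ y, θ y = y ∧ y ∉ A) ∨
      (∃ (S : Finset F) (U L : F → PG), S.card * S.card = Fintype.card F ∧ 3 ≤ S.card ∧ (1 : F) ∈ S ∧
        Function.Injective U ∧
        (∀ c ∈ S, θ (U c) = U c ∧ θ (L c) = L c ∧
          U c ^ Fintype.card F = 1 ∧ L c ^ Fintype.card F = 1) ∧
        (∀ c d, U c * U d = U d * U c) ∧ U 1 * L 1 ≠ L 1 * U 1) := by
  classical
  obtain ⟨g, σ, hgs⟩ := Out.exists_decomp_two θ
  by_cases hσ : σ = 1
  · -- the matrix squares to a scalar
    left
    subst hσ
    rw [map_one, mul_one] at hgs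
    subst hgs
    rw [← map_mul, Out.gAut_eq_one_iff le_rfl] at hθ
    obtain ⟨c, hc⟩ := Conj.exists_sc one_le_two hθ
    have hc' : (g : M2) * (g : M2) = (c : F) • (1 : M2) := by
      have h := congrArg Units.val hc
      rw [Conj.sc_coe, Units.val_mul, Matrix.scalar_apply] at h
      rw [← h, smul_one_eq_diagonal]
    set α := (g : M2) 0 0 with hα
    set β := (g : M2) 0 1 with hβ
    set γ := (g : M2) 1 0 with hγ
    set δ := (g : M2) 1 1 with hδ
    have hns : ¬ (β = 0 ∧ γ = 0 ∧ α = δ) := by
      rintro ⟨hb, hc0, had⟩
      apply hθ1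
      rw [Out.gAut_eq_one_iff le_rfl]
      refine Subgroup.mem_center_iff.2 fun x => Units.ext ?_
      have hg : (g : M2) = α • (1 : M2) := by
        ext i j
        fin_cases i <;> fin_cases j <;> simp [← hα, ← hβ, ← hγ, ← hδ, hb, hc0, had]
      rw [Units.val_mul, Units.val_mul, hg, mul_smul_comm, smul_mul_assoc, mul_one, one_mul]
    have e00 := congrFun (congrFun hc' 0) 0
    have e01 := congrFun (congrFun hc' 0) 1
    have e10 := congrFun (congrFun hc' 1) 0
    have e11 := congrFun (congrFun hc' 1) 1
    simp [Matrix.mul_apply, Fin.sum_univ_two, ← hα, ← hβ, ← hγ, ← hδ] at e00 e01 e10 e11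
    have htr : δ = -α := by
      by_contra hne
      have hne' : α + δ ≠ 0 := fun h => hne (by linear_combination h)
      have hb : β = 0 := mul_left_cancel₀ hne' (by rw [mul_zero]; linear_combination e01)
      have hg : γ = 0 := mul_left_cancel₀ hne' (by rw [mul_zero]; linear_combination e10)
      have : (α - δ) * (α + δ) = 0 := by linear_combination e00 - e11
      exact hns ⟨hb, hg, sub_eq_zero.1 ((mul_eq_zero.1 this).resolve_right hne')⟩
    have hdet : (g : M2).det ≠ 0 := ((Matrix.isUnit_iff_isUnit_det _).1 g.isUnit).ne_zero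
    rw [Matrix.det_fin_two, ← hα, ← hβ, ← hγ, ← hδ, htr] at hdet
    set d : F := α * α + β * γ with hd
    have hd0 : d ≠ 0 := fun h => hdet (by rw [hd] at h; linear_combination -h)
    set H : F → F → M2 := fun a b => !![a + b * α, b * β; b * γ, a - b * α] with hH
    have hHdet : ∀ a b, (H a b).det = a * a - d * (b * b) := fun a b => by
      rw [Matrix.det_fin_two]; simp [hH, hd]; ring
    have hHg : ∀ a b, (g : M2) * H a b = H a b * (g : M2) := fun a b => by
      ext i j
      fin_cases i <;> fin_cases j <;>
        simp [hH, Matrix.mul_apply, Fin.sum_univ_two, ← hα, ← hβ, ← hγ, ← hδ, htr] <;> ring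
    have hHmul : ∀ a b a' b', H a b * H a' b' = H a' b' * H a b := fun a b a' b' => by
      ext i j
      fin_cases i <;> fin_cases j <;> simp [hH, Matrix.mul_apply, Fin.sum_univ_two] <;> ring
    set D := Finset.univ.filter fun a : F => a * a ≠ d with hD
    let P : F → F := fun a => (a * a + d) / (a * a - d)
    let Q : F → F := fun a => 2 * a / (a * a - d)
    have hsd : ∀ a ∈ D, (H (P a) (Q a)).det = 1 := fun a ha => by
      have h0 : a * a - d ≠ 0 := sub_ne_zero.2 (Finset.mem_filter.1 ha).2
      rw [hHdet]
      simp only [P, Q]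
      rw [div_mul_div_comm, div_mul_div_comm, mul_div_assoc', ← sub_div,
        div_eq_one_iff_eq (mul_ne_zero h0 h0)]
      ring
    let φ : F → PG := fun a => if h : a ∈ D then π ⟨H (P a) (Q a), hsd a h⟩ else 1
    have hfix : ∀ a, (gAut g : MulAut PG) (φ a) = φ a := fun a => by
      simp only [φ]
      split_ifs
      · exact gAut_pi g (hHg _ _)
      · exact map_one _
    refine ⟨D.image φ, fun x hx => ?_, fun x hx y hy => ?_, ?_, ?_⟩
    · obtain ⟨a, -, rfl⟩ := Finset.mem_image.1 hx
      exact hfix a
    · obtain ⟨a, ha, rfl⟩ := Finset.mem_image.1 hx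
      obtain ⟨b, hb, rfl⟩ := Finset.mem_image.1 hy
      simp only [φ, dif_pos ha, dif_pos hb, ← map_mul]
      exact congrArg π (Subtype.ext (hHmul _ _ _ _))
    · have hD0 : (0 : F) ∈ D := Finset.mem_filter.2 ⟨Finset.mem_univ _, by rwa [mul_zero, ne_comm]⟩
      have hDc : Fintype.card F ≤ D.card + 2 := by
        have h1 : D.card + (Finset.univ.filter fun a : F => ¬ a * a ≠ d).card = Fintype.card F := by
          rw [hD, Finset.card_filter_add_card_filter_not, Finset.card_univ]
        by_cases hs : ∃ r, r * r = d
        · obtain ⟨r, hr⟩ := hs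
          have : (Finset.univ.filter fun a : F => ¬ a * a ≠ d).card ≤ 2 :=
            le_trans (Finset.card_le_card (t := {r, -r}) fun a ha => by
              have ha' : a * a = d := not_not.1 (Finset.mem_filter.1 ha).2
              have : (a - r) * (a + r) = 0 := by linear_combination ha' - hr
              rcases mul_eq_zero.1 this with e | e
              · simp [sub_eq_zero.1 e]
              · simp [eq_neg_of_add_eq_zero_left e]) Finset.card_le_two
          omega
        · have : (Finset.univ.filter fun a : F => ¬ a * a ≠ d).card = 0 :=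
            Finset.card_eq_zero.2 (Finset.filter_eq_empty_iff.2 fun a _ h => hs ⟨a, not_not.1 h⟩)
          omega
      have hkey : ∀ a ∈ D, ∀ b ∈ D, φ a = φ b → b = a ∨ a * b = d := by
        intro a ha b hb h
        simp only [φ, dif_pos ha, dif_pos hb] at h
        have hcross : ∀ p q p' q' : F, (H p q = H p' q' ∨ H p q = -H p' q') → p * q' = p' * q := by
          intro p q p' q' hpq
          obtain ⟨ε, hε⟩ : ∃ ε : F, H p q = ε • H p' q' := by
            rcases hpq with e | e
            · exact ⟨1, by rw [e, one_smul]⟩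
            · exact ⟨-1, by rw [e, neg_one_smul]⟩
          have p00 := congrFun (congrFun hε 0) 0
          have p01 := congrFun (congrFun hε 0) 1
          have p10 := congrFun (congrFun hε 1) 0
          have p11 := congrFun (congrFun hε 1) 1
          simp [hH, -mul_eq_mul_right_iff] at p00 p01 p10 p11
          have hP2 : (2 : F) * (p * q' - p' * q) * α = 0 := by
            linear_combination q' * α * p00 + q' * α * p11 - p' * p00 + p' * p11
          have hPb : (2 : F) * (p * q' - p' * q) * β = 0 := by
            linear_combination q' * β * p00 + q' * β * p11 - 2 * p' * p01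
          have hPg : (2 : F) * (p * q' - p' * q) * γ = 0 := by
            linear_combination q' * γ * p00 + q' * γ * p11 - 2 * p' * p10
          by_contra hne
          have hz : (2 : F) * (p * q' - p' * q) ≠ 0 := mul_ne_zero h2 (sub_ne_zero.2 hne)
          refine hd0 ?_
          rw [hd, (mul_eq_zero.1 hP2).resolve_left hz, (mul_eq_zero.1 hPb).resolve_left hz]
          ring
        have e : P a * Q b = P b * Q a := by
          refine hcross _ _ _ _ ?_
          rcases Forms.KleinPSL.pi_eq_iff.1 h with e | e
          · exact Or.inl (congrArg Subtype.val e)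
          · exact Or.inr (congrArg Subtype.val e)
        have ha0 : a * a - d ≠ 0 := sub_ne_zero.2 (Finset.mem_filter.1 ha).2
        have hb0 : b * b - d ≠ 0 := sub_ne_zero.2 (Finset.mem_filter.1 hb).2
        simp only [P, Q] at e
        rw [div_mul_div_comm, div_mul_div_comm, div_eq_div_iff (mul_ne_zero ha0 hb0) (mul_ne_zero hb0 ha0)] at e
        have h'' : ((2 : F) * ((b - a) * (a * b - d))) * ((a * a - d) * (b * b - d)) = 0 := by
          linear_combination -e
        have h' := (mul_eq_zero.1 h'').resolve_right (mul_ne_zero ha0 hb0)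
        rcases mul_eq_zero.1 ((mul_eq_zero.1 h').resolve_left h2) with e' | e'
        · exact Or.inl (sub_eq_zero.1 e')
        · exact Or.inr (sub_eq_zero.1 e')
      have hlt : D.card < 2 * (D.image φ).card := by
        rw [Finset.card_eq_sum_card_image φ D, mul_comm, ← smul_eq_mul, ← Finset.sum_const]
        refine Finset.sum_lt_sum (fun x hx => ?_) ⟨φ 0, Finset.mem_image_of_mem φ hD0, ?_⟩
        · obtain ⟨a, ha, rfl⟩ := Finset.mem_image.1 hx
          refine le_trans (Finset.card_le_card (t := {a, d / a}) fun b hb => ?_) Finset.card_le_two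
          obtain ⟨hbD, hbe⟩ := Finset.mem_filter.1 hb
          rcases hkey a ha b hbD hbe.symm with e | e
          · simp [e]
          · have ha0 : a ≠ 0 := fun h => hd0 (by rw [← e, h, zero_mul])
            rw [← e]; simp [ha0]
        · refine lt_of_le_of_lt (b := 1) (le_trans (Finset.card_le_card (t := {0}) fun b hb => ?_)
            (Finset.card_singleton _).le) one_lt_two
          obtain ⟨hbD, hbe⟩ := Finset.mem_filter.1 hb
          rcases hkey 0 hD0 b hbD hbe.symm with e | e
          · simp [e]
          · exact absurd (by rw [← e, zero_mul]) hd0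
      omega
    · -- an element anticommuting with the matrix
      obtain ⟨X, hXd, hX⟩ : ∃ X : M2, X.det ≠ 0 ∧ (g : M2) * X = -X * (g : M2) := by
        by_cases hb : β = 0
        · by_cases hc0 : γ = 0
          · refine ⟨!![0, 1; 1, 0], by simp [Matrix.det_fin_two], ?_⟩
            ext i j
            fin_cases i <;> fin_cases j <;>
              simp [Matrix.mul_apply, Fin.sum_univ_two, ← hα, ← hβ, ← hγ, ← hδ, htr, hb, hc0]
          · refine ⟨!![-γ, 2 * α; 0, γ], by simp [Matrix.det_fin_two, hc0], ?_⟩
            ext i j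
            fin_cases i <;> fin_cases j <;>
              simp [Matrix.mul_apply, Fin.sum_univ_two, ← hα, ← hβ, ← hγ, ← hδ, htr] <;> ring
        · refine ⟨!![β, 0; -(2 * α), -β], by simp [Matrix.det_fin_two, hb], ?_⟩
          ext i j
          fin_cases i <;> fin_cases j <;>
            simp [Matrix.mul_apply, Fin.sum_univ_two, ← hα, ← hβ, ← hγ, ← hδ, htr] <;> ring
      obtain ⟨a, b, hab⟩ : ∃ a b : F, (a * a - d * (b * b)) * X.det = 1 := by
        obtain ⟨a, b, hab⟩ := FiniteField.exists_root_sum_quadratic
          (f := Polynomial.X ^ 2)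
          (g := Polynomial.C (-d) * Polynomial.X ^ 2 + Polynomial.C 0 * Polynomial.X +
            Polynomial.C (-X.det⁻¹))
          (Polynomial.degree_X_pow 2) (Polynomial.degree_quadratic (neg_ne_zero.2 hd0))
          (FiniteField.odd_card_of_char_ne_two (fun h => h2 (by
            have := (ringChar.spec F 2).2 (by rw [h])
            exact_mod_cast this)))
        refine ⟨a, b, ?_⟩
        simp at hab
        have : a * a - d * (b * b) = X.det⁻¹ := by linear_combination hab
        rw [this, inv_mul_cancel₀ hXd]
      set s : SL(2, F) := ⟨H a b * X, by rw [Matrix.det_mul, hHdet, hab]⟩ with hs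
      refine ⟨π s, ?_, ?_⟩
      · refine (gAut_pi g (s := s) (s' := -s) ?_).trans (Forms.KleinPSL.pi_neg s)
        rw [Matrix.SpecialLinearGroup.coe_neg, hs]
        change (g : M2) * (H a b * X) = -(H a b * X) * (g : M2)
        rw [← mul_assoc, hHg, mul_assoc, hX]
        simp [mul_assoc]
      · intro hm
        obtain ⟨a', ha', he⟩ := Finset.mem_image.1 hm
        simp only [φ, dif_pos ha'] at he
        have hcomm : (g : M2) * (s : M2) = (s : M2) * (g : M2) := by
          rcases Forms.KleinPSL.pi_eq_iff.1 he with e | e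
          · rw [← congrArg Subtype.val e]; exact hHg _ _
          · have e' : (s : M2) = -H (P a') (Q a') := by
              rw [eq_neg_iff_add_eq_zero, add_comm, ← eq_neg_iff_add_eq_zero]
              exact congrArg Subtype.val e
            rw [e', mul_neg, neg_mul, hHg]
        have hneg : (g : M2) * (s : M2) = -((s : M2) * (g : M2)) := by
          rw [hs]
          change (g : M2) * (H a b * X) = -(H a b * X * (g : M2))
          rw [← mul_assoc, hHg, mul_assoc, hX]
          simp [mul_assoc]
        have h4 : (2 : F) • ((s : M2) * (g : M2)) = 0 := by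
          rw [two_smul]; nth_rewrite 1 [← hcomm]; rw [hneg, neg_add_cancel]
        have h5 := congrArg Matrix.det ((smul_eq_zero.1 h4).resolve_left h2)
        rw [Matrix.det_mul, s.2, one_mul, Matrix.det_zero, Matrix.det_fin_two, ← hα, ← hβ, ← hγ,
          ← hδ, htr] at h5
        exact hdet h5
  · -- a field automorphism
    right
    have hσ2 : σ * σ = 1 := by
      have h := hθ
      rw [hgs, mul_assoc, ← mul_assoc (fAut σ), Main.fAut_mul_gAut, mul_assoc, ← map_mul (fAut (n := 2)),
        ← mul_assoc, ← map_mul (gAut (n := 2))] at h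
      exact (Out.mul_field_eq_one le_rfl h).1
    have ho : orderOf σ = 2 := orderOf_eq_prime (by rw [pow_two]; exact hσ2) hσ
    obtain ⟨B, hB⟩ := Conj.exists_decomp_field σ ho le_rfl g (by rw [← hgs, pow_two]; exact hθ)
    rw [← hgs] at hB
    have hfix : ∀ {s : SL(2, F)}, (s : M2).map σ = (s : M2) →
        θ ((gAut B : MulAut PG) (π s)) = (gAut B : MulAut PG) (π s) := fun {s} hs => by
      rw [hB, MulAut.mul_apply, MulAut.mul_apply, MulAut.inv_apply, MulEquiv.symm_apply_apply,
        fAut_pi σ hs]
    set S := Finset.univ.filter fun c : F => σ c = c with hS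
    have hσσ : ∀ c, σ (σ c) = c := fun c => RingEquiv.congr_fun hσ2 c
    obtain ⟨η, hη0, hη⟩ : ∃ η : F, η ≠ 0 ∧ σ η = -η := by
      obtain ⟨c, hc⟩ : ∃ c, σ c ≠ c := by
        by_contra hcon
        push Not at hcon
        exact hσ (RingEquiv.ext hcon)
      exact ⟨σ c - c, sub_ne_zero.2 hc, by rw [map_sub, hσσ]; ring⟩
    refine ⟨S, fun c => (gAut B : MulAut PG) (π (upper c)), fun c => (gAut B : MulAut PG) (π (lower c)),
      ?_, ?_, by simp [hS], fun c d h => upper_injective h2 ((gAut B : MulAut PG).injective h),
      fun c hc => ?_, fun c d => by simp only [← map_mul, upper_mul, add_comm], ?_⟩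
    · rw [← Finset.card_product, ← Finset.card_univ]
      refine Finset.card_bij (fun p _ => p.1 + η * p.2) (fun _ _ => Finset.mem_univ _) ?_ ?_
      · rintro ⟨a, b⟩ hp ⟨a', b'⟩ hp' h
        obtain ⟨ha, hb⟩ := Finset.mem_product.1 hp
        obtain ⟨ha', hb'⟩ := Finset.mem_product.1 hp'
        simp only [hS, Finset.mem_filter, Finset.mem_univ, true_and] at ha hb ha' hb'
        simp only at h
        have h' := congrArg σ h
        rw [map_add, map_add, map_mul, map_mul, hη, ha, hb, ha', hb'] at h'
        have e1 : (2 : F) * (a - a') = 0 := by linear_combination h + h'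
        have e1' := sub_eq_zero.1 ((mul_eq_zero.1 e1).resolve_left h2)
        subst e1'
        have e2 : η * (b - b') = 0 := by linear_combination h
        rw [sub_eq_zero.1 ((mul_eq_zero.1 e2).resolve_left hη0)]
      · intro c _
        refine ⟨((c + σ c) / 2, (c - σ c) / (2 * η)), Finset.mem_product.2 ⟨?_, ?_⟩, ?_⟩
        · simp only [hS, Finset.mem_filter, Finset.mem_univ, true_and]
          rw [map_div₀, map_add, hσσ, map_ofNat, add_comm]
        · simp only [hS, Finset.mem_filter, Finset.mem_univ, true_and]
          rw [map_div₀, map_sub, hσσ, map_mul, map_ofNat, hη]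
          field_simp
          ring
        · field_simp
          ring
    · refine le_trans ?_ (Finset.card_le_card (s := ({0, 1, -1} : Finset F)) fun c hc => ?_)
      · rw [Finset.card_eq_three.2 ⟨0, 1, -1, zero_ne_one, ?_, ?_, rfl⟩]
        · exact fun h => one_ne_zero (neg_eq_zero.1 h.symm)
        · exact fun h => h2 (by linear_combination h)
      · simp only [Finset.mem_insert, Finset.mem_singleton] at hc
        rcases hc with rfl | rfl | rfl <;> simp [hS]
    · have hc' : σ c = c := (Finset.mem_filter.1 hc).2
      have hu : (upper c : M2).map σ = upper c := by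
        ext i j; fin_cases i <;> fin_cases j <;> simp [upper, hc']
      have hl : (lower c : M2).map σ = lower c := by
        ext i j; fin_cases i <;> fin_cases j <;> simp [lower, hc']
      have hq : ((Fintype.card F : ℕ) : F) = 0 := Nat.cast_card_eq_zero F
      refine ⟨hfix hu, hfix hl, ?_, ?_⟩
      · rw [← map_pow, ← map_pow, upper_pow, hq, zero_mul, upper_zero, map_one, map_one]
      · rw [← map_pow, ← map_pow, lower_pow, hq, zero_mul, lower_zero, map_one, map_one]
    · intro h
      simp only [← map_mul (gAut B : MulAut PG)] at h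
      exact upper_lower_ne h2 one_ne_zero one_ne_zero ((gAut B : MulAut PG).injective h)

/-- An involutory automorphism of `PSL₂(q)`, `q > 3` odd, fixes at least three elements. -/
theorem three_le_fixed (h2 : (2 : F) ≠ 0) (hq : 3 < Fintype.card F) {θ : MulAut PG} (hθ : θ * θ = 1)
    (hθ1 : θ ≠ 1) : 3 ≤ Nat.card {x : PG // θ x = x} := by
  classical
  haveI : Fintype PG := Fintype.ofFinite _
  rw [Nat.card_eq_fintype_card, Fintype.card_subtype]
  rcases fixed_cases h2 hθ hθ1 with ⟨A, hA, -, hc, y, hy, hyA⟩ | ⟨S, U, L, -, hS, -, hU, hf, -, -⟩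
  · refine le_trans ?_ (Finset.card_le_card (s := insert y A) fun x hx => Finset.mem_filter.2
      ⟨Finset.mem_univ _, ?_⟩)
    · rw [Finset.card_insert_of_notMem hyA]; omega
    · rcases Finset.mem_insert.1 hx with rfl | h
      · exact hy
      · exact hA x h
  · refine le_trans hS (le_trans (le_of_eq (Finset.card_image_of_injective S hU).symm)
      (Finset.card_le_card fun x hx => ?_))
    obtain ⟨c, hc, rfl⟩ := Finset.mem_image.1 hx
    exact Finset.mem_filter.2 ⟨Finset.mem_univ _, (hf c hc).1⟩

end Cfsg.Agent.Perm.CubicInsoluble.InvAut
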