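import Cfsg.Agent.Lib.Perm.CubicInsoluble.CoreSetup
import Cfsg.Agent.Lib.SolvableSignalizer.Connected

/-!
# The cores of the involution centralizers meet a four group's centralizer trivially

For commuting involutions `z, w` with centralizer `⟨z, w⟩` and a maximal normalizer: no nontrivial
`r`-element inverted by `z` centralizes `w` and the `r`-part of the core of `C(z)`.
-/

set_option autoImplicit false
set_option linter.style.haveILetI false
set_option linter.unusedSectionVars false

namespace Cfsg.Agent.Perm.CubicInsoluble.Local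

open Subgroup CoreSetup
open Cfsg.Agent.GLTwoThree (GL23 T)

universe u

variable {G : Type u} [Group G] [Finite G]

/-- The three involutions. -/
def Vs (z w x : G) : Prop := x = z ∨ x = w ∨ x = z * w

/-- The elements permuting the three involutions. -/
def InStab (z w g : G) : Prop := Vs z w (g * z * g⁻¹) ∧ Vs z w (g * w * g⁻¹)

/-- An element of prime power order. -/
def Rel (r : ℕ) (g : G) : Prop := ∃ k : ℕ, g ^ (r ^ k) = 1

theorem Rel.conj {r : ℕ} {g : G} (h : Rel r g) (c : G) : Rel r (c * g * c⁻¹) := by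
  obtain ⟨k, hk⟩ := h
  exact ⟨k, by rw [conj_pow, hk, mul_one, mul_inv_cancel]⟩

/-- The odd core of the centralizer. -/
abbrev O (x : G) : Subgroup G := Cfsg.centralizerPPrimeCore 2 x

theorem O_conj {x c g : G} (h : g ∈ O x) : c * g * c⁻¹ ∈ O (c * x * c⁻¹) := by
  rw [O, SolvableSignalizer.centralizerPPrimeCore_conj]
  exact ⟨g, h, rfl⟩

theorem O_map (φ : MulAut G) {x g : G} (h : g ∈ O x) : φ g ∈ O (φ x) := by
  have hC : (centralizer ({x} : Set G)).map φ.toMonoidHom = centralizer ({φ x} : Set G) := by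
    ext a
    rw [mem_map_equiv, mem_centralizer_singleton_iff, mem_centralizer_singleton_iff]
    constructor
    · intro e
      have := congrArg φ e
      rwa [map_mul, map_mul, MulEquiv.apply_symm_apply] at this
    · intro e
      apply φ.injective
      rw [map_mul, map_mul, MulEquiv.apply_symm_apply, e]
  have key : ∀ K : Subgroup G, (centralizer ({x} : Set G)).map φ.toMonoidHom = K →
      g ∈ (Cfsg.pPrimeCore 2 (centralizer ({x} : Set G))).map (centralizer ({x} : Set G)).subtype →
      φ g ∈ (Cfsg.pPrimeCore 2 K).map K.subtype := by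
    rintro K rfl ⟨a, ha, rfl⟩
    refine ⟨(centralizer ({x} : Set G)).equivMapOfInjective φ.toMonoidHom φ.injective a, ?_, rfl⟩
    rw [← PLocal.Cores.map_pPrimeCore_equiv (p := 2)
      ((centralizer ({x} : Set G)).equivMapOfInjective φ.toMonoidHom φ.injective)]
    exact mem_map_of_mem _ ha
  exact key _ hC h

theorem O_cent {x g : G} (h : g ∈ O x) : g * x = x * g := by
  obtain ⟨a, -, rfl⟩ := h
  exact mem_centralizer_singleton_iff.1 a.2

/-- An involution normalizing a finite subgroup of odd order without fixed points inverts it. -/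
theorem inverts_of_fpf {a : G} (ha : a * a = 1) {K : Subgroup G} (hK : ∀ k ∈ K, a * k * a⁻¹ ∈ K)
    (hfix : ∀ k ∈ K, a * k = k * a → k = 1) : ∀ k ∈ K, a * k * a⁻¹ = k⁻¹ := by
  let f : K → K := fun k => ⟨(k : G)⁻¹ * (a * k * a⁻¹), mul_mem (inv_mem k.2) (hK _ k.2)⟩
  have hfi : Function.Injective f := by
    intro x y h
    have h' : (x : G)⁻¹ * (a * x * a⁻¹) = (y : G)⁻¹ * (a * y * a⁻¹) := congrArg Subtype.val h
    have hfixed : a * ((x : G) * (y : G)⁻¹) * a⁻¹ = (x : G) * (y : G)⁻¹ := by
      rw [show a * ((x : G) * (y : G)⁻¹) * a⁻¹ = (a * x * a⁻¹) * (a * y * a⁻¹)⁻¹ by group,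
        inv_mul_eq_iff_eq_mul.1 h']
      group
    exact Subtype.ext (mul_inv_eq_one.1 (hfix _ (mul_mem x.2 (inv_mem y.2))
      (mul_inv_eq_iff_eq_mul.1 hfixed)))
  intro k hk
  obtain ⟨x, hx⟩ := Finite.surjective_of_injective hfi ⟨k, hk⟩
  have hx' : (x : G)⁻¹ * (a * x * a⁻¹) = k := congrArg Subtype.val hx
  have hai : a⁻¹ = a := inv_eq_of_mul_eq_one_right ha
  rw [← hx', hai]
  calc a * ((x : G)⁻¹ * (a * x * a)) * a = a * (x : G)⁻¹ * a * x * (a * a) := by group
    _ = ((x : G)⁻¹ * (a * x * a))⁻¹ := by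
      rw [ha, mul_one, mul_inv_rev, mul_inv_rev, mul_inv_rev, inv_inv, hai]; group

/-- A subgroup inverted by an element is abelian. -/
theorem comm_of_inverted {a : G} {K : Subgroup G} (h : ∀ k ∈ K, a * k * a⁻¹ = k⁻¹) {x y : G}
    (hx : x ∈ K) (hy : y ∈ K) : x * y = y * x := by
  have h1 := h _ (mul_mem hx hy)
  rw [show a * (x * y) * a⁻¹ = (a * x * a⁻¹) * (a * y * a⁻¹) by group, h x hx, h y hy, ← mul_inv_rev,
    inv_inj] at h1
  exact h1.symm

theorem eq_one_of_sq_of_odd {g : G} {n : ℕ} (hn : Odd n) (h : g ^ n = 1) (h2 : g * g = 1) : g = 1 := by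
  obtain ⟨k, rfl⟩ := hn
  rwa [pow_succ, pow_mul, pow_two, h2, one_pow, one_mul] at h

set_option synthInstance.maxSize 4000 in
theorem gl_cent {k g : GL23} (hk : k ^ 3 = 1) (hk1 : k ≠ 1) (hg : g * k = k * g) (h16 : g ^ 16 = 1) :
    g = 1 ∨ g = T := by
  rw [ne_eq, GLTwoThree.ext_val] at hk1
  simp only [GLTwoThree.ext_val, Units.val_pow_eq_pow_val, Units.val_mul, Units.val_one] at hk hk1 hg h16 ⊢
  refine GLTwoThree.mat_cases (P := fun m => m ^ 3 = 1 → ¬ m = 1 → g.val * m = m * g.val →
    g.val ^ 16 = 1 → g.val = 1 ∨ g.val = T.val) (fun a b c d hd h3 h1 => ?_) k hk hk1 hg h16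
  refine GLTwoThree.mat_cases (P := fun n => n * GLTwoThree.mat a b c d = GLTwoThree.mat a b c d * n →
    n ^ 16 = 1 → n = 1 ∨ n = T.val) ?_ g
  revert a b c d hd h3 h1
  decide +kernel

set_option synthInstance.maxSize 4000 in
theorem gl_lines {k l : GL23} (hk : k ^ 3 = 1) (hl : l ^ 3 = 1) (h : k * l ≠ l * k) :
    (k * l) * (k * l) = T ∨ (k * (l * l)) * (k * (l * l)) = T := by
  rw [ne_eq, GLTwoThree.ext_val] at h
  simp only [GLTwoThree.ext_val, Units.val_pow_eq_pow_val, Units.val_mul, Units.val_one] at hk hl h ⊢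
  refine GLTwoThree.mat_cases (P := fun m => m ^ 3 = 1 → l.val ^ 3 = 1 → ¬ m * l.val = l.val * m →
    (m * l.val) * (m * l.val) = T.val ∨ (m * (l.val * l.val)) * (m * (l.val * l.val)) = T.val)
    (fun a b c d hd h3 => ?_) k hk hl h
  refine GLTwoThree.mat_cases (P := fun n => n ^ 3 = 1 →
    ¬ GLTwoThree.mat a b c d * n = n * GLTwoThree.mat a b c d →
    (GLTwoThree.mat a b c d * n) * (GLTwoThree.mat a b c d * n) = T.val ∨
      (GLTwoThree.mat a b c d * (n * n)) * (GLTwoThree.mat a b c d * (n * n)) = T.val) ?_ l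
  revert a b c d hd h3
  decide +kernel

set_option synthInstance.maxSize 4000 in
theorem gl_comm {k l : GL23} (hk : k ^ 3 = 1) (hk1 : k ≠ 1) (hl : l ^ 3 = 1) (hl1 : l ≠ 1)
    (h : k * l = l * k) : l = k ∨ l = k * k := by
  rw [ne_eq, GLTwoThree.ext_val] at hk1 hl1
  simp only [GLTwoThree.ext_val, Units.val_pow_eq_pow_val, Units.val_mul, Units.val_one] at hk hk1 hl hl1 h ⊢
  refine GLTwoThree.mat_cases (P := fun m => m ^ 3 = 1 → ¬ m = 1 → l.val ^ 3 = 1 → ¬ l.val = 1 →
    m * l.val = l.val * m → l.val = m ∨ l.val = m * m) (fun a b c d hd h3 h1 => ?_) k hk hk1 hl hl1 h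
  refine GLTwoThree.mat_cases (P := fun n => n ^ 3 = 1 → ¬ n = 1 →
    GLTwoThree.mat a b c d * n = n * GLTwoThree.mat a b c d →
    n = GLTwoThree.mat a b c d ∨ n = GLTwoThree.mat a b c d * GLTwoThree.mat a b c d) ?_ l
  revert a b c d hd h3 h1
  decide +kernel

set_option synthInstance.maxSize 4000 in
theorem gl_borel {x a k : GL23} (hk : k ^ 3 = 1) (hk1 : k ≠ 1) (ha : a * a = 1)
    (hak : a * k * a * k = 1) (hxk : x * k = k * x ∨ x * k = k * k * x) (hx : x * a = T * a * x) :
    False := by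
  rw [ne_eq, GLTwoThree.ext_val] at hk1
  simp only [GLTwoThree.ext_val, Units.val_pow_eq_pow_val, Units.val_mul, Units.val_one] at ha hk hk1 hak hx hxk
  refine GLTwoThree.mat_cases (P := fun m => m ^ 3 = 1 → ¬ m = 1 → a.val * a.val = 1 →
    a.val * m * a.val * m = 1 → (x.val * m = m * x.val ∨ x.val * m = m * m * x.val) →
    x.val * a.val = T.val * a.val * x.val → False) (fun p q s o hd h3 h1 => ?_) k hk hk1 ha hak hxk hx
  refine GLTwoThree.mat_cases (P := fun e => e * e = 1 →
    e * GLTwoThree.mat p q s o * e * GLTwoThree.mat p q s o = 1 →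
    (x.val * GLTwoThree.mat p q s o = GLTwoThree.mat p q s o * x.val ∨
      x.val * GLTwoThree.mat p q s o = GLTwoThree.mat p q s o * GLTwoThree.mat p q s o * x.val) →
    x.val * e = T.val * e * x.val → False) (fun p' q' s' o' hd' h2 h4 => ?_) a
  refine GLTwoThree.mat_cases (P := fun n =>
    (n * GLTwoThree.mat p q s o = GLTwoThree.mat p q s o * n ∨
      n * GLTwoThree.mat p q s o = GLTwoThree.mat p q s o * GLTwoThree.mat p q s o * n) →
    n * GLTwoThree.mat p' q' s' o' = T.val * GLTwoThree.mat p' q' s' o' * n → False) ?_ x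
  revert p' q' s' o' hd' h2 h4
  revert p q s o hd h3 h1
  decide +kernel

theorem gl_swap {x a k : GL23} (ha : a * a = 1) (hk : k ^ 3 = 1) (hk1 : k ≠ 1)
    (hak : a * k * a * k = 1) (hx : x * a = T * a * x) : k * (x * k * x⁻¹) ≠ (x * k * x⁻¹) * k := by
  intro hc
  refine gl_borel hk hk1 ha hak ?_ hx
  rcases gl_comm hk hk1 (l := x * k * x⁻¹) (by rw [conj_pow, hk, mul_one, mul_inv_cancel])
    (fun h => hk1 (conj_eq_one_iff.1 h)) hc with h | h
  · exact Or.inl (mul_inv_eq_iff_eq_mul.1 h)
  · exact Or.inr (mul_inv_eq_iff_eq_mul.1 h)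

/-- An element of odd order has image of order dividing three. -/
theorem gl_odd {k : GL23} {n : ℕ} (hn : Odd n) (h : k ^ n = 1) : k ^ 3 = 1 := by
  have h1 : orderOf k ∣ 2 ^ 4 * 3 := by
    have := orderOf_dvd_natCard k
    rwa [GLTwoThree.card_GL23] at this
  have h2 : Nat.Coprime (orderOf k) (2 ^ 4) :=
    ((Nat.coprime_two_right.2 (Odd.of_dvd_nat hn (orderOf_dvd_of_pow_eq_one h)))).pow_right 4
  exact orderOf_dvd_iff_pow_eq_one.1 (h2.dvd_of_dvd_mul_left h1)

/-- Commuting involutions with the four group they generate as centralizer, whose normalizer is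
transitive on ordered pairs and is maximal among normalizers of subgroups of odd order. -/
structure Setting (z w : G) : Prop where
  four : Four z w
  perm : ∀ x y, Vs z w x → Vs z w y → x ≠ y → ∃ g, g * z * g⁻¹ = x ∧ g * w * g⁻¹ = y
  max : ∀ P : Subgroup G, Odd (Nat.card P) → (∀ g, InStab z w g → g ∈ normalizer (P : Set G)) →
    (∀ φ : MulAut G, (∀ x, Vs z w x → Vs z w (φ x)) → ∀ p ∈ P, φ p ∈ P) →
    ∀ g ∈ normalizer (P : Set G), InStab z w g ∨ P = ⊥

variable {z w : G} (V : Setting z w)
include V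

theorem Setting.zz : z * z = 1 := sq_of_order_two V.four.hz

theorem Setting.ww : w * w = 1 := sq_of_order_two V.four.hw

theorem Setting.vs_ne_one {x : G} (h : Vs z w x) : x ≠ 1 := by
  rcases h with rfl | rfl | rfl <;> intro e
  · have := V.four.hz; rw [e, orderOf_one] at this; norm_num at this
  · have := V.four.hw; rw [e, orderOf_one] at this; norm_num at this
  · refine V.four.hne ?_
    rw [mul_eq_one_iff_eq_inv.1 e, inv_eq_of_mul_eq_one_right V.ww]

theorem Setting.mul_ne : z * w ≠ z ∧ z * w ≠ w := by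
  constructor <;> intro e
  · exact V.vs_ne_one (Or.inr (Or.inl rfl)) (mul_eq_left.1 e)
  · exact V.vs_ne_one (Or.inl rfl) (mul_eq_right.1 e)

theorem Setting.vs_mul {x y : G} (hx : Vs z w x) (hy : Vs z w y) (h : x ≠ y) : Vs z w (x * y) := by
  have hc := V.four.comm.eq
  have h1 : z * (z * w) = w := by rw [← mul_assoc, V.zz, one_mul]
  have h2 : w * (z * w) = z := by rw [hc, ← mul_assoc, V.ww, one_mul]
  have h3 : z * w * z = w := by rw [mul_assoc, ← hc, h1]
  have h4 : z * w * w = z := by rw [mul_assoc, V.ww, mul_one]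
  rcases hx with rfl | rfl | rfl <;> rcases hy with rfl | rfl | rfl <;>
    first
      | exact absurd rfl h
      | exact Or.inr (Or.inr rfl)
      | exact Or.inr (Or.inr hc.symm)
      | exact Or.inr (Or.inl h1)
      | exact Or.inl h2
      | exact Or.inr (Or.inl h3)
      | exact Or.inl h4

theorem Setting.vs_conj {g x : G} (hg : InStab z w g) (hx : Vs z w x) : Vs z w (g * x * g⁻¹) := by
  rcases hx with rfl | rfl | rfl
  · exact hg.1
  · exact hg.2
  · rw [← conj_mul]
    exact V.vs_mul hg.1 hg.2 fun e => V.four.hne (mul_left_cancel (mul_right_cancel e))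

theorem Setting.third {x y a : G} (hx : Vs z w x) (hy : Vs z w y) (hne : x ≠ y) (ha : Vs z w a) :
    Vs x y a := by
  have hc := V.four.comm.eq
  have h1 : z * (z * w) = w := by rw [← mul_assoc, V.zz, one_mul]
  have h2 : w * (z * w) = z := by rw [hc, ← mul_assoc, V.ww, one_mul]
  have h3 : z * w * z = w := by rw [mul_assoc, ← hc, h1]
  have h4 : z * w * w = z := by rw [mul_assoc, V.ww, mul_one]
  rcases hx with rfl | rfl | rfl <;> rcases hy with rfl | rfl | rfl <;>
    first
      | exact absurd rfl hne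
      | (rcases ha with rfl | rfl | rfl <;>
          first
            | exact Or.inl rfl
            | exact Or.inr (Or.inl rfl)
            | exact Or.inr (Or.inr rfl)
            | exact Or.inr (Or.inr hc)
            | exact Or.inr (Or.inr h1.symm)
            | exact Or.inr (Or.inr h2.symm)
            | exact Or.inr (Or.inr h3.symm)
            | exact Or.inr (Or.inr h4.symm))

/-- The hypotheses for another ordered pair. -/
theorem Setting.pair {x y : G} (hx : Vs z w x) (hy : Vs z w y) (hne : x ≠ y) : Setting x y := by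
  obtain ⟨g, rfl, rfl⟩ := V.perm x y hx hy hne
  have hVs : ∀ {a}, Vs (g * z * g⁻¹) (g * w * g⁻¹) a → Vs z w a := by
    rintro a (rfl | rfl | rfl)
    · exact hx
    · exact hy
    · exact V.vs_mul hx hy hne
  refine ⟨⟨?_, ?_, hne, ?_, ?_⟩, fun a b ha hb hab => ?_, fun P hodd hinv hφ c hc => ?_⟩
  · exact (orderOf_injective (MulAut.conj g).toMonoidHom (MulAut.conj g).injective z).trans V.four.hz
  · exact (orderOf_injective (MulAut.conj g).toMonoidHom (MulAut.conj g).injective w).trans V.four.hw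
  · exact V.four.comm.map (MulAut.conj g).toMonoidHom
  · intro c h1 h2
    have key : ∀ v, Commute c (g * v * g⁻¹) → Commute (g⁻¹ * c * g) v := fun v hv => by
      have := hv.map (MulAut.conj g⁻¹).toMonoidHom
      simpa [mul_assoc] using this
    have e : c = g * (g⁻¹ * c * g) * g⁻¹ := by group
    rcases V.four.cent _ (key z h1) (key w h2) with h | h | h | h <;> rw [h] at e
    · exact Or.inl (by rw [e]; group)
    · exact Or.inr (Or.inl e)
    · exact Or.inr (Or.inr (Or.inl e))
    · exact Or.inr (Or.inr (Or.inr (by rw [e, ← conj_mul])))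
  · obtain ⟨k, hk1, hk2⟩ := V.perm a b (hVs ha) (hVs hb) hab
    refine ⟨k * g⁻¹, ?_, ?_⟩
    · rw [← hk1]; group
    · rw [← hk2]; group
  · have hstab : ∀ {b}, InStab (g * z * g⁻¹) (g * w * g⁻¹) b ↔ InStab z w b := by
      intro b
      constructor
      · intro hb
        have hb' : ∀ a, Vs (g * z * g⁻¹) (g * w * g⁻¹) a →
            Vs (g * z * g⁻¹) (g * w * g⁻¹) (b * a * b⁻¹) := by
          rintro a (rfl | rfl | rfl)
          · exact hb.1
          · exact hb.2
          · rw [← conj_mul]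
            have h1 := hVs hb.1
            have h2 := hVs hb.2
            exact V.third hx hy hne (V.vs_mul h1 h2 fun e =>
              hne (mul_left_cancel (mul_right_cancel e)))
        exact ⟨hVs (hb' z (V.third hx hy hne (Or.inl rfl))),
          hVs (hb' w (V.third hx hy hne (Or.inr (Or.inl rfl))))⟩
      · exact fun hb => ⟨V.third hx hy hne (V.vs_conj hb hx), V.third hx hy hne (V.vs_conj hb hy)⟩
    exact (V.max P hodd (fun b hb => hinv b (hstab.2 hb))
      (fun φ h => hφ φ fun a ha => V.third hx hy hne (h a (hVs ha))) c hc).imp_left hstab.2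

omit V

/-- A centralizer with an epimorphism onto `GL(2, 3)`. -/
structure Cov (z w : G) (π : centralizer ({z} : Set G) →* GL23) : Prop where
  cov : GLTwoThree.Core.Covered z π
  ker : π.ker = Cfsg.oddCore (centralizer ({z} : Set G))
  det : ∀ h : w ∈ centralizer ({z} : Set G), (π ⟨w, h⟩).val.det ≠ 1

variable [IsSimpleGroup G] (S₀ : Sylow 2 G) (hS₀ : Cfsg.IsQuasiDihedral (S₀ : Subgroup G))
include V hS₀

theorem Setting.exists_cov : ∃ π, Cov z w π := by
  obtain ⟨π, h1, h2, h3⟩ := exists_covered S₀ hS₀ V.four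
  exact ⟨π, h1, h2, fun _ => h3⟩

omit V hS₀

theorem Cov.mem_O {π : centralizer ({z} : Set G) →* GL23} (E : Cov z w π) {g : G} :
    g ∈ O z ↔ ∃ h : g ∈ centralizer ({z} : Set G), π ⟨g, h⟩ = 1 := by
  constructor
  · rintro ⟨a, ha, rfl⟩
    exact ⟨a.2, MonoidHom.mem_ker.1 (E.ker ▸ ha)⟩
  · rintro ⟨h, h'⟩
    exact ⟨⟨g, h⟩, E.ker.le (MonoidHom.mem_ker.2 h'), rfl⟩

include V hS₀

theorem Setting.wC : w ∈ centralizer ({z} : Set G) :=
  mem_centralizer_singleton_iff.2 V.four.comm.symm.eq

theorem Setting.O_inv {g : G} (h : g ∈ O z) : w * g * w⁻¹ = g⁻¹ := by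
  obtain ⟨π, E⟩ := V.exists_cov S₀ hS₀
  obtain ⟨hg, hg1⟩ := E.mem_O.1 h
  have := congrArg Subtype.val (E.cov.inv ⟨w, V.wC S₀ hS₀⟩ ⟨g, hg⟩ (MonoidHom.mem_ker.2 hg1) (E.det _))
  exact mul_inv_eq_iff_eq_mul.2 this

theorem Setting.O_comm {a b : G} (ha : a ∈ O z) (hb : b ∈ O z) : a * b = b * a :=
  comm_of_inverted (fun _ h => V.O_inv S₀ hS₀ h) ha hb

theorem Setting.O_odd {g : G} (h : g ∈ O z) : Odd (orderOf g) := by
  obtain ⟨π, E⟩ := V.exists_cov S₀ hS₀
  obtain ⟨hg, hg1⟩ := E.mem_O.1 h
  rw [← Subgroup.orderOf_mk g hg]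
  exact E.cov.ker_order_odd (MonoidHom.mem_ker.2 hg1)

/-- An element fixing `z` and moving `w` to `z * w` that centralizes the core. -/
theorem Setting.exists_rot : ∃ j : G, j * z * j⁻¹ = z ∧ j * w * j⁻¹ = z * w ∧
    ∀ o ∈ O z, j * o = o * j := by
  obtain ⟨g, hg1, hg2⟩ := V.perm z (z * w) (Or.inl rfl) (Or.inr (Or.inr rfl)) V.mul_ne.1.symm
  obtain ⟨π, E⟩ := V.exists_cov S₀ hS₀
  have hgC : g ∈ centralizer ({z} : Set G) :=
    mem_centralizer_singleton_iff.2 (mul_inv_eq_iff_eq_mul.1 hg1)
  have key : ∀ c : centralizer ({z} : Set G), (π c).val.det = 1 → ∀ o ∈ O z, (c : G) * o = o * c := by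
    intro c hc o ho
    obtain ⟨h, h'⟩ := E.mem_O.1 ho
    exact congrArg Subtype.val (E.cov.comm c ⟨o, h⟩ (MonoidHom.mem_ker.2 h') hc)
  rcases det_cases (π ⟨g, hgC⟩) with hd | hd
  · exact ⟨g, hg1, hg2, key ⟨g, hgC⟩ hd⟩
  · refine ⟨g * w, ?_, ?_, key (⟨g, hgC⟩ * ⟨w, V.wC S₀ hS₀⟩) ?_⟩
    · rw [show g * w * z * (g * w)⁻¹ = g * (w * z * w⁻¹) * g⁻¹ by group, V.four.comm.symm.eq,
        mul_inv_cancel_right, hg1]
    · rw [show g * w * w * (g * w)⁻¹ = g * w * g⁻¹ by group, hg2]
    · rw [map_mul, Units.val_mul, Matrix.det_mul, hd]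
      rcases det_cases (π ⟨w, V.wC S₀ hS₀⟩) with h | h
      · exact absurd h (E.det _)
      · rw [h]; exact mat_dets.2.2.2.2

/-- Nothing in a core centralizes an invariant subgroup of odd order. -/
theorem Setting.not_cent {P : Subgroup G} (hodd : Odd (Nat.card P)) (hP : P ≠ ⊥)
    (hinv : ∀ g, InStab z w g → g ∈ normalizer (P : Set G))
    (hφ : ∀ φ : MulAut G, (∀ x, Vs z w x → Vs z w (φ x)) → ∀ p ∈ P, φ p ∈ P) {g : G} (hg : g ∈ O z)
    (hc : ∀ p ∈ P, g * p = p * g) : g = 1 := by
  have hn : g ∈ normalizer (P : Set G) := by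
    refine mem_normalizer_iff.2 fun p => ⟨fun hp => ?_, fun hp => ?_⟩
    · rwa [hc p hp, mul_inv_cancel_right]
    · have := hc _ hp
      rw [inv_mul_cancel_right] at this
      rwa [mul_left_cancel this] at hp
  have hst := ((V.max P hodd hinv hφ g hn).resolve_right hP).2
  have e1 : g * w * g⁻¹ = g * g * w := by
    rw [mul_assoc, mul_assoc g g]
    congr 1
    have h1 := congrArg (fun x => x⁻¹) (V.O_inv S₀ hS₀ hg)
    simp only [inv_inv, mul_inv_rev] at h1
    conv_rhs => rw [← h1]
    group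
  have hw2 := V.ww
  have hzz := V.zz
  have hwi : w⁻¹ = w := inv_eq_of_mul_eq_one_right hw2
  rw [e1] at hst
  have h4 : g * g * (g * g) = 1 := by
    have e2 : g * g * w * w = g * g := by rw [mul_assoc, hw2, mul_one]
    rcases hst with h | h | h <;> rw [h] at e2 <;> rw [← e2]
    · rw [(V.four.comm.symm).mul_mul_mul_comm, hzz, hw2, mul_one]
    · rw [hw2, mul_one]
    · rw [mul_assoc z w w, hw2, mul_one, hzz]
  have ho := V.O_odd S₀ hS₀ hg
  have h2 : g * g = 1 := eq_one_of_sq_of_odd ho
    (by rw [(Commute.refl g).mul_pow, pow_orderOf_eq_one, mul_one]) h4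
  exact eq_one_of_sq_of_odd ho (pow_orderOf_eq_one g) h2

variable {r : ℕ} [Fact r.Prime] (hr2 : r ≠ 2)
include hr2

/-- An element of the core of `C(w)` centralizing the `r`-part of the core of `C(z)`. -/
theorem Setting.A_trivial {a : G} (ha : a ∈ O w) (har : Rel r a)
    (hc : ∀ o ∈ O z, Rel r o → a * o = o * a) : a = 1 := by
  have hV' := V.pair (Or.inr (Or.inl rfl)) (Or.inl rfl) V.four.hne.symm
  obtain ⟨j, hj1, hj2, hj3⟩ := hV'.exists_rot S₀ hS₀
  have hc3 : ∀ o ∈ O (z * w), Rel r o → a * o = o * a := by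
    intro o ho hor
    have h1 : j⁻¹ * o * j ∈ O z := by
      have hz' : z = j⁻¹ * (z * w) * j := by rw [V.four.comm.eq, ← hj2]; group
      have := O_conj (c := j⁻¹) ho
      rw [inv_inv, ← hz'] at this
      exact this
    have h2 := hc _ h1 (by have := hor.conj j⁻¹; rwa [inv_inv] at this)
    have hja : Commute j a := hj3 a ha
    have := (Commute.mul_right ((Commute.mul_right hja.symm (show Commute a (j⁻¹ * o * j) from h2)))
      (hja.symm.inv_right))
    rw [show j * (j⁻¹ * o * j) * j⁻¹ = o by group] at this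
    exact this.eq
  let Gen : G → Prop := fun g => ∃ x, Vs z w x ∧ g ∈ O x ∧ Rel r g ∧
    ∀ y, Vs z w y → ∀ o ∈ O y, Rel r o → Commute g o
  have haGen : Gen a := by
    refine ⟨w, Or.inr (Or.inl rfl), ha, har, ?_⟩
    rintro y (rfl | rfl | rfl) o ho hor
    · exact hc o ho hor
    · exact hV'.O_comm S₀ hS₀ ha ho
    · exact hc3 o ho hor
  set P := closure {g | Gen g} with hP
  have hPc : ∀ p ∈ P, ∀ y, Vs z w y → ∀ o ∈ O y, Rel r o → Commute p o := by
    intro p hp y hy o ho hor
    induction hp using closure_induction with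
    | mem g hg => exact hg.choose_spec.2.2.2 y hy o ho hor
    | one => exact Commute.one_left _
    | mul _ _ _ _ h1 h2 => exact h1.mul_left h2
    | inv _ _ h1 => exact h1.inv_left
  have hPab : ∀ p ∈ P, ∀ q ∈ P, Commute p q := by
    intro p hp q hq
    induction hq using closure_induction with
    | mem g hg =>
      obtain ⟨x, hx, hgx, hgr, -⟩ := hg
      exact hPc p hp x hx g hgx hgr
    | one => exact Commute.one_right _
    | mul _ _ _ _ h1 h2 => exact h1.mul_right h2
    | inv _ _ h1 => exact h1.inv_right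
  have hPr : IsPGroup r P := by
    intro p
    obtain ⟨p, hp⟩ := p
    suffices Rel r p by
      obtain ⟨k, hk⟩ := this
      exact ⟨k, Subtype.ext hk⟩
    induction hp using closure_induction with
    | mem g hg => exact hg.choose_spec.2.2.1
    | one => exact ⟨0, one_pow _⟩
    | mul x y hx hy h1 h2 =>
      obtain ⟨k, hk⟩ := h1
      obtain ⟨l, hl⟩ := h2
      refine ⟨k + l, ?_⟩
      rw [(hPab x hx y hy).mul_pow, pow_add, pow_mul, hk, one_pow, one_mul, mul_comm (r ^ k), pow_mul, hl,
        one_pow]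
    | inv _ _ h1 =>
      obtain ⟨k, hk⟩ := h1
      exact ⟨k, by rw [inv_pow, hk, inv_one]⟩
  have hPodd : Odd (Nat.card P) := by
    obtain ⟨n, hn⟩ := IsPGroup.iff_card.1 hPr
    rw [hn]
    exact ((Fact.out : r.Prime).odd_of_ne_two hr2).pow
  have hmap : ∀ φ : MulAut G, (∀ x, Vs z w x → Vs z w (φ x)) → ∀ p ∈ P, φ p ∈ P := by
    intro φ hφ p hp
    induction hp using closure_induction with
    | mem h hh =>
      obtain ⟨x, hx, hhx, hhr, hhc⟩ := hh
      refine subset_closure ⟨φ x, hφ x hx, O_map φ hhx, ?_, fun y hy o ho hor => ?_⟩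
      · obtain ⟨k, hk⟩ := hhr
        exact ⟨k, by rw [← map_pow, hk, map_one]⟩
      · obtain ⟨y', hy', rfl⟩ : ∃ y', Vs z w y' ∧ φ y' = y := by
          haveI : Finite {y // Vs z w y} := Subtype.finite
          obtain ⟨⟨y', hy'⟩, he⟩ := Finite.surjective_of_injective
            (f := fun v : {y // Vs z w y} => (⟨φ v.1, hφ v.1 v.2⟩ : {y // Vs z w y}))
            (fun u v e => Subtype.ext (φ.injective (congrArg Subtype.val e))) ⟨y, hy⟩
          exact ⟨y', hy', congrArg Subtype.val he⟩
        have h1 : φ⁻¹ o ∈ O y' := by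
          have := O_map φ⁻¹ ho
          rwa [MulAut.inv_apply_self] at this
        have hor' : Rel r (φ⁻¹ o) := by
          obtain ⟨k, hk⟩ := hor
          exact ⟨k, by rw [← map_pow, hk, map_one]⟩
        have h2 := (hhc y' hy' _ h1 hor').map (φ : G →* G)
        simpa using h2
    | one => simp
    | mul x y _ _ h1 h2 => rw [map_mul]; exact mul_mem h1 h2
    | inv x _ h1 => rw [map_inv]; exact inv_mem h1
  have hinv : ∀ g, InStab z w g → g ∈ normalizer (P : Set G) := fun g hg =>
    mem_normalizer_fintype fun p hp => hmap (MulAut.conj g) (fun x hx => V.vs_conj hg hx) p hp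
  by_contra hne
  have hPne : P ≠ ⊥ := fun h => hne (mem_bot.1 (h ▸ subset_closure haGen))
  obtain ⟨c, hc1, hc2⟩ := V.perm w z (Or.inr (Or.inl rfl)) (Or.inl rfl) V.four.hne.symm
  have h1 : c⁻¹ * a * c ∈ O z := by
    have := O_conj (c := c⁻¹) ha
    rw [inv_inv] at this
    rwa [show c⁻¹ * w * c = z by rw [← hc1]; group] at this
  have hrr : Rel r (c⁻¹ * a * c) := by have := har.conj c⁻¹; rwa [inv_inv] at this
  have h2 := V.not_cent S₀ hS₀ hPodd hPne hinv hmap h1
    fun p hp => (hPc p hp z (Or.inl rfl) _ h1 hrr).symm.eq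
  exact hne (by
    calc a = c * (c⁻¹ * a * c) * c⁻¹ := by group
      _ = 1 := by rw [h2, mul_one, mul_inv_cancel])

/-- An `r`-element of `C(w)` inverted by `z` centralizing the `r`-part of the core of `C(z)`. -/
theorem Setting.B_trivial (hall : r = 3 → ∀ g ∈ O z, Rel r g) (hne : ∃ o ∈ O z, Rel r o ∧ o ≠ 1)
    {u : G} (huw : u * w = w * u) (huz : z * u * z⁻¹ = u⁻¹) (hur : Rel r u)
    (hc : ∀ o ∈ O z, Rel r o → u * o = o * u) : u = 1 := by
  have hV' := V.pair (Or.inr (Or.inl rfl)) (Or.inl rfl) V.four.hne.symm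
  obtain ⟨πw, Ew⟩ := hV'.exists_cov S₀ hS₀
  obtain ⟨kr, hkr⟩ := hur
  have hodd : Odd (r ^ kr) := ((Fact.out : r.Prime).odd_of_ne_two hr2).pow
  set uC : centralizer ({w} : Set G) := ⟨u, mem_centralizer_singleton_iff.2 huw⟩ with huC
  have hu1 : πw uC ^ (r ^ kr) = 1 := by
    rw [← map_pow, show uC ^ (r ^ kr) = 1 from Subtype.ext (by simpa [huC] using hkr), map_one]
  by_cases hπu : πw uC = 1
  · exact V.A_trivial S₀ hS₀ hr2 (Ew.mem_O.2 ⟨uC.2, hπu⟩) ⟨kr, hkr⟩ hc
  exfalso
  -- now `r = 3` and the core is a `3`-group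
  have hu3 : πw uC ^ 3 = 1 := gl_odd hodd hu1
  have hr3 : r = 3 := by
    haveI := Fact.mk Nat.prime_three
    have h1 : orderOf (πw uC) = 3 := orderOf_eq_prime hu3 hπu
    have h2 := orderOf_dvd_of_pow_eq_one hu1
    rw [h1] at h2
    exact ((Nat.prime_dvd_prime_iff_eq Nat.prime_three Fact.out).1 (Nat.prime_three.dvd_of_dvd_pow h2)).symm
  have hallz := hall hr3
  have hcz : ∀ o ∈ O z, u * o = o * u := fun o ho => hc o ho (hallz o ho)
  have hud : (πw uC).val.det = 1 := by
    rcases det_cases (πw uC) with h | h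
    · exact h
    · have := congrArg (fun g : GL23 => g.val.det) hu3
      simp only [Units.val_pow_eq_pow_val, Matrix.det_pow, h, Units.val_one, Matrix.det_one] at this
      rw [pow_succ, pow_two, mat_dets.2.2.2.2, one_mul] at this
      exact absurd this mat_dets.2.2.2.1
  have hcw : ∀ o ∈ O w, u * o = o * u := fun o ho => by
    obtain ⟨h, h'⟩ := Ew.mem_O.1 ho
    exact congrArg Subtype.val (Ew.cov.comm uC ⟨o, h⟩ (MonoidHom.mem_ker.2 h') hud)
  have hzz := V.zz
  have hww := V.ww
  obtain ⟨τ, hτ1, hτ2⟩ := V.perm w z (Or.inr (Or.inl rfl)) (Or.inl rfl) V.four.hne.symm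
  set x := τ * u * τ⁻¹ with hx
  -- the two cores generate a group of odd order
  set L := closure ((O z : Set G) ∪ (O w : Set G)) with hL
  have hgen : ∀ {p : G → Prop} {g : G}, g ∈ L → (∀ o ∈ O z, p o) → (∀ o ∈ O w, p o) → p 1 →
      (∀ a b, p a → p b → p (a * b)) → (∀ a, p a → p a⁻¹) → p g := by
    intro p g hg h1 h2 h3 h4 h5
    induction hg using closure_induction with
    | mem o ho => exact ho.elim (h1 o) (h2 o)
    | one => exact h3
    | mul _ _ _ _ a b => exact h4 _ _ a b
    | inv _ _ a => exact h5 _ a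
  have hLu : ∀ g ∈ L, Commute u g := fun g hg =>
    hgen hg hcz hcw (Commute.one_right _) (fun _ _ => Commute.mul_right) (fun _ => Commute.inv_right)
  have hτ' : τ * (z * w) * τ⁻¹ = z * w := by rw [← conj_mul, hτ1, hτ2]; exact V.four.comm.symm.eq
  have hLτ : ∀ g ∈ L, τ * g * τ⁻¹ ∈ L := fun g hg => by
    refine hgen (p := fun g => τ * g * τ⁻¹ ∈ L) hg (fun o ho => ?_) (fun o ho => ?_) (by simp) (fun a b ha hb => ?_)
      (fun a ha => ?_)
    · exact subset_closure (Or.inr (by have := O_conj (c := τ) ho; rwa [hτ1] at this))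
    · exact subset_closure (Or.inl (by have := O_conj (c := τ) ho; rwa [hτ2] at this))
    · rw [← conj_mul]; exact mul_mem ha hb
    · rw [← conj_inv]; exact inv_mem ha
  have hLodd : Odd (Nat.card L) := by
    haveI : Fact (Nat.Prime 2) := ⟨Nat.prime_two⟩
    set U := centralizer ({u} : Set G) with hU
    set wU : U := ⟨w, mem_centralizer_singleton_iff.2 huw.symm⟩ with hwU
    have hw2 : orderOf wU = 2 := by rw [← orderOf_coe]; exact V.four.hw
    have hP : IsPGroup 2 (zpowers wU) := IsPGroup.of_card (n := 1) (by rw [Nat.card_zpowers, hw2, pow_one])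
    obtain ⟨Q, hQ⟩ := hP.exists_le_sylow
    have hQeq : (Q : Subgroup U) = zpowers wU := by
      by_contra hne'
      have hlt : zpowers wU < (Q : Subgroup U) := lt_of_le_of_ne hQ (Ne.symm hne')
      haveI : Group.IsNilpotent (Q : Subgroup U) := Q.isPGroup'.isNilpotent
      have hnc := Group.normalizerCondition_of_isNilpotent (G := (Q : Subgroup U))
        ((zpowers wU).subgroupOf Q) (lt_top_iff_ne_top.2 fun h => hlt.ne
          (le_antisymm hQ (subgroupOf_eq_top.1 h)))
      obtain ⟨q, hq, hqn⟩ := SetLike.exists_of_lt hnc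
      apply hqn
      rw [mem_subgroupOf]
      set qU : U := (q : U) with hqU
      have hwq : qU * wU * qU⁻¹ = wU := by
        have hmem : q * ⟨wU, hQ (mem_zpowers wU)⟩ * q⁻¹ ∈ (zpowers wU).subgroupOf Q :=
          (mem_normalizer_iff.1 hq _).1 (mem_subgroupOf.2 (mem_zpowers wU))
        rw [mem_subgroupOf] at hmem
        obtain ⟨i, hi⟩ := mem_zpowers_iff.1 hmem
        rcases Int.even_or_odd i with ⟨m, rfl⟩ | ⟨m, rfl⟩
        · rw [← two_mul, zpow_mul,
            show wU ^ (2 : ℤ) = 1 by rw [zpow_two, sq_of_order_two hw2], one_zpow] at hi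
          have : wU = 1 := by
            have e := hi.symm
            simpa [hqU, mul_inv_eq_one] using e
          rw [this, orderOf_one] at hw2
          norm_num at hw2
        · rw [zpow_add, zpow_mul, show wU ^ (2 : ℤ) = 1 by rw [zpow_two, sq_of_order_two hw2], one_zpow,
            one_mul, zpow_one] at hi
          simpa [hqU] using hi.symm
      obtain ⟨k, hk⟩ := Q.isPGroup' q
      have hqC : ((qU : G)) ∈ centralizer ({w} : Set G) :=
        mem_centralizer_singleton_iff.2 (mul_inv_eq_iff_eq_mul.1 (congrArg Subtype.val hwq))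
      set qC : centralizer ({w} : Set G) := ⟨(qU : G), hqC⟩ with hqC'
      have hqk : (qU : G) ^ (2 ^ k) = 1 := by
        have := congrArg (fun x : (Q : Subgroup U) => ((x : U) : G)) hk
        simpa [hqU] using this
      have h16 : πw qC ^ 16 = 1 := by
        have h1 : orderOf (πw qC) ∣ 2 ^ k := orderOf_dvd_of_pow_eq_one (by
          rw [← map_pow, show qC ^ (2 ^ k) = 1 from Subtype.ext (by simpa [hqC'] using hqk), map_one])
        have h2 : orderOf (πw qC) ∣ 16 * 3 := by
          have := orderOf_dvd_natCard (πw qC); rwa [GLTwoThree.card_GL23] at this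
        exact orderOf_dvd_iff_pow_eq_one.1
          ((Nat.Coprime.coprime_dvd_left h1 (Nat.Coprime.pow_left k (by norm_num))).dvd_of_dvd_mul_right h2)
      have hcu : πw qC * πw uC = πw uC * πw qC := by
        rw [← map_mul, ← map_mul]
        congr 1
        exact Subtype.ext (mem_centralizer_singleton_iff.1 qU.2)
      have hker : ∀ c : centralizer ({w} : Set G), (c : G) ^ (2 ^ k) = 1 → πw c = 1 → c = 1 := by
        intro c h1 h2
        rw [← orderOf_eq_one_iff]
        refine Nat.eq_one_of_dvd_coprimes ((Nat.coprime_two_right.2 Ew.cov.odd).pow_right k) ?_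
          (orderOf_dvd_of_pow_eq_one (Subtype.ext (by simpa using h1)))
        rw [← Subgroup.orderOf_mk c (MonoidHom.mem_ker.2 h2)]
        exact orderOf_dvd_natCard _
      rcases gl_cent hu3 hπu hcu h16 with h | h
      · have := hker qC hqk h
        rw [show qU = 1 from Subtype.ext (by simpa [hqC'] using congrArg Subtype.val this)]
        exact one_mem _
      · have h' := Ew.cov.hT
        have hcw' : Commute (qU : G) w := mem_centralizer_singleton_iff.1 hqC
        have hone : qC * ⟨w, mem_centralizer_singleton_iff.2 rfl⟩ = 1 := by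
          refine hker _ ?_ (by rw [map_mul, h, h', GLTwoThree.X_pow.2.2.1])
          change ((qU : G) * w) ^ (2 ^ k) = 1
          rw [hcw'.mul_pow, hqk, one_mul]
          rcases k with _ | k
          · exfalso
            apply hπu
            have h0 : qC = 1 := Subtype.ext (by simpa [hqC'] using hqk)
            rw [h0, map_one] at h
            exact absurd h.symm GLTwoThree.X_pow.2.1
          · rw [pow_succ', pow_mul, pow_two, hww, one_pow]
        have hqw : qU = wU := Subtype.ext (by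
          have e := congrArg Subtype.val hone
          change (qU : G) * w = 1 at e
          rw [mul_eq_one_iff_eq_inv.1 e, inv_eq_of_mul_eq_one_right hww])
        rw [hqw]; exact mem_zpowers _
    haveI : IsCyclic (Q : Subgroup U) := by rw [hQeq]; infer_instance
    have hcomp := MonoidHom.ker_transferSylow_isComplement' Q (by
      intro n hn
      refine mem_centralizer_iff.2 fun q hq => ?_
      have hq' : q ∈ zpowers wU := hQeq ▸ hq
      have hnw : n * wU * n⁻¹ = wU := by
        have hm : n * wU * n⁻¹ ∈ zpowers wU := by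
          rw [← hQeq]; exact (mem_normalizer_iff.1 hn _).1 (hQeq ▸ mem_zpowers _)
        obtain ⟨i, hi⟩ := mem_zpowers_iff.1 hm
        have h2' : wU ^ (2 : ℤ) = 1 := by rw [zpow_two, sq_of_order_two hw2]
        rcases Int.even_or_odd i with ⟨m, rfl⟩ | ⟨m, rfl⟩
        · exfalso
          rw [← two_mul, zpow_mul, h2', one_zpow, eq_comm, mul_inv_eq_one, mul_eq_left] at hi
          rw [hi, orderOf_one] at hw2
          norm_num at hw2
        · rw [zpow_add, zpow_mul, h2', one_zpow, one_mul, zpow_one] at hi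
          exact hi.symm
      obtain ⟨i, rfl⟩ := mem_zpowers_iff.1 hq'
      exact ((Commute.zpow_right (show Commute n wU from mul_inv_eq_iff_eq_mul.1 hnw) i)).symm.eq)
    set K := (MonoidHom.transferSylow Q _).ker
    have hKc : Nat.card K * 2 = Nat.card U := by
      rw [← hcomp.card_mul, hQeq, Nat.card_zpowers, hw2]
    have hKodd : Odd (Nat.card K) := by
      have h2 : ¬ 2 ∣ (Q : Subgroup U).index := Q.not_dvd_index
      rw [hcomp.index_eq_card] at h2
      exact Nat.odd_iff.2 (Nat.two_dvd_ne_zero.1 h2)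
    have hLle : L ≤ K.map U.subtype := by
      have hmem : ∀ o, o ∈ O z ∨ o ∈ O w → o ∈ K.map U.subtype := by
        intro o ho
        have hoo : Odd (orderOf o) := ho.elim (V.O_odd S₀ hS₀) (hV'.O_odd S₀ hS₀)
        have hoU : o ∈ U := mem_centralizer_singleton_iff.2 (ho.elim (hcz o) (hcw o)).symm
        refine ⟨⟨o, hoU⟩, ?_, rfl⟩
        have hKi : K.index = 2 := by
          have := K.card_mul_index
          rw [← hKc] at this
          exact Nat.eq_of_mul_eq_mul_left Nat.card_pos this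
        haveI : K.Normal := MonoidHom.normal_ker _
        obtain ⟨m, hm⟩ := hoo
        have : (⟨o, hoU⟩ : U) = ((⟨o, hoU⟩ : U) ^ (m + 1)) ^ 2 := Subtype.ext (by
          push_cast
          rw [← pow_mul, show (m + 1) * 2 = (2 * m + 1) + 1 by ring, pow_succ o (2 * m + 1), ← hm,
            pow_orderOf_eq_one, one_mul])
        rw [SetLike.mem_coe, this]
        exact sq_mem_of_index_two hKi _
      exact (closure_le _).2 fun o ho => hmem o ho
    have := card_dvd_of_le hLle
    rw [card_map_of_injective U.subtype_injective] at this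
    exact Odd.of_dvd_nat hKodd this
  have hLord : ∀ g ∈ L, Odd (orderOf g) := fun g hg => by
    refine Odd.of_dvd_nat hLodd ?_
    rw [← Subgroup.orderOf_mk g hg]; exact orderOf_dvd_natCard _
  have hτ2u : ∀ g, Commute u g → Commute (τ * τ * u * (τ * τ)⁻¹) g := by
    intro g hg
    have e1 : (τ * τ) * z * (τ * τ)⁻¹ = z := by
      rw [show τ * τ * z * (τ * τ)⁻¹ = τ * (τ * z * τ⁻¹) * τ⁻¹ by group, hτ1, hτ2]
    have e2 : (τ * τ) * w * (τ * τ)⁻¹ = w := by
      rw [show τ * τ * w * (τ * τ)⁻¹ = τ * (τ * w * τ⁻¹) * τ⁻¹ by group, hτ2, hτ1]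
    have hzu : z * u * z⁻¹ = u⁻¹ := huz
    have hwu : w * u * w⁻¹ = u := by rw [← huw, mul_inv_cancel_right]
    rcases V.four.cent (τ * τ) (mul_inv_eq_iff_eq_mul.1 e1) (mul_inv_eq_iff_eq_mul.1 e2) with h | h | h | h <;>
      rw [h]
    · simpa using hg
    · rw [hzu]; exact hg.inv_left
    · rw [hwu]; exact hg
    · rw [show z * w * u * (z * w)⁻¹ = z * (w * u * w⁻¹) * z⁻¹ by group, hwu, hzu]; exact hg.inv_left
  have hLx : ∀ g ∈ L, Commute x g := by
    intro g hg
    have h1 : Commute (τ * τ * u * (τ * τ)⁻¹) (τ * g * τ⁻¹) := hτ2u _ (hLu _ (hLτ g hg))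
    have h2 := h1.map (MulAut.conj τ⁻¹).toMonoidHom
    simpa [hx, mul_assoc] using h2
  -- the fixed points of `z * w` on that group
  have hV3 := V.pair (Or.inr (Or.inr rfl)) (Or.inl rfl) V.mul_ne.1
  obtain ⟨π3, E3⟩ := hV3.exists_cov S₀ hS₀
  obtain ⟨π1, E1⟩ := V.exists_cov S₀ hS₀
  have hzwz : z * (z * w) * z⁻¹ = z * w := by
    rw [inv_eq_of_mul_eq_one_right hzz, ← mul_assoc, hzz, one_mul, V.four.comm.eq]
  have hzOz : ∀ o ∈ O z, z * o * z⁻¹ = o := fun o ho => by rw [← O_cent ho, mul_inv_cancel_right]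
  have hLz : ∀ g ∈ L, z * g * z⁻¹ ∈ L := fun g hg => by
    refine hgen (p := fun g => z * g * z⁻¹ ∈ L) hg (fun o ho => ?_) (fun o ho => ?_) (by simp)
      (fun a b ha hb => ?_) (fun a ha => ?_)
    · rw [hzOz o ho]; exact subset_closure (Or.inl ho)
    · refine subset_closure (Or.inr ?_)
      have := O_conj (c := z) ho
      rwa [V.four.comm.eq, mul_inv_cancel_right] at this
    · rw [← conj_mul]; exact mul_mem ha hb
    · rw [← conj_inv]; exact inv_mem ha
  have hLw : ∀ g ∈ L, w * g * w⁻¹ ∈ L := fun g hg => by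
    refine hgen (p := fun g => w * g * w⁻¹ ∈ L) hg (fun o ho => ?_) (fun o ho => ?_) (by simp)
      (fun a b ha hb => ?_) (fun a ha => ?_)
    · refine subset_closure (Or.inl ?_)
      have := O_conj (c := w) ho
      rwa [← V.four.comm.eq, mul_inv_cancel_right] at this
    · rw [← O_cent ho, mul_inv_cancel_right]; exact subset_closure (Or.inr ho)
    · rw [← conj_mul]; exact mul_mem ha hb
    · rw [← conj_inv]; exact inv_mem ha
  have hfix : ∀ g ∈ L, (z * w) * g = g * (z * w) → g = 1 := by
    have hinvz : ∀ g ∈ L ⊓ centralizer ({z * w} : Set G), z * g * z⁻¹ = g⁻¹ := by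
      refine inverts_of_fpf hzz (fun g hg => ⟨hLz g hg.1, mem_centralizer_singleton_iff.2 ?_⟩) ?_
      · rw [← mul_inv_eq_iff_eq_mul]
        calc z * g * z⁻¹ * (z * w) * (z * g * z⁻¹)⁻¹ = z * (g * (z⁻¹ * (z * w) * z) * g⁻¹) * z⁻¹ := by group
          _ = z * w := by
            rw [show z⁻¹ * (z * w) * z = z * w by
              rw [inv_mul_cancel_left, ← V.four.comm.eq], mem_centralizer_singleton_iff.1 hg.2,
              mul_inv_cancel_right, hzwz]
      · intro g hg hzg
        have hgw : Commute g w := by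
          have h1 : Commute g (z * w) := mem_centralizer_singleton_iff.1 hg.2
          have h2 : Commute g z := hzg.symm
          have h3 := h2.mul_right h1
          rwa [← mul_assoc, hzz, one_mul] at h3
        have ho := hLord g hg.1
        refine eq_one_of_sq_of_odd ho (pow_orderOf_eq_one g) ?_
        rcases V.four.cent g hzg.symm hgw with h | h | h | h <;> rw [h]
        · exact one_mul 1
        · exact hzz
        · exact hww
        · rw [(V.four.comm.symm).mul_mul_mul_comm, hzz, hww, mul_one]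
    intro g hgL hgc
    have hg : g ∈ L ⊓ centralizer ({z * w} : Set G) := ⟨hgL, mem_centralizer_singleton_iff.2 hgc.symm⟩
    set gC : centralizer ({z * w} : Set G) := ⟨g, hg.2⟩ with hgC
    have hτC : τ ∈ centralizer ({z * w} : Set G) :=
      mem_centralizer_singleton_iff.2 (mul_inv_eq_iff_eq_mul.1 hτ')
    set τC : centralizer ({z * w} : Set G) := ⟨τ, hτC⟩ with hτC'
    have hg'L : τ * g * τ⁻¹ ∈ L := hLτ g hgL
    have hodd' := hLord g hgL
    have hk3 : π3 gC ^ 3 = 1 := gl_odd hodd' (by
      rw [← map_pow, show gC ^ orderOf g = 1 from Subtype.ext (by simpa [hgC] using pow_orderOf_eq_one g),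
        map_one])
    have hzC : z ∈ centralizer ({z * w} : Set G) :=
      mem_centralizer_singleton_iff.2 (mul_inv_eq_iff_eq_mul.1 hzwz)
    set zC : centralizer ({z * w} : Set G) := ⟨z, hzC⟩ with hzC'
    by_cases hk1 : π3 gC = 1
    · -- in the core of `C(z * w)`
      obtain ⟨c, hc1, hc2⟩ := V.perm z (z * w) (Or.inl rfl) (Or.inr (Or.inr rfl)) V.mul_ne.1.symm
      have hgO : g ∈ O (z * w) := E3.mem_O.2 ⟨hg.2, hk1⟩
      have hxz : x * z = z * x := by
        rw [hx, ← hτ2]
        calc τ * u * τ⁻¹ * (τ * w * τ⁻¹) = τ * (u * w) * τ⁻¹ := by group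
          _ = τ * (w * u) * τ⁻¹ := by rw [huw]
          _ = _ := by group
      have hxw : w * x * w⁻¹ = x⁻¹ := by
        rw [hx, ← hτ1]
        calc τ * z * τ⁻¹ * (τ * u * τ⁻¹) * (τ * z * τ⁻¹)⁻¹ = τ * (z * u * z⁻¹) * τ⁻¹ := by group
          _ = _ := by rw [huz]; group
      have hbz : (c * x * c⁻¹) * z = z * (c * x * c⁻¹) := by
        conv_lhs => rw [← hc1, conj_mul, hxz, ← conj_mul, hc1]
      have hcx : Commute g x := (hLx g hgL).symm
      have hcb : Commute g (c * x * c⁻¹) := by
        have h1 : c⁻¹ * g * c ∈ O w := by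
          have := O_conj (c := c⁻¹) hgO
          rw [inv_inv] at this
          rwa [show c⁻¹ * (z * w) * c = w by rw [← hc2]; group] at this
        have h2 : Commute (c⁻¹ * g * c) x := (hLx _ (subset_closure (Or.inr h1))).symm
        have h3 := h2.map (MulAut.conj c).toMonoidHom
        simpa [mul_assoc] using h3
      set xC : centralizer ({z} : Set G) := ⟨x, mem_centralizer_singleton_iff.2 hxz⟩ with hxC
      set cC : centralizer ({z} : Set G) := ⟨c, mem_centralizer_singleton_iff.2
        (mul_inv_eq_iff_eq_mul.1 hc1)⟩ with hcC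
      set wC : centralizer ({z} : Set G) := ⟨w, V.wC S₀ hS₀⟩ with hwC
      have hxk : x ^ (r ^ kr) = 1 := by rw [hx, conj_pow, hkr, mul_one, mul_inv_cancel]
      have hx3 : π1 xC ^ 3 = 1 := gl_odd hodd (by
        rw [← map_pow, show xC ^ (r ^ kr) = 1 from Subtype.ext (by simpa [hxC] using hxk), map_one])
      have hx1 : π1 xC ≠ 1 := by
        intro h
        apply hπu
        obtain ⟨h', h''⟩ := Ew.mem_O.1 (show u ∈ O w by
          have h1 : x ∈ O z := E1.mem_O.2 ⟨xC.2, h⟩
          have := O_conj (c := τ⁻¹) h1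
          rw [inv_inv] at this
          rwa [show τ⁻¹ * z * τ = w by rw [← hτ2]; group, show τ⁻¹ * x * τ = u by rw [hx]; group] at this)
        exact h''
      have hw1 : π1 wC * π1 wC = 1 := by
        rw [← map_mul, show wC * wC = 1 from Subtype.ext hww, map_one]
      have hwx : π1 wC * π1 xC * π1 wC * π1 xC = 1 := by
        rw [← map_mul, ← map_mul, ← map_mul, show wC * xC * wC * xC = 1 from Subtype.ext (by
          change w * x * w * x = 1
          nth_rewrite 2 [← inv_eq_of_mul_eq_one_right hww]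
          rw [hxw, inv_mul_cancel]), map_one]
      have hcw' : π1 cC * π1 wC = T * π1 wC * π1 cC := by
        rw [← map_mul, ← E1.cov.hT, ← map_mul, ← map_mul]
        congr 1
        exact Subtype.ext (by
          change c * w = z * w * c
          rw [← hc2, inv_mul_cancel_right])
      have hlines := gl_lines hx3 (l := π1 cC * π1 xC * (π1 cC)⁻¹)
        (by rw [conj_pow, hx3, mul_one, mul_inv_cancel]) (gl_swap hw1 hx3 hx1 hwx hcw')
      obtain ⟨h, hhT, hhg⟩ : ∃ h : centralizer ({z} : Set G), π1 h = T ∧ Commute g (h : G) := by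
        have hb : ∀ n : ℕ, Commute g ((c * x * c⁻¹) ^ n) := fun n => hcb.pow_right n
        rcases hlines with h | h
        · refine ⟨xC * (cC * xC * cC⁻¹) * (xC * (cC * xC * cC⁻¹)), ?_,
            (hcx.mul_right hcb).mul_right (hcx.mul_right hcb)⟩
          simp only [map_mul, map_inv]; exact h
        · refine ⟨xC * ((cC * xC * cC⁻¹) * (cC * xC * cC⁻¹)) * (xC * ((cC * xC * cC⁻¹) * (cC * xC * cC⁻¹))),
            ?_, (hcx.mul_right (hcb.mul_right hcb)).mul_right (hcx.mul_right (hcb.mul_right hcb))⟩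
          simp only [map_mul, map_inv]; exact h
      have hmem : h * GLTwoThree.Core.tC z ∈ π1.ker := by
        rw [MonoidHom.mem_ker, map_mul, hhT, show π1 (GLTwoThree.Core.tC z) = T from E1.cov.hT,
          GLTwoThree.X_pow.2.2.1]
      obtain ⟨m, hm⟩ := E1.cov.ker_order_odd hmem
      have hpow : ((h : G) * z) ^ (2 * m + 1) = 1 := by
        have := congrArg Subtype.val (hm ▸ pow_orderOf_eq_one (h * GLTwoThree.Core.tC z))
        simpa [GLTwoThree.Core.tC] using this
      rw [(show Commute (h : G) z from mem_centralizer_singleton_iff.1 h.2).mul_pow,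
        pow_succ z, pow_mul z, pow_two, hzz, one_pow, one_mul] at hpow
      have hgz : Commute g z := by
        rw [show z = ((h : G) ^ (2 * m + 1))⁻¹ from eq_inv_of_mul_eq_one_right hpow]
        exact (hhg.pow_right _).inv_right
      have hi := hinvz g hg
      rw [← hgz.eq, mul_inv_cancel_right] at hi
      exact eq_one_of_sq_of_odd hodd' (pow_orderOf_eq_one g) (eq_inv_iff_mul_eq_one.1 hi)
    · -- two lines in a group of odd order
      exfalso
      have hz1 : π3 zC * π3 zC = 1 := by
        rw [← map_mul, show zC * zC = 1 from Subtype.ext hzz, map_one]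
      have hzg : π3 zC * π3 gC * π3 zC * π3 gC = 1 := by
        rw [← map_mul, ← map_mul, ← map_mul, show zC * gC * zC * gC = 1 from Subtype.ext (by
          change z * g * z * g = 1
          nth_rewrite 2 [← inv_eq_of_mul_eq_one_right hzz]
          rw [hinvz g hg, inv_mul_cancel]), map_one]
      have hτz : π3 τC * π3 zC = T * π3 zC * π3 τC := by
        rw [← map_mul, ← E3.cov.hT, ← map_mul, ← map_mul]
        congr 1
        refine Subtype.ext ?_
        change τ * z = z * w * z * τ
        rw [show z * w * z = w by rw [V.four.comm.eq, mul_assoc, hzz, mul_one], ← hτ1, inv_mul_cancel_right]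
      have hlines := gl_lines hk3 (l := π3 τC * π3 gC * (π3 τC)⁻¹)
        (by rw [conj_pow, hk3, mul_one, mul_inv_cancel]) (gl_swap hz1 hk3 hk1 hzg hτz)
      obtain ⟨h, hhT, hhL⟩ : ∃ h : centralizer ({z * w} : Set G), π3 h = T ∧ (h : G) ∈ L := by
        rcases hlines with h | h
        · refine ⟨gC * (τC * gC * τC⁻¹) * (gC * (τC * gC * τC⁻¹)), ?_,
            mul_mem (mul_mem hgL hg'L) (mul_mem hgL hg'L)⟩
          simp only [map_mul, map_inv]; exact h
        · refine ⟨gC * ((τC * gC * τC⁻¹) * (τC * gC * τC⁻¹)) * (gC * ((τC * gC * τC⁻¹) * (τC * gC * τC⁻¹))),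
            ?_, mul_mem (mul_mem hgL (mul_mem hg'L hg'L)) (mul_mem hgL (mul_mem hg'L hg'L))⟩
          simp only [map_mul, map_inv]; exact h
      obtain ⟨m, hm⟩ := hLord _ hhL
      have h1 : π3 h ^ (2 * m + 1) = 1 := by
        rw [← map_pow, show h ^ (2 * m + 1) = 1 from Subtype.ext (by
          rw [Subgroup.coe_pow, ← hm, pow_orderOf_eq_one]; rfl), map_one]
      rw [hhT, pow_succ, pow_mul, pow_two, GLTwoThree.X_pow.2.2.1, one_pow, one_mul] at h1
      exact GLTwoThree.X_pow.2.1 h1
  have hinvL := inverts_of_fpf (a := z * w)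
    (by rw [(V.four.comm.symm).mul_mul_mul_comm, hzz, hww, mul_one])
    (fun g hg => by
      rw [show z * w * g * (z * w)⁻¹ = z * (w * g * w⁻¹) * z⁻¹ by group]
      exact hLz _ (hLw g hg)) hfix
  have hAw : ∀ o ∈ O w, Rel r o → o = 1 := fun o ho hor =>
    V.A_trivial S₀ hS₀ hr2 ho hor fun p hp _ =>
      comm_of_inverted hinvL (subset_closure (Or.inr ho)) (subset_closure (Or.inl hp))
  obtain ⟨o, ho, hor, ho1⟩ := hne
  have h1 : τ * o * τ⁻¹ ∈ O w := by have := O_conj (c := τ) ho; rwa [hτ1] at this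
  have h2 := hAw _ h1 (hor.conj τ)
  rw [mul_inv_eq_one, mul_eq_left] at h2
  exact ho1 h2

end Cfsg.Agent.Perm.CubicInsoluble.Local
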