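import Cfsg.Agent.Lib.Forms.KleinPSL
import Cfsg.Agent.Lib.Forms.PslMap
import Cfsg.Agent.Lib.AutPSL.Conj
import Cfsg.Agent.Lib.Classical.SmallIso

/-!
# Maximal subgroups `Sym(4)` of `PSL₂(q)`

If `PSL₂(q)`, `q` odd, has order divisible by 16 and a maximal subgroup `Sym(4)`, then `q` is a
prime congruent to `±1` modulo 16: the normaliser of a four-group is realised over every subfield,
so for a proper subfield with at least five elements it lies in a larger proper subgroup.
-/

set_option autoImplicit false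
set_option linter.style.haveILetI false
set_option linter.unusedSectionVars false

namespace Cfsg.Agent.Perm.CubicInsolublePSLMax

open Matrix
open scoped MatrixGroups

universe u

variable {F : Type u} [Field F]

/-- A quarter turn. -/
def jMat (L : Type*) [Field L] : Matrix (Fin 2) (Fin 2) L := !![0, 1; -1, 0]

/-- A quarter turn anticommuting with the first one. -/
def wMat {L : Type*} [Field L] (a b : L) : Matrix (Fin 2) (Fin 2) L := !![a, b; b, -a]

/-- Two anticommuting quarter turns are simultaneously similar to the standard pair. -/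
theorem exists_intertwiner {L : Type*} [Field L] (h2 : (2 : L) ≠ 0)
    {A B : Matrix (Fin 2) (Fin 2) L} (hA : A * A = -1) (hB : B * B = -1)
    (hAB : B * A = -(A * B)) {a b : L} (hab : a * a + b * b = -1) :
    ∃ g : GL (Fin 2) L, (g : Matrix (Fin 2) (Fin 2) L) * jMat L = A * g ∧
      (g : Matrix (Fin 2) (Fin 2) L) * wMat a b = B * g := by
  set N := B + b • A - a • (1 : Matrix (Fin 2) (Fin 2) L) with hN
  set N' := B + b • A + a • (1 : Matrix (Fin 2) (Fin 2) L) with hN'
  have hNN : N * N' = 0 := by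
    have eY : ∀ Y : Matrix (Fin 2) (Fin 2) L,
        (Y - a • 1) * (Y + a • 1) = Y * Y - (a * a) • (1 : Matrix (Fin 2) (Fin 2) L) := fun Y => by
      rw [sub_mul, mul_add, mul_add, smul_mul_assoc, smul_mul_assoc, one_mul, one_mul, mul_smul_comm, mul_one, smul_smul]
      abel
    have eS : (B + b • A) * (B + b • A) = B * B + b • (B * A + A * B) + (b * b) • (A * A) := by
      simp only [add_mul, mul_add, smul_mul_assoc, mul_smul_comm, smul_add, smul_smul]
      abel
    have e : N * N' = (B * B + b • (B * A + A * B) + (b * b) • (A * A)) -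
        (a * a) • (1 : Matrix (Fin 2) (Fin 2) L) := by rw [hN, hN', eY, eS]
    rw [e, hAB, neg_add_cancel, smul_zero, add_zero, hA, hB]
    have : (-1 : Matrix (Fin 2) (Fin 2) L) + (b * b) • (-1 : Matrix (Fin 2) (Fin 2) L) -
        (a * a) • (1 : Matrix (Fin 2) (Fin 2) L) = (-1 - b * b - a * a) • 1 := by
      rw [sub_smul, sub_smul, neg_smul, one_smul, smul_neg]; abel
    rw [this, show -1 - b * b - a * a = 0 by linear_combination -hab, zero_smul]
  have hdet : N.det = 0 := by
    by_contra h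
    have hz : N' = 0 := by
      have hu : IsUnit N.det := isUnit_iff_ne_zero.2 h
      rw [← one_mul N', ← Matrix.nonsing_inv_mul N hu, mul_assoc, hNN, mul_zero]
    have hBe : B = -(b • A + a • (1 : Matrix (Fin 2) (Fin 2) L)) := by
      rw [hN', add_assoc] at hz
      exact eq_neg_of_add_eq_zero_left hz
    have hcomm : B * A = A * B := by
      rw [hBe]
      simp only [neg_mul, mul_neg, add_mul, mul_add, smul_mul_assoc, mul_smul_comm, one_mul, mul_one]
    have h0 : (2 : L) • (A * B) = 0 := by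
      rw [two_smul]
      nth_rw 1 [← hcomm]
      rw [hAB, neg_add_cancel]
    have h1 : A * B = 0 := (smul_eq_zero.1 h0).resolve_left h2
    have h3 : B = 0 := by
      have := congrArg (fun M => A * M) h1
      simp only [← mul_assoc, hA, mul_zero, neg_mul, one_mul, neg_eq_zero] at this
      exact this
    rw [h3, mul_zero] at hB
    exact one_ne_zero (neg_eq_zero.1 (congrFun (congrFun hB 0) 0).symm)
  obtain ⟨v, hv, hNv⟩ := Matrix.exists_mulVec_eq_zero_iff.2 hdet
  set w := A.mulVec v with hw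
  have hAw : A.mulVec w = -v := by rw [hw, Matrix.mulVec_mulVec, hA, Matrix.neg_mulVec, Matrix.one_mulVec]
  have hBv : B.mulVec v = a • v - b • w := by
    rw [hN, Matrix.sub_mulVec, Matrix.add_mulVec, Matrix.smul_mulVec, Matrix.smul_mulVec,
      Matrix.one_mulVec, sub_eq_zero, ← hw] at hNv
    rw [← hNv]; abel
  have hBw : B.mulVec w = -(a • w) - b • v := by
    rw [hw, Matrix.mulVec_mulVec, hAB, Matrix.neg_mulVec, ← Matrix.mulVec_mulVec, hBv,
      Matrix.mulVec_sub, Matrix.mulVec_smul, Matrix.mulVec_smul, ← hw, hAw, smul_neg]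
    abel
  have hd : (!![v 0, -(w 0); v 1, -(w 1)] : Matrix (Fin 2) (Fin 2) L).det ≠ 0 := by
    intro h
    rw [Matrix.det_fin_two_of] at h
    obtain ⟨l, hl⟩ : ∃ l : L, w = l • v := by
      by_cases h0 : v 0 = 0
      · have h1 : v 1 ≠ 0 := fun e => hv (funext fun i => by fin_cases i; exacts [h0, e])
        refine ⟨w 1 / v 1, funext fun i => ?_⟩
        fin_cases i
        · show w 0 = w 1 / v 1 * v 0
          rw [h0, mul_zero]
          rw [h0, zero_mul] at h
          exact (mul_eq_zero.1 (show w 0 * v 1 = 0 by linear_combination h)).resolve_right h1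
        · show w 1 = w 1 / v 1 * v 1
          rw [div_mul_cancel₀ _ h1]
      · refine ⟨w 0 / v 0, funext fun i => ?_⟩
        fin_cases i
        · show w 0 = w 0 / v 0 * v 0
          rw [div_mul_cancel₀ _ h0]
        · show w 1 = w 0 / v 0 * v 1
          field_simp
          linear_combination -h
    have hs : ∀ c d : L, c • v = d • v → c = d := fun c d e => by
      by_contra hne
      have h' : (c - d) • v = 0 := by rw [sub_smul, e, sub_self]
      exact hv ((smul_eq_zero.1 h').resolve_left (sub_ne_zero.2 hne))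
    have hll : l * l = -1 := hs _ _ (by
      rw [neg_one_smul, ← hAw, hl, Matrix.mulVec_smul, ← hw, hl, smul_smul])
    set m := a - b * l
    have hBv' : B.mulVec v = m • v := by rw [hBv, hl, sub_smul, smul_smul]
    have hmm : m * m = -1 := hs _ _ (by
      have e : B.mulVec (B.mulVec v) = -v := by
        rw [Matrix.mulVec_mulVec, hB, Matrix.neg_mulVec, Matrix.one_mulVec]
      rw [neg_one_smul, ← e, hBv', Matrix.mulVec_smul, hBv', smul_smul])
    have h2lm : l * m + m * l = 0 := hs _ _ (by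
      rw [zero_smul, add_smul, ← smul_smul, ← smul_smul, ← hBv', ← hl, hw, ← Matrix.mulVec_smul,
        ← Matrix.mulVec_smul, ← hl, hw, ← hBv', Matrix.mulVec_mulVec, Matrix.mulVec_mulVec, hAB,
        Matrix.neg_mulVec, neg_add_cancel])
    have : (2 : L) * (l * m) = 0 := by linear_combination h2lm
    rcases mul_eq_zero.1 ((mul_eq_zero.1 this).resolve_left h2) with e | e
    · rw [e, mul_zero] at hll; exact one_ne_zero (neg_eq_zero.1 hll.symm)
    · rw [e, mul_zero] at hmm; exact one_ne_zero (neg_eq_zero.1 hmm.symm)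
  refine ⟨Matrix.GeneralLinearGroup.mkOfDetNeZero _ hd, ?_, ?_⟩
  · show (!![v 0, -(w 0); v 1, -(w 1)] : Matrix (Fin 2) (Fin 2) L) * jMat L = A * !![v 0, -(w 0); v 1, -(w 1)]
    have e1 : ∀ i, A i 0 * v 0 + A i 1 * v 1 = w i := fun i => by
      simp only [hw, Matrix.mulVec, dotProduct, Fin.sum_univ_two]
    have e2 : ∀ i, A i 0 * w 0 + A i 1 * w 1 = -v i := fun i => by
      have := congrFun hAw i
      simpa [Matrix.mulVec, dotProduct, Fin.sum_univ_two] using this
    ext i j
    fin_cases i <;> fin_cases j <;> simp [jMat, Matrix.mul_apply, Fin.sum_univ_two]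
    · linear_combination -(e1 0)
    · linear_combination e2 0
    · linear_combination -(e1 1)
    · linear_combination e2 1
  · show (!![v 0, -(w 0); v 1, -(w 1)] : Matrix (Fin 2) (Fin 2) L) * wMat a b = B * !![v 0, -(w 0); v 1, -(w 1)]
    have e1 : ∀ i, B i 0 * v 0 + B i 1 * v 1 = a * v i - b * w i := fun i => by
      have := congrFun hBv i
      simpa [Matrix.mulVec, dotProduct, Fin.sum_univ_two] using this
    have e2 : ∀ i, B i 0 * w 0 + B i 1 * w 1 = -(a * w i) - b * v i := fun i => by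
      have := congrFun hBw i
      simpa [Matrix.mulVec, dotProduct, Fin.sum_univ_two] using this
    ext i j
    fin_cases i <;> fin_cases j <;> simp [wMat, Matrix.mul_apply, Fin.sum_univ_two]
    · linear_combination -(e1 0)
    · linear_combination e2 0
    · linear_combination -(e1 1)
    · linear_combination e2 1

/-- Only scalars commute with both standard quarter turns. -/
theorem scalar_of_comm {L : Type*} [Field L] (h2 : (2 : L) ≠ 0) {a b : L}
    (hab : a * a + b * b = -1) {h : Matrix (Fin 2) (Fin 2) L} (hJ : h * jMat L = jMat L * h)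
    (hW : h * wMat a b = wMat a b * h) : ∃ x : L, h = x • (1 : Matrix (Fin 2) (Fin 2) L) := by
  have h01 := congrFun (congrFun hJ 0) 1
  have h00 := congrFun (congrFun hJ 0) 0
  have w00 := congrFun (congrFun hW 0) 0
  have w01 := congrFun (congrFun hW 0) 1
  simp [jMat, wMat, Matrix.mul_apply, Fin.sum_univ_two] at h01 h00 w00 w01
  have hy : h 1 0 = -(h 0 1) := by linear_combination -h00
  have hx : h 1 1 = h 0 0 := by linear_combination -h01
  rw [hy] at w00
  rw [hx] at w01
  have hb : (2 * b) * h 0 1 = 0 := by linear_combination w00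
  have ha : (2 * a) * h 0 1 = 0 := by linear_combination -w01
  have h0 : h 0 1 = 0 := by
    by_contra hne
    have hb' := (mul_eq_zero.1 ((mul_eq_zero.1 hb).resolve_right hne)).resolve_left h2
    have ha' := (mul_eq_zero.1 ((mul_eq_zero.1 ha).resolve_right hne)).resolve_left h2
    rw [ha', hb'] at hab
    simp at hab
  refine ⟨h 0 0, ?_⟩
  ext i j
  fin_cases i <;> fin_cases j <;> simp [h0, hy, hx]

/-- The image in `PSL₂` of the matrices with entries in a subfield, up to a factor. -/
def subfieldGroup (k : Subfield F) : Subgroup (Matrix.ProjectiveSpecialLinearGroup (Fin 2) F) where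
  carrier := {x | ∃ s : SL(2, F), Forms.KleinPSL.pi F s = x ∧
    ∃ c : F, c ≠ 0 ∧ ∀ i j, c * (s : Matrix (Fin 2) (Fin 2) F) i j ∈ k}
  one_mem' := ⟨1, map_one _, 1, one_ne_zero, fun i j => by
    fin_cases i <;> fin_cases j <;> simp [k.one_mem, k.zero_mem]⟩
  mul_mem' := by
    rintro x y ⟨s, rfl, c, hc, hs⟩ ⟨t, rfl, d, hd, ht⟩
    refine ⟨s * t, map_mul _ s t, c * d, mul_ne_zero hc hd, fun i j => ?_⟩
    rw [Matrix.SpecialLinearGroup.coe_mul, Matrix.mul_apply, Fin.sum_univ_two, mul_add,
      show c * d * ((s : Matrix (Fin 2) (Fin 2) F) i 0 * (t : Matrix (Fin 2) (Fin 2) F) 0 j) =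
        (c * (s : Matrix (Fin 2) (Fin 2) F) i 0) * (d * (t : Matrix (Fin 2) (Fin 2) F) 0 j) by ring,
      show c * d * ((s : Matrix (Fin 2) (Fin 2) F) i 1 * (t : Matrix (Fin 2) (Fin 2) F) 1 j) =
        (c * (s : Matrix (Fin 2) (Fin 2) F) i 1) * (d * (t : Matrix (Fin 2) (Fin 2) F) 1 j) by ring]
    exact k.add_mem (k.mul_mem (hs _ _) (ht _ _)) (k.mul_mem (hs _ _) (ht _ _))
  inv_mem' := by
    rintro x ⟨s, rfl, c, hc, hs⟩
    refine ⟨s⁻¹, map_inv _ s, c, hc, fun i j => ?_⟩
    rw [Matrix.SpecialLinearGroup.coe_inv, Matrix.adjugate_fin_two]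
    fin_cases i <;> fin_cases j <;> simp [mul_neg]
    exacts [hs 1 1, hs 0 1, hs 1 0, hs 0 0]

/-- The upper unipotent elements. -/
def unip (c : F) : SL(2, F) := ⟨!![1, c; 0, 1], by simp [Matrix.det_fin_two]⟩

theorem unip_mul (c d : F) : unip c * unip d = unip (c + d) := by
  refine Subtype.ext ?_
  show (!![1, c; 0, 1] : Matrix (Fin 2) (Fin 2) F) * !![1, d; 0, 1] = !![1, c + d; 0, 1]
  ext i j
  fin_cases i <;> fin_cases j <;> simp [Matrix.mul_apply, Fin.sum_univ_two, add_comm]

theorem unip_eq_or [Fintype F] {s : SL(2, F)} {c : F}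
    (h : Forms.KleinPSL.pi F s = Forms.KleinPSL.pi F (unip c)) :
    ∃ e : F, (e = 1 ∨ e = -1) ∧ (s : Matrix (Fin 2) (Fin 2) F) = e • !![1, c; 0, 1] := by
  rcases Forms.KleinPSL.pi_eq_iff.1 h with rfl | rfl
  · exact ⟨1, Or.inl rfl, by rw [one_smul]; rfl⟩
  · exact ⟨-1, Or.inr rfl, by rw [neg_one_smul, Matrix.SpecialLinearGroup.coe_neg]; rfl⟩

theorem sym_four_facts :
    let u : Equiv.Perm (Fin 4) := Equiv.swap 0 1 * Equiv.swap 2 3
    let w : Equiv.Perm (Fin 4) := Equiv.swap 0 2 * Equiv.swap 1 3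
    u * u = 1 ∧ u ≠ 1 ∧ w * w = 1 ∧ w ≠ 1 ∧ u ≠ w ∧ u * w = w * u ∧
      ∀ m : Equiv.Perm (Fin 4), (m * u * m⁻¹ = u ∨ m * u * m⁻¹ = w ∨ m * u * m⁻¹ = u * w) ∧
        (m * w * m⁻¹ = u ∨ m * w * m⁻¹ = w ∨ m * w * m⁻¹ = u * w) := by
  decide

/-- With a proper subfield of at least five elements there is no maximal `Sym(4)`. -/
theorem not_isCoatom_sym_four [Fintype F] (hodd : Odd (Fintype.card F)) (k : Subfield F)
    (h5 : 5 ≤ Nat.card k) (hk : ∃ x : F, x ∉ k)
    {M : Subgroup (Matrix.ProjectiveSpecialLinearGroup (Fin 2) F)} (e : M ≃* Equiv.Perm (Fin 4)) :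
    ¬ IsCoatom M := by
  intro hmax
  classical
  obtain ⟨huu, hu1, hww, hw1, huw, hcomm, hconj⟩ := sym_four_facts
  set u : Equiv.Perm (Fin 4) := Equiv.swap 0 1 * Equiv.swap 2 3
  set w : Equiv.Perm (Fin 4) := Equiv.swap 0 2 * Equiv.swap 1 3
  have h2 : (2 : F) ≠ 0 := fun h => by
    have h4 : addOrderOf (1 : F) = 2 :=
      addOrderOf_eq_prime (by rw [two_nsmul, one_add_one_eq_two, h]) one_ne_zero
    exact Nat.not_even_iff_odd.2 hodd (even_iff_two_dvd.2 (h4 ▸ addOrderOf_dvd_card))
  have h2k : (2 : k) ≠ 0 := fun h => h2 (congrArg Subtype.val h)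
  haveI : Fintype k := Fintype.ofFinite _
  obtain ⟨a, b, hab⟩ := Forms.KleinSL2.exists_circ h2k (-1)
  have habF : (a : F) * a + (b : F) * b = -1 := congrArg Subtype.val hab
  -- the lifts
  have ho : ∀ v : Equiv.Perm (Fin 4), v * v = 1 → v ≠ 1 →
      orderOf ((e.symm v : M) : Matrix.ProjectiveSpecialLinearGroup (Fin 2) F) = 2 := fun v h1 h0 => by
    rw [Subgroup.orderOf_coe, MulEquiv.orderOf_eq]
    exact orderOf_eq_prime (by rw [sq, h1]) h0
  obtain ⟨A, hA⟩ := Forms.KleinPSL.pi_surjective ((e.symm u : M) : Matrix.ProjectiveSpecialLinearGroup (Fin 2) F)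
  obtain ⟨B, hB⟩ := Forms.KleinPSL.pi_surjective ((e.symm w : M) : Matrix.ProjectiveSpecialLinearGroup (Fin 2) F)
  have hAA : A * A = -1 := (Forms.KleinPSL.orderOf_pi_eq_two h2).1 (hA ▸ ho u huu hu1)
  have hBB : B * B = -1 := (Forms.KleinPSL.orderOf_pi_eq_two h2).1 (hB ▸ ho w hww hw1)
  have hne : Forms.KleinPSL.pi F A ≠ Forms.KleinPSL.pi F B := fun h =>
    huw (e.symm.injective (Subtype.ext (hA.symm.trans (h.trans hB))))
  have hcAB : Commute (Forms.KleinPSL.pi F A) (Forms.KleinPSL.pi F B) := by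
    rw [hA, hB]
    show _ * _ = _ * _
    rw [← Subgroup.coe_mul, ← Subgroup.coe_mul, ← map_mul, ← map_mul, hcomm]
  have hBA := Forms.KleinPSL.anti_of_comm h2 hAA hBB hne hcAB
  have cneg : ∀ s : SL(2, F), ((-s : SL(2, F)) : Matrix (Fin 2) (Fin 2) F) = -(s : Matrix (Fin 2) (Fin 2) F) :=
    fun s => Matrix.SpecialLinearGroup.coe_neg s
  have hAm : A.1 * A.1 = -1 := by
    have := congrArg Subtype.val hAA
    rwa [Matrix.SpecialLinearGroup.coe_mul, cneg, Matrix.SpecialLinearGroup.coe_one] at this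
  have hBm : B.1 * B.1 = -1 := by
    have := congrArg Subtype.val hBB
    rwa [Matrix.SpecialLinearGroup.coe_mul, cneg, Matrix.SpecialLinearGroup.coe_one] at this
  have hBAm : B.1 * A.1 = -(A.1 * B.1) := by
    have := congrArg Subtype.val hBA
    rwa [Matrix.SpecialLinearGroup.coe_mul, cneg, Matrix.SpecialLinearGroup.coe_mul] at this
  obtain ⟨g, hgJ, hgW⟩ := exists_intertwiner h2 hAm hBm hBAm habF
  set gi : Matrix (Fin 2) (Fin 2) F := ((g⁻¹ : GL (Fin 2) F) : Matrix (Fin 2) (Fin 2) F)
  have hg1 : gi * (g : Matrix (Fin 2) (Fin 2) F) = 1 := Units.inv_mul g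
  have hg2 : (g : Matrix (Fin 2) (Fin 2) F) * gi = 1 := Units.mul_inv g
  -- the larger subgroup
  set L := (subfieldGroup k).map (AutPSL.Basic.gAut (n := 2) (F := F) g).toMonoidHom
  have hgAut : ∀ s s' : SL(2, F), (g : Matrix (Fin 2) (Fin 2) F) * s.1 = s'.1 * g →
      AutPSL.Basic.gAut (n := 2) (F := F) g (Forms.KleinPSL.pi F s) = Forms.KleinPSL.pi F s' := by
    intro s s' h
    refine congrArg (Forms.KleinPSL.pi F) (Subtype.ext ?_)
    exact (AutPSL.Basic.conjSL_coe g s).trans (by rw [h, mul_assoc, Units.mul_inv, mul_one])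
  have hML : M ≤ L := by
    intro x hx
    obtain ⟨s, rfl⟩ := Forms.KleinPSL.pi_surjective x
    set h := gi * s.1 * (g : Matrix (Fin 2) (Fin 2) F) with hh
    have hhd : h.det = 1 := by
      rw [hh, Matrix.det_mul, Matrix.det_mul, s.2, mul_one, ← Matrix.det_mul, hg1, Matrix.det_one]
    -- the conjugates of the standard pair have entries in `k`
    have hconj' : ∀ (v : Equiv.Perm (Fin 4)) (V : SL(2, F)) (X : Matrix (Fin 2) (Fin 2) F),
        Forms.KleinPSL.pi F V = ((e.symm v : M) : Matrix.ProjectiveSpecialLinearGroup (Fin 2) F) →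
        (g : Matrix (Fin 2) (Fin 2) F) * X = V.1 * g →
        (e ⟨_, hx⟩ * v * (e ⟨_, hx⟩)⁻¹ = u ∨ e ⟨_, hx⟩ * v * (e ⟨_, hx⟩)⁻¹ = w ∨
          e ⟨_, hx⟩ * v * (e ⟨_, hx⟩)⁻¹ = u * w) →
        ∃ Y : Matrix (Fin 2) (Fin 2) k, h * X = Y.map (k.subtype) * h := by
      intro v V X hV hX hcase
      have key : ∀ (C : SL(2, F)) (Z : Matrix (Fin 2) (Fin 2) k),
          Forms.KleinPSL.pi F C = ((e.symm (e ⟨_, hx⟩ * v * (e ⟨_, hx⟩)⁻¹) : M) :
            Matrix.ProjectiveSpecialLinearGroup (Fin 2) F) →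
          (g : Matrix (Fin 2) (Fin 2) F) * Z.map k.subtype = C.1 * g →
          ∃ Y : Matrix (Fin 2) (Fin 2) k, h * X = Y.map (k.subtype) * h := by
        intro C Z hC hZ
        have hπ : Forms.KleinPSL.pi F (s * V) = Forms.KleinPSL.pi F (C * s) := by
          rw [map_mul, map_mul, hC, hV, map_mul, map_mul, map_inv, e.symm_apply_apply,
            Subgroup.coe_mul, Subgroup.coe_mul, Subgroup.coe_inv]
          group
        have hmid : ∀ T : Matrix (Fin 2) (Fin 2) F, s.1 * V.1 = T * (C.1 * s.1) →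
            h * X = gi * T * g * (Z.map k.subtype) * h := fun T hT => by
          calc h * X = gi * s.1 * ((g : Matrix (Fin 2) (Fin 2) F) * X) := by rw [hh]; simp [mul_assoc]
            _ = gi * (s.1 * V.1) * g := by rw [hX]; simp [mul_assoc]
            _ = gi * T * (C.1 * (g : Matrix (Fin 2) (Fin 2) F)) * (gi * s.1 * g) := by
              rw [hT]
              simp only [mul_assoc]
              rw [← mul_assoc (g : Matrix (Fin 2) (Fin 2) F) gi, hg2, one_mul]
            _ = gi * T * g * (Z.map k.subtype) * h := by rw [← hZ, hh]; simp [mul_assoc]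
        rcases Forms.KleinPSL.pi_eq_iff.1 hπ with e1 | e1
        · refine ⟨Z, ?_⟩
          have e2 := hmid 1 (by
            rw [one_mul, ← Matrix.SpecialLinearGroup.coe_mul, ← Matrix.SpecialLinearGroup.coe_mul, e1])
          rwa [mul_one, hg1, one_mul] at e2
        · refine ⟨-Z, ?_⟩
          have e2 := hmid (-1) (by
            rw [neg_one_mul, ← Matrix.SpecialLinearGroup.coe_mul, ← Matrix.SpecialLinearGroup.coe_mul,
              ← cneg, e1])
          rw [mul_neg, mul_one, neg_mul, hg1, neg_mul, one_mul] at e2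
          rwa [show (-Z).map k.subtype = -(Z.map k.subtype) by ext i j; simp]
      have hJmap : (jMat k).map k.subtype = jMat F := by
        ext i j; fin_cases i <;> fin_cases j <;> simp [jMat]
      have hWmap : (wMat a b).map k.subtype = wMat (a : F) (b : F) := by
        ext i j; fin_cases i <;> fin_cases j <;> simp [wMat]
      rcases hcase with hc | hc | hc
      · exact key A (jMat k) (by rw [hc, hA]) (by rw [hJmap, hgJ])
      · exact key B (wMat a b) (by rw [hc, hB]) (by rw [hWmap, hgW])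
      · refine key (A * B) (jMat k * wMat a b) (by rw [hc, map_mul (Forms.KleinPSL.pi F), hA, hB, map_mul e.symm u w, Subgroup.coe_mul]) ?_
        rw [Matrix.map_mul, hJmap, hWmap, ← mul_assoc, hgJ, mul_assoc, hgW, ← mul_assoc,
          Matrix.SpecialLinearGroup.coe_mul]
    obtain ⟨J', hJ'⟩ := hconj' u A (jMat F) hA hgJ (hconj (e ⟨_, hx⟩)).1
    obtain ⟨W', hW'⟩ := hconj' w B (wMat (a : F) (b : F)) hB hgW (hconj (e ⟨_, hx⟩)).2
    -- an intertwiner over `k`
    have hhu : IsUnit h.det := by rw [hhd]; exact isUnit_one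
    have hcancel : ∀ P Q : Matrix (Fin 2) (Fin 2) F, P * h = Q * h → P = Q := fun P Q h' =>
      ((Matrix.isUnit_iff_isUnit_det h).2 hhu).mul_right_cancel h'
    have hmul : ∀ (P Q X Y T : Matrix (Fin 2) (Fin 2) F), T * X = P * T → T * Y = Q * T →
        T * (X * Y) = P * Q * T := fun P Q X Y T e1 e2 => by
      rw [← mul_assoc, e1, mul_assoc, e2, ← mul_assoc]
    have hinj : Function.Injective fun P : Matrix (Fin 2) (Fin 2) k => P.map k.subtype :=
      Matrix.map_injective k.subtype.injective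
    have hmap1 : (1 : Matrix (Fin 2) (Fin 2) k).map k.subtype = 1 :=
      Matrix.map_one _ (map_zero _) (map_one _)
    have hmapneg : ∀ P : Matrix (Fin 2) (Fin 2) k, (-P).map k.subtype = -(P.map k.subtype) := fun P => by
      ext i j; simp
    have hJJ : jMat F * jMat F = -1 := by
      ext i j; fin_cases i <;> fin_cases j <;> simp [jMat, Matrix.mul_apply, Fin.sum_univ_two]
    have hWW : wMat (a : F) (b : F) * wMat (a : F) (b : F) = -1 := by
      ext i j
      fin_cases i <;> fin_cases j <;> simp [wMat, Matrix.mul_apply, Fin.sum_univ_two] <;>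
        first | linear_combination habF | ring1
    have hWJ : wMat (a : F) (b : F) * jMat F = -(jMat F * wMat (a : F) (b : F)) := by
      ext i j; fin_cases i <;> fin_cases j <;> simp [jMat, wMat, Matrix.mul_apply, Fin.sum_univ_two]
    have hJ2 : J' * J' = -1 := hinj (hcancel _ _ (by
      show (J' * J').map k.subtype * h = (-1 : Matrix (Fin 2) (Fin 2) k).map k.subtype * h
      rw [hmapneg, hmap1, Matrix.map_mul, ← hmul _ _ _ _ _ hJ' hJ', hJJ, mul_neg, mul_one,
        neg_one_mul]))
    have hW2 : W' * W' = -1 := hinj (hcancel _ _ (by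
      show (W' * W').map k.subtype * h = (-1 : Matrix (Fin 2) (Fin 2) k).map k.subtype * h
      rw [hmapneg, hmap1, Matrix.map_mul, ← hmul _ _ _ _ _ hW' hW', hWW, mul_neg, mul_one,
        neg_one_mul]))
    have hanti : W' * J' = -(J' * W') := hinj (hcancel _ _ (by
      show (W' * J').map k.subtype * h = (-(J' * W')).map k.subtype * h
      rw [hmapneg, Matrix.map_mul, Matrix.map_mul, neg_mul, ← hmul _ _ _ _ _ hW' hJ',
        ← hmul _ _ _ _ _ hJ' hW', hWJ, mul_neg]))
    obtain ⟨g₀, hg₀J, hg₀W⟩ := exists_intertwiner h2k hJ2 hW2 hanti hab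
    set h₀ : GL (Fin 2) F := Matrix.GeneralLinearGroup.map k.subtype g₀
    set G₀ := (h₀ : Matrix (Fin 2) (Fin 2) F)
    set G₀i := ((h₀⁻¹ : GL (Fin 2) F) : Matrix (Fin 2) (Fin 2) F)
    have hG₀ : G₀ = (g₀ : Matrix (Fin 2) (Fin 2) k).map k.subtype := rfl
    have hh₀J : G₀ * jMat F = J'.map k.subtype * G₀ := by
      have := congrArg (fun P : Matrix (Fin 2) (Fin 2) k => P.map k.subtype) hg₀J
      simp only [Matrix.map_mul] at this
      rwa [show (jMat k).map k.subtype = jMat F by
        ext i j; fin_cases i <;> fin_cases j <;> simp [jMat], ← hG₀] at this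
    have hh₀W : G₀ * wMat (a : F) (b : F) = W'.map k.subtype * G₀ := by
      have := congrArg (fun P : Matrix (Fin 2) (Fin 2) k => P.map k.subtype) hg₀W
      simp only [Matrix.map_mul] at this
      rwa [show (wMat a b).map k.subtype = wMat (a : F) (b : F) by
        ext i j; fin_cases i <;> fin_cases j <;> simp [wMat], ← hG₀] at this
    have hcommX : ∀ X X' : Matrix (Fin 2) (Fin 2) F, h * X = X' * h → G₀ * X = X' * G₀ →
        (G₀i * h) * X = X * (G₀i * h) := fun X X' e1 e2 => by
      have e3 : G₀i * X' = X * G₀i := by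
        calc G₀i * X' = G₀i * (X' * G₀) * G₀i := by
              rw [mul_assoc, mul_assoc X', Units.mul_inv, mul_one]
          _ = X * G₀i := by rw [← e2, ← mul_assoc, Units.inv_mul, one_mul]
      rw [mul_assoc, e1, ← mul_assoc, e3, mul_assoc]
    obtain ⟨c, hc⟩ := scalar_of_comm h2 habF (hcommX _ _ hJ' hh₀J) (hcommX _ _ hW' hh₀W)
    have hhc : h = c • G₀ := by
      calc h = G₀ * (G₀i * h) := by rw [← mul_assoc, Units.mul_inv, one_mul]
        _ = c • G₀ := by rw [hc, mul_smul_comm, mul_one]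
    have hc0 : c ≠ 0 := fun e0 => by
      rw [hhc, e0, zero_smul, Matrix.det_zero] at hhd
      exact zero_ne_one hhd
    refine ⟨Forms.KleinPSL.pi F ⟨h, hhd⟩, ⟨⟨h, hhd⟩, rfl, c⁻¹, inv_ne_zero hc0, fun i j => ?_⟩, ?_⟩
    · show c⁻¹ * h i j ∈ k
      rw [hhc, Matrix.smul_apply, smul_eq_mul, inv_mul_cancel_left₀ hc0, hG₀, Matrix.map_apply]
      exact SetLike.coe_mem _
    · refine hgAut ⟨h, hhd⟩ s ?_
      show (g : Matrix (Fin 2) (Fin 2) F) * h = s.1 * g
      rw [hh, ← mul_assoc, ← mul_assoc, hg2, one_mul]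
  rcases hmax.le_iff.1 hML with hL | hL
  · -- the subfield group is proper
    obtain ⟨x, hx⟩ := hk
    have hmem : Forms.KleinPSL.pi F (unip x) ∈ subfieldGroup k := by
      have : AutPSL.Basic.gAut (n := 2) (F := F) g (Forms.KleinPSL.pi F (unip x)) ∈ L := hL ▸ Subgroup.mem_top _
      obtain ⟨y, hy, hye⟩ := this
      rwa [← (AutPSL.Basic.gAut (n := 2) (F := F) g).injective hye]
    obtain ⟨s, hs, c, hc, hent⟩ := hmem
    obtain ⟨ε, hε, hse⟩ := unip_eq_or hs
    have h00 := hent 0 0
    have h01 := hent 0 1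
    rw [hse] at h00 h01
    simp at h00 h01
    refine hx ?_
    have hne0 : c * ε ≠ 0 := mul_ne_zero hc (by rcases hε with rfl | rfl <;> simp)
    have : (c * (ε * x)) / (c * ε) ∈ k := k.div_mem h01 h00
    rwa [← mul_assoc, mul_div_cancel_left₀ _ hne0] at this
  · -- it holds an elementary subgroup of order `|k|`
    let f : Multiplicative k →* M :=
      { toFun := fun t => ⟨AutPSL.Basic.gAut (n := 2) (F := F) g (Forms.KleinPSL.pi F (unip ((Multiplicative.toAdd t : k) : F))),
          hL ▸ ⟨_, ⟨_, rfl, 1, one_ne_zero, fun i j => by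
            fin_cases i <;> fin_cases j <;> simp [unip, k.one_mem, k.zero_mem]⟩, rfl⟩⟩
        map_one' := Subtype.ext (by
          show AutPSL.Basic.gAut (n := 2) (F := F) g (Forms.KleinPSL.pi F (unip 0)) = 1
          rw [show unip (0 : F) = 1 from Subtype.ext (by ext i j; fin_cases i <;> fin_cases j <;> simp [unip]),
            map_one, map_one])
        map_mul' := fun s t => Subtype.ext (by
          show AutPSL.Basic.gAut (n := 2) (F := F) g (Forms.KleinPSL.pi F (unip _)) = _ * _
          rw [← map_mul, ← map_mul, unip_mul]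
          rfl) }
    have hf : Function.Injective f := fun s t h => by
      have h' := (AutPSL.Basic.gAut (n := 2) (F := F) g).injective (congrArg Subtype.val h)
      obtain ⟨ε, hε, hse⟩ := unip_eq_or h'
      have h00 := congrFun (congrFun hse 0) 0
      have h01 := congrFun (congrFun hse 0) 1
      simp [unip] at h00 h01
      rw [← h00, one_mul] at h01
      exact Multiplicative.toAdd.injective (Subtype.ext h01)
    have hd : Nat.card k ∣ 24 := by
      have := Subgroup.card_dvd_of_injective f hf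
      rwa [Nat.card_congr Multiplicative.toAdd, Nat.card_congr e.toEquiv, Nat.card_eq_fintype_card (α := Equiv.Perm (Fin 4)),
        Fintype.card_perm, Fintype.card_fin] at this
    have hko : Odd (Nat.card k) := by
      obtain ⟨p, hp⟩ := CharP.exists F
      refine hodd.of_dvd_nat ?_
      rw [← Nat.card_eq_fintype_card]
      exact k.toAddSubgroup.card_addSubgroup_dvd_card
    have := Nat.le_of_dvd (by norm_num) hd
    obtain ⟨j, hj⟩ := hko
    rw [hj] at hd h5 this
    have hj12 : j ≤ 12 := by omega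
    interval_cases j <;> omega

/-- A maximal `Sym(4)` in `PSL₂(q)` of order divisible by 16 needs `q` prime, `±1` modulo 16. -/
theorem prime_of_maximal_sym_four [Fintype F] (hodd : Odd (Fintype.card F))
    (h16 : 16 ∣ Nat.card (Matrix.ProjectiveSpecialLinearGroup (Fin 2) F))
    {M : Subgroup (Matrix.ProjectiveSpecialLinearGroup (Fin 2) F)} (hmax : IsCoatom M)
    (e : M ≃* Equiv.Perm (Fin 4)) :
    (Fintype.card F).Prime ∧ (Fintype.card F % 16 = 1 ∨ Fintype.card F % 16 = 15) := by
  have hmod : Fintype.card F % 16 = 1 ∨ Fintype.card F % 16 = 15 := by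
    have h := Classical.SmallIso.natCard_pslTwo F
    rw [Nat.gcd_eq_left (Nat.Odd.sub_odd hodd odd_one).two_dvd] at h
    rw [Classical.GL2.natCard_SL_two] at h
    have e1 : Fintype.card F ^ 2 - 1 = (Fintype.card F - 1) * (Fintype.card F + 1) := by
      rw [mul_comm, ← Nat.sq_sub_sq, one_pow]
    have h32 : 32 ∣ Fintype.card F * (Fintype.card F ^ 2 - 1) := by
      rw [e1, ← h]
      exact Nat.mul_dvd_mul_left 2 h16
    have hco : Nat.Coprime 32 (Fintype.card F) := (Nat.coprime_two_left.2 hodd).pow_left 5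
    have h2 := hco.dvd_of_dvd_mul_left h32
    have h1 : Fintype.card F ^ 2 % 32 = 1 := by
      obtain ⟨c, hc⟩ := h2
      have : 1 ≤ Fintype.card F ^ 2 := Nat.one_le_pow _ _ Fintype.card_pos
      rw [show Fintype.card F ^ 2 = 32 * c + 1 by omega]
      omega
    rw [Nat.pow_mod] at h1
    have hlt := Nat.mod_lt (Fintype.card F) (show 0 < 32 by norm_num)
    rcases (show Fintype.card F % 32 = 1 ∨ Fintype.card F % 32 = 15 ∨ Fintype.card F % 32 = 17 ∨
      Fintype.card F % 32 = 31 by interval_cases h : Fintype.card F % 32 <;> simp_all) with h | h | h | h <;>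
      omega
  refine ⟨?_, hmod⟩
  obtain ⟨p, hp⟩ := CharP.exists F
  haveI hpf : Fact p.Prime := ⟨CharP.char_is_prime F p⟩
  obtain ⟨n, hpp, hn⟩ := FiniteField.card F p
  by_contra hnp
  have hn2 : 2 ≤ (n : ℕ) := by
    by_contra h
    have : (n : ℕ) = 1 := by have := n.pos; omega
    rw [hn, this, pow_one] at hnp
    exact hnp hpp
  obtain ⟨d, m, hd, hm, hdm, hd5⟩ : ∃ d m : ℕ, d ≠ 0 ∧ 2 ≤ m ∧ d * m = n ∧ 5 ≤ p ^ d := by
    by_cases h5 : 5 ≤ p
    · exact ⟨1, n, one_ne_zero, hn2, one_mul _, by simpa using h5⟩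
    have hp3 : p = 3 := by
      have := hpp.two_le
      interval_cases p
      · exfalso
        rw [hn] at hodd
        exact Nat.not_even_iff_odd.2 hodd (Nat.even_pow.2 ⟨even_two, n.pos.ne'⟩)
      · rfl
      · exact absurd hpp (by norm_num)
    subst hp3
    have h4 : (n : ℕ) % 4 = 0 := by
      rw [hn, ← Nat.div_add_mod (n : ℕ) 4, pow_add, pow_mul, Nat.mul_mod, Nat.pow_mod] at hmod
      have := Nat.mod_lt (n : ℕ) (show 0 < 4 by norm_num)
      interval_cases h : (n : ℕ) % 4 <;> simp_all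
    exact ⟨2, n / 2, two_ne_zero, by omega, by omega, by norm_num⟩
  haveI := Fintype.ofFinite (GaloisField p d)
  obtain ⟨ι⟩ := Forms.PslMap.nonempty_ringHom (K := GaloisField p d) (F := F) m (by
    rw [← Nat.card_eq_fintype_card, ← Nat.card_eq_fintype_card, GaloisField.card p d hd,
      Nat.card_eq_fintype_card, hn, ← pow_mul, hdm])
  have hcard : Nat.card ι.fieldRange = p ^ d := by
    rw [← GaloisField.card p d hd]
    exact (Nat.card_congr (Equiv.ofInjective _ ι.injective)).symm
  refine not_isCoatom_sym_four hodd ι.fieldRange (hcard ▸ hd5) ?_ e hmax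
  by_contra h
  push Not at h
  have : Nat.card ι.fieldRange = Fintype.card F := by
    rw [← Nat.card_eq_fintype_card]
    exact Nat.card_congr (Equiv.subtypeUnivEquiv h)
  rw [hcard, hn] at this
  have := Nat.pow_right_injective hpp.two_le this
  nlinarith

end Cfsg.Agent.Perm.CubicInsolublePSLMax
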