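import Cfsg.Agent.S4039
import Cfsg.Agent.S3331
import Cfsg.Agent.Lib.SmallSimple.Order168
import Cfsg.Agent.Lib.PSLOrderSpectrum.Main
import Cfsg.Agent.Lib.Classical.Linear

/-!
# A maximal subgroup of order three or isomorphic to `Sym(3)`

Group-theoretic form of the two small cases of the primitive groups with a suborbit of length three.
-/

set_option autoImplicit false
set_option linter.style.haveILetI false
set_option linter.unusedSectionVars false

namespace Cfsg.Agent.Perm.CubicInsolubleSmall

open Subgroup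

/-- An insoluble group has no maximal subgroup of order three. -/
theorem false_of_order_three {G : Type*} [Group G] [Finite G] (hsol : ¬ Group.IsSolvable G)
    {H : Subgroup G} (hmax : IsCoatom H) (hH : Nat.card H = 3) : False := by
  haveI : Fact (Nat.Prime 3) := ⟨Nat.prime_three⟩
  haveI hc : IsCyclic H := isCyclic_of_prime_card hH
  haveI hm : IsMulCommutative H := hc.isMulCommutative
  haveI hn : Group.IsNilpotent H := (IsPGroup.of_card (n := 1) (by rw [hH, pow_one])).isNilpotent
  exact hsol (S4039.result H hmax hn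
    ((show Group.nilpotencyClass H ≤ 1 from
      letI : CommGroup H := { (inferInstance : Group H) with mul_comm := hm.is_comm.comm }
      CommGroup.nilpotencyClass_le_one).trans one_le_two))

theorem sym_three_facts :
    (∀ p q : Equiv.Perm (Fin 3), p ^ 3 = 1 → p ≠ 1 → q * p = p * q → q = 1 ∨ q = p ∨ q = p * p) ∧
      (∀ p q : Equiv.Perm (Fin 3), p ^ 3 = 1 → p ≠ 1 → q * p * q⁻¹ = p ∨ q * p * q⁻¹ = p * p) ∧
      Fintype.card (Equiv.Perm (Fin 3)) = 6 := by
  refine ⟨by decide, by decide, by decide⟩

/-- A preimage of an involution of `PSL₂(7)`. -/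
def matA : Matrix.SpecialLinearGroup (Fin 2) (ZMod 7) := ⟨!![0, 1; -1, 0], by decide⟩

/-- A second one, commuting with it modulo scalars. -/
def matB : Matrix.SpecialLinearGroup (Fin 2) (ZMod 7) := ⟨!![2, 3; 3, -2], by decide⟩

theorem mat_facts :
    (¬ ∃ r : ZMod 7, Matrix.scalar (Fin 2) r = matA.1) ∧
    (¬ ∃ r : ZMod 7, Matrix.scalar (Fin 2) r = matB.1) ∧
    (¬ ∃ r : ZMod 7, Matrix.scalar (Fin 2) r = (matA * matB).1) ∧
    Matrix.scalar (Fin 2) (-1 : ZMod 7) = (matA * matA).1 ∧
    Matrix.scalar (Fin 2) (-1 : ZMod 7) = (matB * matB).1 ∧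
    Matrix.scalar (Fin 2) (-1 : ZMod 7) = (matA * matB * (matB * matA)⁻¹).1 := by
  decide +kernel

/-- In a simple group of order 168 the normaliser of a Sylow 3-subgroup is not maximal. -/
theorem exists_index_seven {G : Type*} [Group G] [Finite G]
    (e : G ≃* Matrix.ProjectiveSpecialLinearGroup (Fin 2) (ZMod 7)) :
    ∃ K : Subgroup G, K.index = 7 := by
  haveI : Fact (Nat.Prime 7) := ⟨by norm_num⟩
  haveI : Fact (Nat.Prime 2) := ⟨Nat.prime_two⟩
  haveI : IsSimpleGroup (Matrix.ProjectiveSpecialLinearGroup (Fin 2) (ZMod 7)) :=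
    Classical.Linear.isSimpleGroup_PSL_fin le_rfl fun _ => by rw [ZMod.card]; norm_num
  haveI : IsSimpleGroup G := e.isSimpleGroup
  have hG : Nat.card G = 168 := by
    rw [Nat.card_congr e.toEquiv]
    have h := PSLOrderSpectrum.card_psl_two (F := ZMod 7)
    rw [ZMod.card, show Nat.gcd 2 (7 - 1) = 2 from rfl] at h
    omega
  -- two commuting involutions
  obtain ⟨f1, f2, f3, f4, f5, f6⟩ := mat_facts
  let π : Matrix.SpecialLinearGroup (Fin 2) (ZMod 7) →*
      Matrix.ProjectiveSpecialLinearGroup (Fin 2) (ZMod 7) :=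
    QuotientGroup.mk' (Subgroup.center _)
  have hπ : ∀ x, π x = 1 ↔ ∃ r : ZMod 7, Matrix.scalar (Fin 2) r = x.1 := fun x =>
    (QuotientGroup.eq_one_iff x).trans
      ⟨fun h => ((Matrix.SpecialLinearGroup.mem_center_iff).1 h).imp fun _ h => h.2,
        fun ⟨r, hr⟩ => (Matrix.SpecialLinearGroup.mem_center_iff).2
          ⟨r, by
            have hd : x.1.det = 1 := x.2
            rw [← hr] at hd
            simpa using hd, hr⟩⟩
  set s := e.symm (π matA)
  set v := e.symm (π matB)
  have key : ∀ x, (¬ ∃ r : ZMod 7, Matrix.scalar (Fin 2) r = x.1) → e.symm (π x) ≠ 1 := fun x hx h1 =>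
    hx ((hπ x).1 ((EmbeddingLike.map_eq_one_iff (f := e.symm)).1 h1))
  have key' : ∀ x, (∃ r : ZMod 7, Matrix.scalar (Fin 2) r = x.1) → e.symm (π x) = 1 := fun x hx => by
    rw [(hπ x).2 hx, map_one]
  have hs1 : s ≠ 1 := key matA f1
  have hv1 : v ≠ 1 := key matB f2
  have hss : s * s = 1 := by
    have := key' (matA * matA) ⟨-1, f4⟩
    rwa [map_mul, map_mul] at this
  have hvv : v * v = 1 := by
    have := key' (matB * matB) ⟨-1, f5⟩
    rwa [map_mul, map_mul] at this
  have hsv : s ≠ v := fun h => by
    refine key (matA * matB) f3 ?_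
    rw [map_mul, map_mul]
    show s * v = 1
    rw [← h, hss]
  have hcomm : s * v = v * s := by
    have h := key' (matA * matB * (matB * matA)⁻¹) ⟨-1, f6⟩
    simp only [map_mul, map_inv] at h
    exact mul_inv_eq_one.1 h
  let V : Subgroup G :=
    { carrier := {1, s, v, s * v}
      one_mem' := Or.inl rfl
      mul_mem' := by
        have hvs : v * s = s * v := hcomm.symm
        have h1 : s * (s * v) = v := by rw [← mul_assoc, hss, one_mul]
        have h2 : s * v * s = v := by rw [mul_assoc, hvs, h1]
        have h3 : v * (s * v) = s := by rw [← mul_assoc, hvs, mul_assoc, hvv, mul_one]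
        have h4 : s * v * v = s := by rw [mul_assoc, hvv, mul_one]
        have h5 : s * v * (s * v) = 1 := by rw [mul_assoc, h3, hss]
        rintro x y (rfl | rfl | rfl | rfl) (rfl | rfl | rfl | rfl) <;>
          simp [hss, hvv, hvs, h1, h2, h3, h4, h5]
      inv_mem' := by
        have hsi : s⁻¹ = s := inv_eq_of_mul_eq_one_left hss
        have hvi : v⁻¹ = v := inv_eq_of_mul_eq_one_left hvv
        rintro x (rfl | rfl | rfl | rfl) <;> simp [hsi, hvi, hcomm] }
  have hos : orderOf s = 2 := orderOf_eq_prime (by rw [sq, hss]) hs1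
  have hov : orderOf v = 2 := orderOf_eq_prime (by rw [sq, hvv]) hv1
  have hsv1 : s * v ≠ 1 := fun h => hsv (by
    rw [← inv_eq_of_mul_eq_one_left hvv, ← eq_inv_of_mul_eq_one_left h])
  have hV : Nat.card V = 4 := by
    classical
    have e4 : (V : Set G) = (({1, s, v, s * v} : Finset G) : Set G) := by
      simp only [Finset.coe_insert, Finset.coe_singleton]
      rfl
    show Nat.card (V : Set G) = 4
    rw [e4, Nat.card_coe_set_eq, Set.ncard_coe_finset]
    rw [Finset.card_insert_of_notMem (by simp [Ne.symm hs1, Ne.symm hv1, Ne.symm hsv1]),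
      Finset.card_insert_of_notMem (by
        simp only [Finset.mem_insert, Finset.mem_singleton, not_or]
        exact ⟨hsv, fun h => hv1 (left_eq_mul.1 h)⟩),
      Finset.card_insert_of_notMem (by
        simp only [Finset.mem_singleton]
        exact fun h => hs1 (right_eq_mul.1 h)),
      Finset.card_singleton]
  -- its normaliser
  have hnorm : ∀ w ∈ V, orderOf w = 2 →
      centralizer ({w} : Set G) ≤ normalizer (V : Set G) := by
    intro w hw ho
    have hVc : V ≤ centralizer ({w} : Set G) := fun x hx => mem_centralizer_singleton_iff.2 (by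
      have hvs : v * s = s * v := hcomm.symm
      have h1 : s * (s * v) = v := by rw [← mul_assoc, hss, one_mul]
      have h2 : s * v * s = v := by rw [mul_assoc, hvs, h1]
      have h3 : v * (s * v) = s := by rw [← mul_assoc, hvs, mul_assoc, hvv, mul_one]
      have h4 : s * v * v = s := by rw [mul_assoc, hvv, mul_one]
      rcases hx with rfl | rfl | rfl | rfl <;> rcases hw with rfl | rfl | rfl | rfl <;>
        simp [hvs, h1, h2, h3, h4])
    have hidx : (V.subgroupOf (centralizer ({w} : Set G))).index = 2 := by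
      have h := card_mul_index (V.subgroupOf (centralizer ({w} : Set G)))
      rw [Nat.card_congr (subgroupOfEquivOfLe hVc).toEquiv, hV,
        (SmallSimple.Order168.cent_involution hG ho).1] at h
      omega
    intro g hg
    have hn := normal_of_index_eq_two hidx
    refine mem_normalizer_iff.2 fun x => ⟨fun hx => ?_, fun hx => ?_⟩
    · exact hn.conj_mem ⟨x, hVc hx⟩ hx ⟨g, hg⟩
    · have hxC : x ∈ centralizer ({w} : Set G) := by
        have := mul_mem (mul_mem (inv_mem hg) (hVc hx)) hg
        rwa [show g⁻¹ * (g * x * g⁻¹) * g = x by group] at this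
      have h := hn.conj_mem ⟨g * x * g⁻¹, hVc hx⟩ hx ⟨g⁻¹, inv_mem hg⟩
      have h' : g⁻¹ * (g * x * g⁻¹) * g⁻¹⁻¹ ∈ V := h
      rwa [show g⁻¹ * (g * x * g⁻¹) * g⁻¹⁻¹ = x by group] at h'
  have hCs := hnorm s (Or.inr (Or.inl rfl)) hos
  have hCv := hnorm v (Or.inr (Or.inr (Or.inl rfl))) hov
  have hne : ¬ centralizer ({v} : Set G) ≤ centralizer ({s} : Set G) := by
    intro hle
    have heq : centralizer ({v} : Set G) = centralizer ({s} : Set G) := eq_of_le_of_card_ge hle
      (by rw [(SmallSimple.Order168.cent_involution hG hos).1,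
        (SmallSimple.Order168.cent_involution hG hov).1])
    have hp : IsPGroup 2 (centralizer ({s} : Set G)) :=
      IsPGroup.of_card (n := 3) (SmallSimple.Order168.cent_involution hG hos).1
    obtain ⟨T, hT⟩ := hp.exists_le_sylow
    have hTeq : centralizer ({s} : Set G) = (T : Subgroup G) := eq_of_le_of_card_ge hT
      (by rw [SmallSimple.Order168.card_sylow2 hG T,
        (SmallSimple.Order168.cent_involution hG hos).1])
    exact hsv (SmallSimple.Order168.central_unique hG T
      (hT (mem_centralizer_singleton_iff.2 rfl)) hs1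
      (hT (heq ▸ mem_centralizer_singleton_iff.2 rfl)) hv1
      (fun t ht => mem_centralizer_singleton_iff.1 (hTeq ▸ ht))
      (fun t ht => mem_centralizer_singleton_iff.1 (show t ∈ centralizer ({v} : Set G) by
        rw [heq, hTeq]; exact ht)))
  refine ⟨normalizer (V : Set G), ?_⟩
  have h8 := card_dvd_of_le hCs
  rw [(SmallSimple.Order168.cent_involution hG hos).1] at h8
  have hd := card_subgroup_dvd_card (normalizer (V : Set G))
  have hgt : 8 < Nat.card (normalizer (V : Set G)) := by
    by_contra hle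
    push Not at hle
    exact hne (hCv.trans (eq_of_le_of_card_ge hCs
      (by rw [(SmallSimple.Order168.cent_involution hG hos).1]; omega)).ge)
  have hnab := SmallSimple.Order168.nonab hG
  have hlt : normalizer (V : Set G) ≠ ⊤ := by
    intro htop
    rcases (normalizer_eq_top_iff.1 htop).eq_bot_or_eq_top with h | h
    · rw [h] at hV; simp at hV
    · rw [h, Nat.card_congr Subgroup.topEquiv.toEquiv, hG] at hV; norm_num at hV
  have hi := card_mul_index (normalizer (V : Set G))
  have h6 : 2 * Nat.card G ∣ (normalizer (V : Set G)).index.factorial :=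
    SmallSimple.Basic.two_mul_card_dvd_factorial hnab _ hlt
  rw [hG] at hd hi h6
  obtain ⟨c, hc⟩ := h8
  rw [hc] at hi hgt
  have hprod : c * (normalizer (V : Set G)).index = 21 := by nlinarith [hi]
  have hcd : c ∣ 21 := ⟨_, hprod.symm⟩
  have hc21 := Nat.le_of_dvd (by norm_num) hcd
  have hc3 : c = 3 ∨ c = 7 ∨ c = 21 := by
    interval_cases c <;> omega
  rcases hc3 with rfl | rfl | rfl
  · omega
  · exfalso
    rw [show (normalizer (V : Set G)).index = 3 by omega] at h6
    norm_num [Nat.factorial] at h6
  · exfalso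
    rw [show (normalizer (V : Set G)).index = 1 by omega] at h6
    norm_num [Nat.factorial] at h6

/-- An insoluble group with a core-free maximal subgroup `Sym(3)` is `Alt(5)`. -/
theorem alternating_of_sym_three {G : Type*} [Group G] [Finite G] (hsol : ¬ Group.IsSolvable G)
    {H : Subgroup G} (hmax : IsCoatom H) (hcore : H.normalCore = ⊥)
    (e : H ≃* Equiv.Perm (Fin 3)) : Nonempty (G ≃* alternatingGroup (Fin 5)) := by
  classical
  haveI : Fact (Nat.Prime 3) := ⟨Nat.prime_three⟩
  have h6 : Nat.card H = 6 := by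
    rw [Nat.card_congr e.toEquiv, Nat.card_eq_fintype_card, sym_three_facts.2.2]
  obtain ⟨x, hx⟩ := exists_prime_orderOf_dvd_card' (G := H) 3 (by rw [h6]; norm_num)
  have hp3 : e x ^ 3 = 1 := by rw [← map_pow, show x ^ 3 = 1 from hx ▸ pow_orderOf_eq_one x, map_one]
  have hp1 : e x ≠ 1 := fun h => by
    rw [(EmbeddingLike.map_eq_one_iff (f := e)).1 h, orderOf_one] at hx
    norm_num at hx
  set X := zpowers (x : G) with hXdef
  have hX : Nat.card X = 3 := by rw [hXdef, Nat.card_zpowers, orderOf_coe, hx]
  have hHN : H ≤ normalizer (X : Set G) := by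
    intro g hg
    have hin : ∀ g ∈ H, g * (x : G) * g⁻¹ ∈ X := by
      intro g hg
      rcases sym_three_facts.2.1 (e x) (e ⟨g, hg⟩) hp3 hp1 with h | h
      · rw [show g * (x : G) * g⁻¹ = ((⟨g, hg⟩ * x * ⟨g, hg⟩⁻¹ : H) : G) from rfl,
          e.injective (show e (⟨g, hg⟩ * x * ⟨g, hg⟩⁻¹) = e x by
            rw [map_mul, map_mul, map_inv]; exact h)]
        exact mem_zpowers _
      · rw [show g * (x : G) * g⁻¹ = ((⟨g, hg⟩ * x * ⟨g, hg⟩⁻¹ : H) : G) from rfl,
          e.injective (show e (⟨g, hg⟩ * x * ⟨g, hg⟩⁻¹) = e (x * x) by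
            rw [map_mul, map_mul, map_inv, map_mul]; exact h), Subgroup.coe_mul]
        exact mul_mem (mem_zpowers _) (mem_zpowers _)
    have hle : ∀ g ∈ H, ∀ y ∈ X, g * y * g⁻¹ ∈ X := by
      intro g hg y hy
      obtain ⟨k, rfl⟩ := mem_zpowers_iff.1 hy
      rw [← conj_zpow]
      exact zpow_mem (hin g hg) k
    refine mem_normalizer_iff.2 fun y => ⟨hle g hg y, fun hy => ?_⟩
    have := hle g⁻¹ (inv_mem hg) _ hy
    rwa [show g⁻¹ * (g * y * g⁻¹) * g⁻¹⁻¹ = y by group] at this
  have hNX : normalizer (X : Set G) = H := by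
    refine (hmax.le_iff.1 hHN).resolve_left fun htop => ?_
    haveI := normalizer_eq_top_iff.1 htop
    have hle : X ≤ H.normalCore := normal_le_normalCore.2 (zpowers_le.2 x.2)
    rw [hcore, le_bot_iff] at hle
    rw [hle] at hX
    simp at hX
  have hCX : centralizer (X : Set G) = X := by
    refine le_antisymm (fun g hg => ?_) fun y hy => mem_centralizer_iff.2 fun z hz =>
      setLike_mul_comm hz hy
    have hgH : g ∈ H := hNX ▸ centralizer_le_normalizer _ hg
    have hgx : e ⟨g, hgH⟩ * e x = e x * e ⟨g, hgH⟩ := by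
      rw [← map_mul, ← map_mul]
      exact congrArg e (Subtype.ext (mem_centralizer_iff.1 hg x (mem_zpowers _)).symm)
    rcases sym_three_facts.1 (e x) (e ⟨g, hgH⟩) hp3 hp1 hgx with h | h | h
    · rw [show g = 1 from congrArg Subtype.val ((EmbeddingLike.map_eq_one_iff (f := e)).1 h)]
      exact one_mem _
    · rw [show g = x from congrArg Subtype.val (e.injective h)]
      exact mem_zpowers _
    · rw [show g = x * x from congrArg Subtype.val (e.injective (h.trans (map_mul e x x).symm))]
      exact mul_mem (mem_zpowers _) (mem_zpowers _)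
  rcases S3331.result X hX hCX with ⟨N, hN, hnil, -, hq⟩ | ⟨N, hN, -, -, ⟨f⟩⟩ | ⟨⟨f⟩⟩
  · exfalso
    haveI : Group.IsSolvable N := by haveI := hnil; infer_instance
    refine hsol ?_
    have hqs : Group.IsSolvable (G ⧸ N) := by
      rcases hq with h | ⟨⟨f⟩⟩
      · haveI : IsCyclic (G ⧸ N) := isCyclic_of_prime_card h
        haveI := IsCyclic.isMulCommutative (α := G ⧸ N)
        infer_instance
      · haveI : IsCyclic (alternatingGroup (Fin 3)) := isCyclic_of_prime_card (p := 3) (by
          rw [nat_card_alternatingGroup, Nat.card_eq_fintype_card, Fintype.card_fin]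
          norm_num [Nat.factorial])
        haveI := IsCyclic.isMulCommutative (α := alternatingGroup (Fin 3))
        haveI : Group.IsSolvable (Equiv.Perm (Fin 3)) :=
          Group.isSolvable_of_ker_le_range (alternatingGroup (Fin 3)).subtype Equiv.Perm.sign
            (by rw [Subgroup.range_subtype]; exact le_rfl)
        exact Group.isSolvable_of_isSolvable_injective (f := f.toMonoidHom) f.injective
    exact (Group.isSolvable_iff_subgroup_quotient N).2 ⟨inferInstance, hqs⟩
  · have hNbot : N = ⊥ := by
      by_contra hne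
      have hNH : ¬ N ≤ H := fun h => hne (le_bot_iff.1 (hcore ▸ normal_le_normalCore.2 h))
      have htop : H ⊔ N = ⊤ := (hmax.le_iff.1 le_sup_left).resolve_right fun h =>
        hNH (h ▸ le_sup_right)
      have hsurj : Function.Surjective ((QuotientGroup.mk' N).comp H.subtype) := by
        intro q
        obtain ⟨g, rfl⟩ := QuotientGroup.mk'_surjective N q
        have hg : g ∈ ((H ⊔ N : Subgroup G) : Set G) := by rw [htop]; trivial
        rw [mul_normal H N] at hg
        obtain ⟨h, hh, m, hm, rfl⟩ := hg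
        exact ⟨⟨h, hh⟩, by
          show QuotientGroup.mk' N h = QuotientGroup.mk' N (h * m)
          rw [map_mul, show QuotientGroup.mk' N m = 1 from (QuotientGroup.eq_one_iff m).2 hm, mul_one]⟩
      have hle := Nat.card_le_card_of_surjective _ hsurj
      rw [Nat.card_congr f.toEquiv, h6, nat_card_alternatingGroup, Nat.card_eq_fintype_card,
        Fintype.card_fin] at hle
      norm_num [Nat.factorial] at hle
    exact ⟨((QuotientGroup.quotientMulEquivOfEq hNbot).trans QuotientGroup.quotientBot).symm.trans f⟩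
  · exfalso
    obtain ⟨K, hK⟩ := exists_index_seven f
    have hG : Nat.card G = 168 := by
      haveI : Fact (Nat.Prime 7) := ⟨by norm_num⟩
      rw [Nat.card_congr f.toEquiv]
      have h := PSLOrderSpectrum.card_psl_two (F := ZMod 7)
      rw [ZMod.card, show Nat.gcd 2 (7 - 1) = 2 from rfl] at h
      omega
    have hKc : Nat.card K = 24 := by
      have h := card_mul_index K
      rw [hK, hG] at h
      omega
    -- conjugate `X` into `K`
    obtain ⟨y, hy⟩ := exists_prime_orderOf_dvd_card' (G := K) 3 (by rw [hKc]; norm_num)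
    have h3G : ∀ P : Sylow 3 G, Nat.card (P : Subgroup G) = 3 := fun P =>
      SmallSimple.Basic.card_sylow_eq_pow (a := 1) (m := 56) (by rw [hG]; norm_num) (by norm_num) P
        |>.trans (pow_one 3)
    obtain ⟨g, hg⟩ := MulAction.exists_smul_eq G
      (Sylow.ofCard (zpowers (y : G)) (by
        rw [Nat.card_zpowers, orderOf_coe, hy, ← Sylow.card_eq_multiplicity (default : Sylow 3 G), h3G]))
      (Sylow.ofCard X (by rw [hX, ← Sylow.card_eq_multiplicity (default : Sylow 3 G), h3G]))
    set K' := K.map (MulAut.conj g).toMonoidHom with hK'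
    have hXK : X ≤ K' := by
      have h1 : X = (zpowers (y : G)).map (MulAut.conj g).toMonoidHom :=
        (congrArg (fun P : Sylow 3 G => (P : Subgroup G)) hg).symm
      rw [h1]
      exact map_mono (zpowers_le.2 y.2)
    have hK'c : Nat.card K' = 24 := by
      rw [hK', card_map_of_injective (f := (MulAut.conj g).toMonoidHom) (MulAut.conj g).injective,
        hKc]
    -- `N(X)` fixes the only point of `G/K'` fixed by `X`
    have hfix : ∀ q : G ⧸ K', (∀ u ∈ X, u • q = q) → ∃ n ∈ H, n • ((1 : G) : G ⧸ K') = q := by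
      intro q hq
      obtain ⟨c, rfl⟩ := QuotientGroup.mk_surjective q
      have hle : X.map (MulAut.conj c⁻¹).toMonoidHom ≤ K' := by
        rintro _ ⟨u, hu, rfl⟩
        have h1 := hq u hu
        rw [MulAction.Quotient.smul_mk, QuotientGroup.eq, smul_eq_mul, _root_.mul_inv_rev] at h1
        have h2 := inv_mem h1
        rw [show (c⁻¹ * u⁻¹ * c)⁻¹ = c⁻¹ * u * c by group] at h2
        simpa [MulAut.conj_apply, mul_assoc] using h2
      have hc : ∀ Y : Subgroup G, Y ≤ K' → Nat.card Y = 3 → Nat.card (Y.subgroupOf K') =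
          3 ^ (Nat.card K').factorization 3 := fun Y hY hYc => by
        rw [Nat.card_congr (subgroupOfEquivOfLe hY).toEquiv, hYc, hK'c]
        have : (24 : ℕ).factorization 3 = 1 := by decide +kernel
        rw [this]; rfl
      have hXc' : Nat.card (X.map (MulAut.conj c⁻¹).toMonoidHom) = 3 := by
        rw [card_map_of_injective (f := (MulAut.conj c⁻¹).toMonoidHom) (MulAut.conj c⁻¹).injective, hX]
      obtain ⟨k, hk⟩ := MulAction.exists_smul_eq K' (Sylow.ofCard _ (hc _ hle hXc'))
        (Sylow.ofCard _ (hc _ hXK hX))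
      -- `k c⁻¹` normalises `X`
      refine ⟨c * (k : G)⁻¹, hNX ▸ ?_, ?_⟩
      · have hn : (k : G) * c⁻¹ ∈ normalizer (X : Set G) := by
          have hsub : ∀ u ∈ X, (k : G) * c⁻¹ * u * ((k : G) * c⁻¹)⁻¹ ∈ X := by
            intro u hu
            have hm : MulAut.conj c⁻¹ u ∈ X.map (MulAut.conj c⁻¹).toMonoidHom := ⟨u, hu, rfl⟩
            have h1 := congrArg (fun P : Sylow 3 K' => (P : Subgroup K')) hk
            have h2 : (k * ⟨_, hle hm⟩ * k⁻¹ : K') ∈ X.subgroupOf K' := by
              rw [show X.subgroupOf K' = _ from h1.symm]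
              exact smul_mem_pointwise_smul _ (MulAut.conj k) _ hm
            have h3 : (k : G) * (MulAut.conj c⁻¹ u) * (k : G)⁻¹ ∈ X := h2
            rwa [MulAut.conj_apply, show (k : G) * (c⁻¹ * u * c⁻¹⁻¹) * (k : G)⁻¹ =
              (k : G) * c⁻¹ * u * ((k : G) * c⁻¹)⁻¹ by group] at h3
          have hmap : X.map (MulAut.conj ((k : G) * c⁻¹)).toMonoidHom = X :=
            eq_of_le_of_card_ge (by rintro _ ⟨u, hu, rfl⟩; exact hsub u hu)
              (by rw [card_map_of_injective (f := (MulAut.conj ((k : G) * c⁻¹)).toMonoidHom)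
                (MulAut.conj _).injective])
          refine mem_normalizer_iff.2 fun u => ⟨hsub u, fun hu => ?_⟩
          replace hu : (k : G) * c⁻¹ * u * ((k : G) * c⁻¹)⁻¹ ∈
              X.map (MulAut.conj ((k : G) * c⁻¹)).toMonoidHom := hmap.symm ▸ hu
          obtain ⟨w, hw, hwu⟩ := hu
          rwa [← (MulAut.conj ((k : G) * c⁻¹)).injective hwu]
        have := inv_mem hn
        rwa [_root_.mul_inv_rev, inv_inv] at this
      · rw [MulAction.Quotient.smul_mk, QuotientGroup.eq, smul_eq_mul, mul_one, _root_.mul_inv_rev,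
          inv_inv, inv_mul_cancel_right]
        exact k.2
    -- counting
    let F := {q : G ⧸ K' // ∀ u ∈ X, u • q = q}
    haveI : Fact (Nat.Prime 3) := ⟨Nat.prime_three⟩
    have hmod : Nat.card (G ⧸ K') ≡ Nat.card F [MOD 3] := by
      have h := (IsPGroup.of_card (n := 1) (by rw [hX, pow_one]) : IsPGroup 3 X).card_modEq_card_fixedPoints
        (α := G ⧸ K')
      refine h.trans ?_
      rw [show Nat.card F = Nat.card (MulAction.fixedPoints X (G ⧸ K')) from Nat.card_congr
        (Equiv.subtypeEquivRight fun q => ⟨fun hq u => hq u u.2, fun hq u hu => hq ⟨u, hu⟩⟩)]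
    have h7 : Nat.card (G ⧸ K') = 7 := by
      have h := card_mul_index K'
      rw [hK'c, hG] at h
      rw [← index_eq_card]
      omega
    have hHfix : ∀ n ∈ H, ∀ u ∈ X, u • (n • ((1 : G) : G ⧸ K')) = n • ((1 : G) : G ⧸ K') := by
      intro n hn u hu
      have hn' : n ∈ normalizer (X : Set G) := hNX.symm ▸ hn
      have h1 : n⁻¹ * u * n ∈ K' := hXK (by
        have := (mem_normalizer_iff.1 (inv_mem hn') u).1 hu
        rwa [inv_inv] at this)
      rw [smul_smul, MulAction.Quotient.smul_mk, MulAction.Quotient.smul_mk, QuotientGroup.eq]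
      have h2 := inv_mem h1
      simpa [smul_eq_mul, mul_assoc] using h2
    let φ : H → F := fun n => ⟨(n : G) • ((1 : G) : G ⧸ K'), hHfix n n.2⟩
    have hd : Nat.card F ∣ 6 := by
      have horb : Nat.card F = Nat.card (MulAction.orbit H ((1 : G) : G ⧸ K')) :=
        Nat.card_congr (Equiv.subtypeEquivRight fun q => ⟨fun hq => by
          obtain ⟨n, hn, hnq⟩ := hfix q hq
          exact ⟨⟨n, hn⟩, hnq⟩, fun hq => by
          obtain ⟨n, rfl⟩ := hq
          exact hHfix n n.2⟩)
      rw [horb, Nat.card_coe_set_eq, ← MulAction.index_stabilizer, ← h6]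
      exact index_dvd_card _
    have hle7 : Nat.card F ≤ 7 := h7 ▸ Nat.card_le_card_of_injective _ Subtype.val_injective
    have hF1 : Nat.card F = 1 := by
      have hm : Nat.card F % 3 = 1 := by
        have := hmod.symm
        rw [h7] at this
        exact this
      interval_cases (Nat.card F) <;> omega
    have hHK : H ≤ K' := by
      intro n hn
      have : Subsingleton F := (Nat.card_eq_one_iff_unique.1 hF1).1
      have h1 := congrArg Subtype.val (Subsingleton.elim (φ ⟨n, hn⟩) (φ 1))
      simp only [φ, OneMemClass.coe_one, one_smul] at h1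
      rw [MulAction.Quotient.smul_mk, QuotientGroup.eq, smul_eq_mul, mul_one, mul_one] at h1
      exact inv_mem_iff.1 h1
    rcases hmax.le_iff.1 hHK with h | h
    · rw [h, Nat.card_congr Subgroup.topEquiv.toEquiv, hG] at hK'c
      norm_num at hK'c
    · rw [h, h6] at hK'c
      norm_num at hK'c

end Cfsg.Agent.Perm.CubicInsolubleSmall
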