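import Cfsg.Agent.Lib.Perm.CubicInsoluble.SymFour

/-!
# Facts about `Sym(4) × Z₂` and the centralizer of a double transposition in it
-/

set_option autoImplicit false
set_option maxRecDepth 10000
set_option synthInstance.maxSize 4000

namespace Cfsg.Agent.Perm.CubicInsoluble.SymTimesTwo

open Equiv Equiv.Perm SymFour

/-- The group. -/
abbrev P4 := Perm (Fin 4) × Multiplicative (ZMod 2)

/-- The central involution. -/
def z : P4 := (1, Multiplicative.ofAdd 1)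

/-- A double transposition. -/
def v : P4 := (z0, 1)

/-- A second one. -/
def w : P4 := (w0, 1)

/-- The centralizer of `v`. -/
def InM (p : P4) : Prop := p.1 * z0 = z0 * p.1

/-- The even elements outside the factor `Z₂`, the odd ones with second part `ε`. -/
def InD (ε : Multiplicative (ZMod 2)) (p : P4) : Prop :=
  InM p ∧ p.2 = if sign p.1 = 1 then 1 else ε

instance : DecidablePred InM := fun p => by unfold InM; infer_instance

instance (ε : Multiplicative (ZMod 2)) : DecidablePred (InD ε) := fun p => by unfold InD; infer_instance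

theorem basics : z * z = 1 ∧ z ≠ 1 ∧ v * v = 1 ∧ v ≠ 1 ∧ w * w = 1 ∧ w ≠ 1 ∧ z * v ≠ 1 ∧ z * v ≠ z ∧
    z * v ≠ v ∧ w ≠ v ∧ v * w = w * v ∧ InM v ∧ InM w ∧ InM z ∧ v ≠ z ∧ w ≠ z := by
  decide +kernel

theorem M_one_mul : InM 1 ∧ ∀ p q : P4, InM p → InM q → InM (p * q) ∧ InM p⁻¹ := by
  decide +kernel

theorem M_squares : ∀ p : P4, InM p → p * p = 1 ∨ p * p = v := by
  decide +kernel

theorem M_square : ∃ p : P4, InM p ∧ p * p = v := by
  decide +kernel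

theorem M_center : ∀ p : P4, InM p → (∀ q : P4, InM q → p * q = q * p) →
    p = 1 ∨ p = v ∨ p = z ∨ p = z * v := by
  decide +kernel

theorem M_involutions : ∀ p : P4, InM p → p * p = 1 →
    p = 1 ∨ p = v ∨ p = z ∨ p = z * v ∨ p = w ∨ p = w * v ∨ p = z * w ∨ p = z * w * v ∨ sign p.1 ≠ 1 := by
  decide +kernel

theorem M_conj : ∀ p : P4, InM p → p * z = z * p ∧ p * v = v * p ∧
    (p * w * p⁻¹ = w ∨ p * w * p⁻¹ = w * v) := by
  decide +kernel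

theorem M_conj_odd : ∀ t : P4, InM t → t * t = 1 → sign t.1 ≠ 1 → ∀ p : P4, InM p →
    (p * t * p⁻¹ = t ∨ p * t * p⁻¹ = t * v) := by
  decide +kernel

theorem M_noncentral : ∀ p : P4, InM p → p = 1 ∨ p = v ∨ p = z ∨ p = z * v ∨
    ∃ q, InM q ∧ p * q ≠ q * p := by
  decide +kernel

theorem D_subgroup : ∀ ε, InD ε 1 ∧ InD ε v ∧ InD ε w ∧ ¬ InD ε z ∧ ¬ InD ε (z * v) ∧
    ∀ p q : P4, InD ε p → InD ε q → InD ε (p * q) ∧ InD ε p⁻¹ := by
  decide +kernel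

theorem D_split : ∀ ε, ∀ p : P4, InM p → InD ε p ∨ InD ε (z * p) := by
  decide +kernel

theorem D_list : ∀ t : P4, InM t → t * t = 1 → sign t.1 ≠ 1 → InD t.2 t ∧ ∀ p : P4, InD t.2 p →
    p = 1 ∨ p = v ∨ p = w ∨ p = w * v ∨ p = t ∨ p = t * v ∨ p = w * t ∨ p = w * t * v := by
  decide +kernel

theorem t_facts : ∀ t : P4, InM t → t * t = 1 → sign t.1 ≠ 1 →
    t * w = w * t * v ∧ (w * t) * (w * t) = v ∧
      t ≠ w ∧ t ≠ w * v ∧ t * v ≠ w ∧ t ≠ z * w ∧ t ≠ z * (w * v) ∧ z * t ≠ w ∧ z * t ≠ w * v := by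
  decide +kernel

theorem M_conj_any : ∀ p : P4, InM p → ∀ q : P4, InM q → q * p * q⁻¹ = p ∨ q * p * q⁻¹ = p * v := by
  decide +kernel

theorem M_v : ∀ p : P4, InM p → z * v * (z * p) = p * v ∧ sign (p * v).1 = sign p.1 ∧
    sign (z * v * p).1 = sign p.1 ∧ sign (z * p).1 = sign p.1 := by
  decide +kernel

theorem M_noncentral_involution : ∀ p : P4, InM p → p * p = 1 → p ≠ 1 → p ≠ v → p ≠ z → p ≠ z * v →
    (p = w ∨ p = w * v ∨ p = z * w ∨ p = z * w * v) ∧ sign p.1 = 1 ∨ sign p.1 ≠ 1 := by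
  decide +kernel

theorem rot_facts : ∀ t : P4, InM t → t * t = 1 → sign t.1 ≠ 1 →
    (∀ d, (d = w * t ∨ d = w * t * v) → z * d * w * (z * d)⁻¹ = w * v) ∧
      t * (w * v) = w * t ∧ t * v * w = w * t ∧ t * v * (w * v) = w * t * v ∧
      w * t * v ≠ w * t ∧ sign (z * (w * t)).1 ≠ 1 ∧ sign w.1 = 1 ∧ sign (t * v).1 ≠ 1 ∧
      (∀ p, InD t.2 p → p * p = 1 → p = 1 ∨ p = v ∨ p = w ∨ p = w * v ∨ p = t ∨ p = t * v) ∧
      (∀ q, InM q → sign q.1 ≠ 1 → q * q = 1 → q = t ∨ q = t * v ∨ q = z * t ∨ q = z * t * v) := by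
  decide +kernel

theorem conj_class : (∃ p : P4, p * v * p⁻¹ = w) ∧ (∃ p : P4, p * v * p⁻¹ = w * v) ∧
    (∃ p : P4, p * (z * v) * p⁻¹ = z * w) ∧ (∃ p : P4, p * (z * v) * p⁻¹ = z * w * v) := by
  decide +kernel

theorem conj_four : ∀ p : P4, (p * v * p⁻¹ = v ∨ p * v * p⁻¹ = w ∨ p * v * p⁻¹ = w * v) ∧
    (p * w * p⁻¹ = v ∨ p * w * p⁻¹ = w ∨ p * w * p⁻¹ = w * v) ∧
    (p * (w * v) * p⁻¹ = v ∨ p * (w * v) * p⁻¹ = w ∨ p * (w * v) * p⁻¹ = w * v) := by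
  decide +kernel

theorem card_D : ∀ ε, Fintype.card {p : P4 // InD ε p} = 8 := by
  decide +kernel

theorem inv_facts : ∀ t : P4, InM t → t * t = 1 → sign t.1 ≠ 1 →
    v * w⁻¹ = w * v ∧ v * (w * v)⁻¹ = w ∧ v * t⁻¹ = t * v ∧ v * (t * v)⁻¹ = t ∧
      v * (w * t)⁻¹ = w * t ∧ v * (w * t * v)⁻¹ = w * t * v ∧ t * v * (w * v) = t * w := by
  decide +kernel

end Cfsg.Agent.Perm.CubicInsoluble.SymTimesTwo
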