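import Cfsg.Agent.Lib.Perm.CubicInsoluble.TwoTransfer
import Cfsg.Agent.Lib.Perm.CubicInsoluble.FourMain
import Cfsg.Agent.Lib.Perm.CubicInsoluble.FixedFour
import Cfsg.Agent.Recognition.MathieuElevenAut

/-!
# A maximal `Sym(4) × Z₂` giving a suborbit of length three: `PSL(3, 3)` extended by an outer
involution
-/

set_option autoImplicit false
set_option linter.style.haveILetI false
set_option linter.unusedSectionVars false

namespace Cfsg.Agent.Perm.CubicInsoluble.TwoMain

open Subgroup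
open Local (Vs InStab Setting)
open SymTimesTwo (z v w P4)
open TwoTransfer (j)

universe u

theorem squares : (∃ q : P4, q * q = v) ∧ ∃ q : P4, q * q = w := by decide +kernel

/-- A subgroup of index two avoiding the central factor projects onto `Sym(4)`. -/
theorem exists_equiv {G : Type u} [Group G] [Finite G] {H : Subgroup G} (e : H ≃* P4) {N : Subgroup G}
    (hN : N.index = 2) (hzN : j e z ∉ N) :
    ∃ e' : H.subgroupOf N ≃* Equiv.Perm (Fin 4),
      ∀ x : H.subgroupOf N, ∀ p : P4, j e p = ((x : N) : G) → e' x = p.1 := by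
  classical
  let f : H.subgroupOf N →* Equiv.Perm (Fin 4) :=
    { toFun := fun x => (e ⟨((x : N) : G), mem_subgroupOf.1 x.2⟩).1
      map_one' := by
        change (e ⟨_, _⟩).1 = 1
        rw [show (⟨((((1 : H.subgroupOf N)) : N) : G), mem_subgroupOf.1 (1 : H.subgroupOf N).2⟩ : H) = 1
          from rfl, map_one]
        rfl
      map_mul' := fun x y => by
        change (e ⟨_, _⟩).1 = _
        rw [← Prod.fst_mul, ← map_mul]
        rfl }
  have hj : ∀ x : H.subgroupOf N, j e (e ⟨((x : N) : G), mem_subgroupOf.1 x.2⟩) = ((x : N) : G) := fun x => by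
    simp [j]
  have hinj : Function.Injective f := by
    rw [← MonoidHom.ker_eq_bot_iff, eq_bot_iff]
    intro x hx
    rw [MonoidHom.mem_ker] at hx
    have hx' : (e ⟨((x : N) : G), mem_subgroupOf.1 x.2⟩).1 = 1 := hx
    have h2 : (e ⟨((x : N) : G), mem_subgroupOf.1 x.2⟩) = 1 ∨
        (e ⟨((x : N) : G), mem_subgroupOf.1 x.2⟩) = z := by
      generalize e ⟨((x : N) : G), mem_subgroupOf.1 x.2⟩ = p at hx' ⊢
      obtain ⟨a, b⟩ := p
      simp only at hx'
      subst hx'
      revert b
      decide +kernel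
    rcases h2 with h | h
    · refine mem_bot.2 (Subtype.ext (Subtype.ext ?_))
      rw [← hj x, h, map_one]; rfl
    · exact absurd (x : N).2 (by rw [← hj x, h]; exact hzN)
  have hidx : (N.subgroupOf H).index = 2 := by
    rw [index_eq_two_iff]
    refine ⟨⟨j e z, TwoTransfer.j_mem e z⟩, fun b => ?_⟩
    simp only [mem_subgroupOf, coe_mul]
    rw [mul_mem_iff_of_index_two hN]
    by_cases hb : (b : G) ∈ N
    · exact Or.inr ⟨hb, fun h => hzN (h.1 hb)⟩
    · exact Or.inl ⟨iff_of_false hb hzN, hb⟩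
  have hcard : Nat.card (H.subgroupOf N) = Nat.card (Equiv.Perm (Fin 4)) := by
    have h1 : Nat.card (H.subgroupOf N) = Nat.card (N.subgroupOf H) := by
      rw [← inf_subgroupOf_right H N, ← inf_subgroupOf_right N H, inf_comm N H,
        Nat.card_congr (subgroupOfEquivOfLe inf_le_right).toEquiv,
        Nat.card_congr (subgroupOfEquivOfLe inf_le_left).toEquiv]
    have h2 := (N.subgroupOf H).card_mul_index
    rw [hidx, TwoTransfer.card_H e] at h2
    rw [h1, Nat.card_eq_fintype_card (α := Equiv.Perm (Fin 4)), Fintype.card_perm, Fintype.card_fin]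
    change _ = 24
    omega
  refine ⟨MulEquiv.ofBijective f ⟨hinj, ((Nat.bijective_iff_injective_and_card f).2 ⟨hinj, hcard⟩).2⟩,
    fun x p hp => ?_⟩
  change (e ⟨((x : N) : G), mem_subgroupOf.1 x.2⟩).1 = p.1
  congr 1
  exact TwoTransfer.j_injective e ((hj x).trans hp.symm)

set_option maxHeartbeats 1600000 in
/-- The group has a normal subgroup `PSL(3, 3)` of index two with trivial centralizer. -/
theorem result {G : Type u} [Group G] [Finite G] {H : Subgroup G} (D : TwoTransfer.Data H) :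
    ∃ N : Subgroup G, N.Normal ∧ N.index = 2 ∧ centralizer (N : Set G) = ⊥ ∧
      Nonempty (N ≃* Matrix.ProjectiveSpecialLinearGroup (Fin 3) (ZMod 3)) := by
  classical
  haveI := Fact.mk Nat.prime_two
  obtain ⟨e⟩ := D.iso
  obtain ⟨N, hN, hzN, h32, h64⟩ := TwoTransfer.exists_index_two D e
  haveI hNn : N.Normal := normal_of_index_eq_two hN
  refine ⟨N, hNn, hN, ?_⟩
  obtain ⟨e', he'⟩ := exists_equiv e hN hzN
  have hNc : Nat.card G = 2 * Nat.card N := by rw [← N.card_mul_index, hN, mul_comm]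
  have h16 : 16 ∣ Nat.card N := by
    rw [hNc] at h32
    exact Nat.dvd_of_mul_dvd_mul_left two_pos h32
  -- the four group lies in `N`
  have hsq : ∀ p, (∃ q : P4, q * q = p) → j e p ∈ N := by
    rintro _ ⟨q, rfl⟩
    rw [map_mul, ← pow_two]
    exact sq_mem_of_index_two hN _
  have hvN : j e v ∈ N := hsq v squares.1
  have hwN : j e w ∈ N := hsq w squares.2
  have hzG : (FourSym.zG e' : N) = ⟨j e v, hvN⟩ := by
    have h : (⟨⟨j e v, hvN⟩, mem_subgroupOf.2 (TwoTransfer.j_mem e v)⟩ : H.subgroupOf N) =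
        e'.symm SymFour.z0 := e'.eq_symm_apply.2 (he' _ v rfl)
    rw [FourSym.zG, ← h]
  have hwG : (FourSym.wG e' : N) = ⟨j e w, hwN⟩ := by
    have h : (⟨⟨j e w, hwN⟩, mem_subgroupOf.2 (TwoTransfer.j_mem e w)⟩ : H.subgroupOf N) =
        e'.symm SymFour.w0 := e'.eq_symm_apply.2 (he' _ w rfl)
    rw [FourSym.wG, ← h]
  have hvs : ∀ x : N, Vs (FourSym.zG e') (FourSym.wG e') x →
      ∃ u, (u = v ∨ u = w ∨ u = w * v) ∧ (x : G) = j e u := by
    rintro x (rfl | rfl | rfl)
    · exact ⟨v, Or.inl rfl, by rw [hzG]⟩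
    · exact ⟨w, Or.inr (Or.inl rfl), by rw [hwG]⟩
    · refine ⟨w * v, Or.inr (Or.inr rfl), ?_⟩
      rw [hzG, hwG, coe_mul, ← map_mul]
      exact congrArg _ SymTimesTwo.basics.2.2.2.2.2.2.2.2.2.2.1
  have hmem' : ∀ g : G, (∀ x : N, Vs (FourSym.zG e') (FourSym.wG e') x →
      ∃ y : N, Vs (FourSym.zG e') (FourSym.wG e') y ∧ g * (x : G) * g⁻¹ = (y : G)) → g ∈ H := by
    intro g hg
    refine TwoTransfer.mem_of_four D e fun u hu => ?_
    obtain ⟨x, hx, hxu⟩ : ∃ x : N, Vs (FourSym.zG e') (FourSym.wG e') x ∧ (x : G) = j e u := by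
      rcases hu with rfl | rfl | rfl
      · exact ⟨_, Or.inl rfl, by rw [hzG]⟩
      · exact ⟨_, Or.inr (Or.inl rfl), by rw [hwG]⟩
      · refine ⟨_, Or.inr (Or.inr rfl), ?_⟩
        rw [hzG, hwG, coe_mul, ← map_mul]
        exact congrArg _ SymTimesTwo.basics.2.2.2.2.2.2.2.2.2.2.1
    obtain ⟨y, hy, hxy⟩ := hg x hx
    obtain ⟨u', hu', hyu⟩ := hvs y hy
    exact ⟨u', hu', by rw [← hxu, hxy, hyu]⟩
  have hmem : ∀ g : N, InStab (FourSym.zG e') (FourSym.wG e') g → g ∈ H.subgroupOf N := by
    intro g hg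
    refine mem_subgroupOf.2 (hmem' (g : G) fun x hx => ⟨g * x * g⁻¹, ?_, by simp⟩)
    rcases hx with rfl | rfl | rfl
    · exact hg.1
    · exact hg.2
    · rw [← conj_mul]
      obtain ⟨hz, hw, hne, hc⟩ := FourSym.orders e'
      obtain ⟨a, ha, ha'⟩ := FourSym.vs_mem e' hg.1
      obtain ⟨b, hb, hb'⟩ := FourSym.vs_mem e' hg.2
      rw [← ha, ← hb, ← coe_mul, FourSym.vs_iff e', map_mul]
      have hab : e' a ≠ e' b := fun h => hne (mul_left_cancel (mul_right_cancel
        (ha.symm.trans ((congrArg Subtype.val (e'.injective h)).trans hb))))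
      have key : ∀ p q : Equiv.Perm (Fin 4), SymFour.IsV p → SymFour.IsV q → p ≠ q →
          SymFour.IsV (p * q) := by decide +kernel
      exact key _ _ ha' hb' hab
  have hVN := FourSym.four_of_mem e' hmem
  -- supplements
  have hsup : ∀ M : Subgroup G, M.Normal → M ≠ ⊥ → M ≤ N → M = N := by
    intro M hM hM1 hMN
    have h1 : M ⊔ H = ⊤ := by
      refine (D.max.le_iff.1 le_sup_right).resolve_right fun h => hM1 ?_
      have := normal_le_normalCore.2 (h ▸ le_sup_left : M ≤ H)
      rwa [D.core, le_bot_iff] at this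
    haveI : (M.subgroupOf N).Normal := hM.subgroupOf N
    have h2 : M.subgroupOf N = ⊤ := by
      refine FourSym.normal_eq_top e' hmem hVN h16 inferInstance ?_ ?_
      · rw [ne_eq, subgroupOf_eq_bot, disjoint_iff, inf_eq_left.2 hMN]; exact hM1
      · rw [eq_top_iff]
        intro n _
        have hn : (n : G) ∈ M ⊔ H := h1 ▸ mem_top _
        obtain ⟨m, hm, h, hh, hmh⟩ := mem_sup_of_normal_left.1 hn
        have hhN : h ∈ N := (N.mul_mem_cancel_left (hMN hm)).1 (hmh ▸ n.2)
        rw [show n = (⟨m, hMN hm⟩ : N) * ⟨h, hhN⟩ from Subtype.ext hmh.symm]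
        exact mul_mem (mem_sup_left (mem_subgroupOf.2 hm)) (mem_sup_right (mem_subgroupOf.2 hh))
    exact le_antisymm hMN (subgroupOf_eq_top.1 h2)
  have hzz : j e z * j e z = 1 := by rw [← map_mul, SymTimesTwo.basics.1, map_one]
  have hzi : (j e z)⁻¹ = j e z := inv_eq_of_mul_eq_one_right hzz
  have hdec : ∀ g : G, g ∈ N ∨ ∃ n ∈ N, g = n * j e z := by
    intro g
    by_cases hg : g ∈ N
    · exact Or.inl hg
    · refine Or.inr ⟨g * j e z, (mul_mem_iff_of_index_two hN).2 (iff_of_false hg hzN), ?_⟩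
      rw [mul_assoc, hzz, mul_one]
  have hN1 : N ≠ ⊥ := fun h => by
    rw [h, card_bot] at h16; norm_num at h16
  haveI : Nontrivial N := (nontrivial_iff_ne_bot N).2 hN1
  -- simplicity
  haveI hsimp : IsSimpleGroup N := by
    refine ⟨fun L hL => or_iff_not_imp_left.2 fun hL1 => ?_⟩
    set Lg := L.map N.subtype with hLg
    have hLgN : Lg ≤ N := map_subtype_le L
    have hLn : ∀ n ∈ N, ∀ a ∈ Lg, n * a * n⁻¹ ∈ Lg := by
      rintro n hn _ ⟨a, ha, rfl⟩
      exact ⟨⟨n, hn⟩ * a * ⟨n, hn⟩⁻¹, hL.conj_mem a ha ⟨n, hn⟩, rfl⟩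
    set L' := Lg.map (MulAut.conj (j e z)).toMonoidHom with hL'
    have hL'N : L' ≤ N := by rintro _ ⟨a, ha, rfl⟩; exact hNn.conj_mem a (hLgN ha) _
    have hz1 : ∀ {a}, a ∈ L' → j e z * a * (j e z)⁻¹ ∈ Lg := by
      rintro _ ⟨a, ha, rfl⟩
      change j e z * (j e z * a * (j e z)⁻¹) * (j e z)⁻¹ ∈ Lg
      rw [hzi, show j e z * (j e z * a * j e z) * j e z = (j e z * j e z) * a * (j e z * j e z) by group,
        hzz, one_mul, mul_one]
      exact ha
    have hL'n : ∀ n ∈ N, ∀ a ∈ L', n * a * n⁻¹ ∈ L' := by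
      intro n hn a ha
      refine ⟨j e z * (n * a * n⁻¹) * (j e z)⁻¹, ?_, ?_⟩
      · rw [← conj_mul, ← conj_mul, ← conj_inv]
        exact hLn _ (hNn.conj_mem n hn _) _ (hz1 ha)
      · change j e z * (j e z * (n * a * n⁻¹) * (j e z)⁻¹) * (j e z)⁻¹ = _
        rw [hzi, show j e z * (j e z * (n * a * n⁻¹) * j e z) * j e z =
          (j e z * j e z) * (n * a * n⁻¹) * (j e z * j e z) by group, hzz, one_mul, mul_one]
    have hnormal : ∀ M : Subgroup G, (∀ n ∈ N, ∀ a ∈ M, n * a * n⁻¹ ∈ M) →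
        (∀ a ∈ M, j e z * a * (j e z)⁻¹ ∈ M) → M.Normal := by
      refine fun M h1 h2 => ⟨fun a ha g => ?_⟩
      rcases hdec g with hg | ⟨n, hn, rfl⟩
      · exact h1 g hg a ha
      · rw [show n * j e z * a * (n * j e z)⁻¹ = n * (j e z * a * (j e z)⁻¹) * n⁻¹ by group]
        exact h1 n hn _ (h2 a ha)
    have hinfn : (Lg ⊓ L').Normal := hnormal _
      (fun n hn a ha => ⟨hLn n hn a ha.1, hL'n n hn a ha.2⟩)
      (fun a ha => ⟨hz1 ha.2, ⟨a, ha.1, rfl⟩⟩)
    by_cases hint : Lg ⊓ L' = ⊥
    · exfalso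
      have hcomm : ∀ a ∈ Lg, ∀ b ∈ L', a * b = b * a := by
        intro a ha b hb
        have h1 : a * b * a⁻¹ * b⁻¹ ∈ Lg ⊓ L' := by
          refine ⟨?_, L'.mul_mem (hL'n a (hLgN ha) b hb) (L'.inv_mem hb)⟩
          rw [show a * b * a⁻¹ * b⁻¹ = a * (b * a⁻¹ * b⁻¹) by group]
          exact mul_mem ha (hLn b (hL'N hb) _ (inv_mem ha))
        rw [hint, mem_bot] at h1
        calc a * b = a * b * a⁻¹ * b⁻¹ * b * a := by group
          _ = b * a := by rw [h1, one_mul]
      have hindn : ∀ φ : G →* G, (∀ x ∈ Lg, φ x ∈ Lg ⊔ L') → (∀ x ∈ L', φ x ∈ Lg ⊔ L') →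
          ∀ a ∈ Lg ⊔ L', φ a ∈ Lg ⊔ L' := fun φ h1 h2 a ha =>
        (sup_le (fun x hx => mem_comap.2 (h1 x hx)) (fun x hx => mem_comap.2 (h2 x hx)) :
          Lg ⊔ L' ≤ (Lg ⊔ L').comap φ) ha
      have hprod := hsup (Lg ⊔ L') (hnormal _
        (fun n hn a ha => hindn (MulAut.conj n).toMonoidHom (fun x hx => mem_sup_left (hLn n hn x hx))
          (fun x hx => mem_sup_right (hL'n n hn x hx)) a ha)
        (fun a ha => hindn (MulAut.conj (j e z)).toMonoidHom (fun x hx => mem_sup_right ⟨x, hx, rfl⟩)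
          (fun x hx => mem_sup_left (hz1 hx)) a ha))
        (fun h => hL1 ((map_eq_bot_iff_of_injective L N.subtype_injective).1
          (le_bot_iff.1 (h ▸ le_sup_left))))
        (sup_le hLgN hL'N)
      have hform : ∀ x ∈ N, ∃ a ∈ Lg, ∃ b ∈ L', x = a * b := by
        intro x hx
        rw [← hprod, ← SetLike.mem_coe,
          coe_mul_of_left_le_normalizer_right _ _ (fun a ha => mem_normalizer_fintype fun b hb =>
            hL'n a (hLgN ha) b hb)] at hx
        obtain ⟨a, ha, b, hb, rfl⟩ := hx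
        exact ⟨a, ha, b, hb, rfl⟩
      have huniq : ∀ {a a' b b'}, a ∈ Lg → a' ∈ Lg → b ∈ L' → b' ∈ L' → a * b = a' * b' →
          a = a' ∧ b = b' := by
        intro a a' b b' ha ha' hb hb' h
        have h1 : a'⁻¹ * a = b' * b⁻¹ := by
          calc a'⁻¹ * a = a'⁻¹ * (a * b) * b⁻¹ := by group
            _ = a'⁻¹ * (a' * b') * b⁻¹ := by rw [h]
            _ = b' * b⁻¹ := by group
        have h2 : a'⁻¹ * a ∈ Lg ⊓ L' :=
          ⟨Lg.mul_mem (Lg.inv_mem ha') ha, h1 ▸ L'.mul_mem hb' (L'.inv_mem hb)⟩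
        rw [hint, mem_bot] at h2
        have h3 : a = a' := (inv_mul_eq_one.1 h2).symm
        exact ⟨h3, mul_left_cancel (h3 ▸ h)⟩
      -- the diagonal is the fixed group
      have hdiag : ∀ a ∈ Lg, (a * (j e z * a * (j e z)⁻¹)) * j e z = j e z * (a * (j e z * a * (j e z)⁻¹)) := by
        intro a ha
        have hc := hcomm a ha _ ⟨a, ha, rfl⟩
        change a * (j e z * a * (j e z)⁻¹) = j e z * a * (j e z)⁻¹ * a at hc
        conv_rhs => rw [hc]
        rw [hzi]
        calc a * (j e z * a * j e z) * j e z = a * j e z * a * (j e z * j e z) := by group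
          _ = a * j e z * a := by rw [hzz, mul_one]
          _ = (j e z * j e z) * a * j e z * a := by rw [hzz, one_mul]
          _ = _ := by group
      let ψ : Lg → H.subgroupOf N := fun a =>
        ⟨⟨(a : G) * (j e z * a * (j e z)⁻¹), mul_mem (hLgN a.2) (hNn.conj_mem _ (hLgN a.2) _)⟩,
          mem_subgroupOf.2 (TwoTransfer.cent_z D e (hdiag a a.2))⟩
      have hψi : Function.Injective ψ := by
        intro a b h
        have h' : (a : G) * (j e z * a * (j e z)⁻¹) = (b : G) * (j e z * b * (j e z)⁻¹) :=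
          congrArg (fun x : H.subgroupOf N => ((x : N) : G)) h
        exact Subtype.ext (huniq a.2 b.2 ⟨(a : G), a.2, rfl⟩ ⟨(b : G), b.2, rfl⟩ h').1
      have hψs : Function.Surjective ψ := by
        intro c
        obtain ⟨a, ha, b, hb, hab⟩ := hform _ (c : N).2
        obtain ⟨p, hp⟩ := TwoTransfer.exists_j e (mem_subgroupOf.1 c.2)
        have hfix : j e z * ((c : N) : G) * (j e z)⁻¹ = ((c : N) : G) := by
          rw [← hp, ← map_inv, ← map_mul, ← map_mul]
          congr 1
          exact mul_inv_eq_iff_eq_mul.2 (Prod.ext (by simp [z]) (mul_comm _ _))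
        have hzb := hz1 hb
        have hza : j e z * a * (j e z)⁻¹ ∈ L' := ⟨a, ha, rfl⟩
        have h := huniq ha hzb hb hza (by
          rw [← hab, ← hfix, hab, ← conj_mul, hcomm _ hzb _ hza])
        refine ⟨⟨a, ha⟩, Subtype.ext (Subtype.ext ?_)⟩
        change a * (j e z * a * (j e z)⁻¹) = _
        rw [hab, ← h.2]
      have hLc : Nat.card Lg = 24 := by
        rw [Nat.card_congr (Equiv.ofBijective ψ ⟨hψi, hψs⟩), Nat.card_congr e'.toEquiv,
          Nat.card_eq_fintype_card, Fintype.card_perm, Fintype.card_fin]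
        rfl
      have hNcard : Nat.card N = 24 * 24 := by
        rw [← hLc]
        conv_rhs => arg 2; rw [show Nat.card Lg = Nat.card L' from
          (card_map_of_injective (MulAut.conj (j e z)).injective).symm]
        rw [← Nat.card_prod]
        refine (Nat.card_congr (Equiv.ofBijective (fun p : Lg × L' =>
          (⟨(p.1 : G) * p.2, mul_mem (hLgN p.1.2) (hL'N p.2.2)⟩ : N)) ⟨fun p q h => ?_, fun x => ?_⟩)).symm
        · have := huniq p.1.2 q.1.2 p.2.2 q.2.2 (congrArg Subtype.val h)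
          exact Prod.ext (Subtype.ext this.1) (Subtype.ext this.2)
        · obtain ⟨a, ha, b, hb, hab⟩ := hform _ x.2
          exact ⟨(⟨a, ha⟩, ⟨b, hb⟩), Subtype.ext hab.symm⟩
      apply h64
      rw [hNc, hNcard]; norm_num
    · have h := hsup _ hinfn hint (inf_le_left.trans hLgN)
      have : N ≤ Lg := h ▸ inf_le_left
      rw [eq_top_iff]
      intro n _
      obtain ⟨a, ha, hae⟩ := this n.2
      rwa [← Subtype.ext hae]
  have hnc : ¬ IsMulCommutative N := fun h => by
    obtain ⟨hz, hw, hne, hc⟩ := FourSym.orders e'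
    obtain ⟨g, hg, -⟩ := FourSym.perm e' (x := FourSym.wG e') (y := FourSym.zG e')
      (Or.inr (Or.inl rfl)) (Or.inl rfl) hne.symm
    rw [h.is_comm.comm g (FourSym.zG e'), mul_inv_cancel_right] at hg
    exact hne hg
  have hcentN : centralizer (N : Set G) = ⊥ := by
    rw [eq_bot_iff]
    intro c hc
    rw [mem_bot]
    have hinf : ∀ a ∈ centralizer (N : Set G), a ∈ N → a = 1 := by
      intro a ha haN
      have h1 : (⟨a, haN⟩ : N) ∈ center N := mem_center_iff.2 fun n =>
        Subtype.ext (mem_centralizer_iff.1 ha _ n.2)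
      rcases IsSimpleGroup.eq_bot_or_eq_top_of_normal (center N) inferInstance with h | h
      · rw [h, mem_bot] at h1; exact congrArg Subtype.val h1
      · exact absurd ⟨⟨fun a b => (mem_center_iff.1 (h ▸ mem_top b) a)⟩⟩ hnc
    by_contra hc1
    have hcN : c ∉ N := fun h => hc1 (hinf c hc h)
    have hall : ∀ d ∈ centralizer (N : Set G), d = 1 ∨ d = c := by
      intro d hd
      by_cases hdN : d ∈ N
      · exact Or.inl (hinf d hd hdN)
      · refine Or.inr ?_
        have h1 := hinf (d⁻¹ * c) (mul_mem (inv_mem hd) hc)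
          ((mul_mem_iff_of_index_two hN).2 (iff_of_false (fun h => hdN (by simpa using inv_mem h)) hcN))
        exact inv_mul_eq_one.1 h1
    have hcz : ∀ g : G, g * c * g⁻¹ = c :=
      fun g => (hall _ ((inferInstance : (centralizer (N : Set G)).Normal).conj_mem c hc g)).resolve_left
        fun h => hc1 (conj_eq_one_iff.1 h)
    have hcH : c ∈ H := TwoTransfer.cent_z D e (mul_inv_eq_iff_eq_mul.1 (hcz (j e z))).symm
    haveI : (zpowers c).Normal := by
      refine ⟨fun a ha g => ?_⟩
      obtain ⟨i, rfl⟩ := mem_zpowers_iff.1 ha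
      rw [← conj_zpow, hcz]
      exact zpow_mem (mem_zpowers c) i
    have h := normal_le_normalCore.2 ((zpowers_le).2 hcH : zpowers c ≤ H)
    rw [D.core, le_bot_iff, zpowers_eq_bot] at h
    exact hc1 h
  refine ⟨hcentN, ?_⟩
  -- the Sylow subgroups
  obtain ⟨hz, hw, hne, hc⟩ := FourSym.orders e'
  have hW : IsPGroup 2 (closure ({FourSym.zG e', FourSym.wG e'} : Set N)) := by
    rintro ⟨a, ha⟩
    refine ⟨1, Subtype.ext ?_⟩
    have hc' : Commute a (FourSym.zG e') ∧ Commute a (FourSym.wG e') := by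
      induction ha using closure_induction with
      | mem u hu =>
        rcases hu with rfl | rfl
        · exact ⟨Commute.refl _, hc⟩
        · exact ⟨hc.symm, Commute.refl _⟩
      | one => exact ⟨Commute.one_left _, Commute.one_left _⟩
      | mul _ _ _ _ h1 h2 => exact ⟨h1.1.mul_left h2.1, h1.2.mul_left h2.2⟩
      | inv _ _ h1 => exact ⟨h1.1.inv_left, h1.2.inv_left⟩
    have hzz' := CoreSetup.sq_of_order_two hz
    have hww := CoreSetup.sq_of_order_two hw
    change a ^ 2 ^ 1 = 1
    rw [pow_one, pow_two]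
    rcases hVN.cent a hc'.1 hc'.2 with rfl | rfl | rfl | rfl
    · exact one_mul 1
    · exact hzz'
    · exact hww
    · rw [hc.symm.mul_mul_mul_comm, hzz', hww, one_mul]
  obtain ⟨S, hS⟩ := hW.exists_le_sylow
  obtain ⟨-, -, htype⟩ := FourSym.sylow_types hVN h16 S (hS (subset_closure (Or.inl rfl)))
    (hS (subset_closure (Or.inr rfl)))
  set θ : MulAut N := MulAut.conjNormal (j e z) with hθdef
  have hθ2 : θ * θ = 1 := by rw [hθdef, ← map_mul, hzz, map_one]
  have hθfix : ∀ x : N, θ x = x ↔ x ∈ H.subgroupOf N := by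
    intro x
    rw [mem_subgroupOf]
    constructor
    · intro h
      have h' : j e z * (x : G) * (j e z)⁻¹ = (x : G) := congrArg Subtype.val h
      exact TwoTransfer.cent_z D e (mul_inv_eq_iff_eq_mul.1 h').symm
    · intro h
      obtain ⟨p, hp⟩ := TwoTransfer.exists_j e h
      refine Subtype.ext ?_
      change j e z * (x : G) * (j e z)⁻¹ = (x : G)
      rw [← hp, ← map_inv, ← map_mul, ← map_mul]
      congr 1
      exact mul_inv_eq_iff_eq_mul.2 (Prod.ext (by simp [z]) (mul_comm _ _))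
  rcases htype with ⟨n, hn, hd⟩ | hsd
  · exfalso
    haveI : Group.IsPerfect N := GW.Assembly.isPerfect_of_simple hnc
    have hOb : Cfsg.oddCore N = ⊥ := by
      haveI : (Cfsg.oddCore N).Normal := Cores.pPrimeCore_normal 2
      refine (IsSimpleGroup.eq_bot_or_eq_top_of_normal _ inferInstance).resolve_right fun h => ?_
      have h1 : Odd (Nat.card N) := by
        have := Cores.oddCore_odd (G := N)
        rwa [h, card_top] at this
      exact Nat.not_even_iff_odd.2 h1 (even_iff_two_dvd.2 (dvd_trans (by norm_num) h16))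
    let i : N ⧸ Cfsg.oddCore N ≃* N :=
      (QuotientGroup.quotientMulEquivOfEq hOb).trans QuotientGroup.quotientBot
    rcases S0483.result S n hn hd with ⟨F, i1, i2, h1, h2, ⟨f₀⟩⟩ | hj
    · set f := i.symm.trans f₀
      refine FixedFour.false_of_fixed_sym_four h1 (Nat.card_congr f.toEquiv ▸ h16)
        (MulAut.congr f θ) (by rw [← map_mul, hθ2, map_one]) ((H.subgroupOf N).map f.toMonoidHom) ?_
        (((H.subgroupOf N).equivMapOfInjective f.toMonoidHom f.injective).symm.trans e')
      intro x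
      obtain ⟨y, rfl⟩ := f.surjective x
      rw [mem_map_equiv, MulEquiv.symm_apply_apply, ← hθfix]
      simp [MulAut.congr]
    · obtain ⟨f⟩ := hj
      rw [Nat.card_congr (i.symm.trans f).toEquiv, FourMain.card_alt_seven] at h16
      norm_num at h16
  · -- quasi-dihedral
    have hset : Setting (FourSym.zG e') (FourSym.wG e') := by
      refine ⟨hVN, fun x y hx hy hxy => FourSym.perm e' hx hy hxy, fun P hodd hinv hφ g hg => ?_⟩
      set Pg := P.map N.subtype
      have hle : H ≤ normalizer (Pg : Set G) := by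
        intro h hh
        refine mem_normalizer_fintype ?_
        rintro _ ⟨p, hp, rfl⟩
        refine ⟨MulAut.conjNormal h p, hφ _ (fun x hx => ?_) p hp, rfl⟩
        obtain ⟨u, hu, hxu⟩ := hvs x hx
        obtain ⟨q, rfl⟩ := TwoTransfer.exists_j e hh
        have key : ∃ u', (u' = v ∨ u' = w ∨ u' = w * v) ∧ q * u * q⁻¹ = u' := by
          refine ⟨_, ?_, rfl⟩
          rcases hu with rfl | rfl | rfl
          · exact (SymTimesTwo.conj_four q).1
          · exact (SymTimesTwo.conj_four q).2.1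
          · exact (SymTimesTwo.conj_four q).2.2
        obtain ⟨u', hu', hq⟩ := key
        have hval : ((MulAut.conjNormal (j e q) x : N) : G) = j e u' := by
          rw [MulAut.conjNormal_apply, hxu, ← map_inv, ← map_mul, ← map_mul, hq]
        rcases hu' with rfl | rfl | rfl
        · exact Or.inl (Subtype.ext (by rw [hval, hzG]))
        · exact Or.inr (Or.inl (Subtype.ext (by rw [hval, hwG])))
        · refine Or.inr (Or.inr (Subtype.ext ?_))
          rw [hval, hzG, hwG, coe_mul, ← map_mul, SymTimesTwo.basics.2.2.2.2.2.2.2.2.2.2.1]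
      rcases D.max.le_iff.1 hle with h | h
      · haveI : Pg.Normal := normalizer_eq_top_iff.1 h
        refine Or.inr ((map_eq_bot_iff_of_injective P N.subtype_injective).1 ?_)
        by_contra hne'
        have h1 := hsup Pg inferInstance hne' (map_subtype_le P)
        have h2 : Odd (Nat.card N) := by
          rw [← h1, card_map_of_injective N.subtype_injective]; exact hodd
        exact Nat.not_even_iff_odd.2 h2 (even_iff_two_dvd.2 (dvd_trans (by norm_num) h16))
      · have hgH : (g : G) ∈ H := by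
          rw [← h]
          refine mem_normalizer_fintype ?_
          rintro _ ⟨p, hp, rfl⟩
          exact ⟨g * p * g⁻¹, (mem_normalizer_iff.1 hg p).1 hp, rfl⟩
        exact Or.inl (FourSym.stab_of_mem e' (mem_subgroupOf.2 hgH))
    rcases CoreTrivial.result S hsd hset with ⟨F, i1, i2, hF, ⟨f⟩⟩ | hj
    · exact Basic.psl_zmod Nat.prime_three hF f
    · exfalso
      obtain ⟨f⟩ := (hj : Nonempty (N ≃* Cfsg.Spor.M11))
      have hM : Cfsg.IsM11 N := ⟨hsimp, (Nat.card_congr f.toEquiv).trans Recognition.MathieuEleven.isM11_M11.2⟩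
      obtain ⟨k, hk⟩ := Recognition.MathieuElevenAut.inn_eq_top hM θ
      have hin : (k : G)⁻¹ * j e z ∈ centralizer (N : Set G) := by
        refine mem_centralizer_iff.2 fun n hn => ?_
        have h' : j e z * n * (j e z)⁻¹ = (k : G) * n * (k : G)⁻¹ := congrArg Subtype.val (hk ⟨n, hn⟩)
        calc n * ((k : G)⁻¹ * j e z) = (k : G)⁻¹ * ((k : G) * n * (k : G)⁻¹) * j e z := by group
          _ = (k : G)⁻¹ * (j e z * n * (j e z)⁻¹) * j e z := by rw [h']
          _ = _ := by group
      rw [hcentN, mem_bot, inv_mul_eq_one] at hin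
      exact hzN (hin ▸ k.2)

end Cfsg.Agent.Perm.CubicInsoluble.TwoMain
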