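import Cfsg.Agent.Lib.Perm.CubicInsoluble.Basic
import Cfsg.Agent.Lib.Perm.CubicInsoluble.SymTimesTwo
import Cfsg.Agent.Lib.Involutions.ThompsonTransfer

/-!
# A maximal `Sym(4) × Z₂` giving a suborbit of length three: a subgroup of index two

The Sylow `2`-subgroups have order `32`, and one of their maximal subgroups contains no conjugate of
the central involution of the stabilizer.
-/

set_option autoImplicit false
set_option linter.style.haveILetI false
set_option linter.unusedSectionVars false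

namespace Cfsg.Agent.Perm.CubicInsoluble.TwoTransfer

open Subgroup SymTimesTwo

universe u

variable {G : Type u} [Group G] [Finite G]

/-- A maximal subgroup isomorphic to `Sym(4) × Z₂` with trivial core, meeting a conjugate in a
subgroup of order sixteen. -/
structure Data (H : Subgroup G) : Prop where
  max : IsCoatom H
  core : H.normalCore = ⊥
  iso : Nonempty (H ≃* P4)
  sixteen : ∃ g, g ∉ H ∧ Nat.card (H ⊓ H.map (MulAut.conj g).toMonoidHom : Subgroup G) = 16

variable {H : Subgroup G} (D : Data H) (e : H ≃* P4)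

/-- The embedding of the model. -/
def j : P4 →* G := H.subtype.comp e.symm.toMonoidHom

theorem j_injective : Function.Injective (j e) := fun _ _ h => e.symm.injective (Subtype.ext h)

theorem j_mem (p : P4) : j e p ∈ H := (e.symm p).2

theorem exists_j {g : G} (hg : g ∈ H) : ∃ p, j e p = g :=
  ⟨e ⟨g, hg⟩, by simp [j]⟩

theorem card_H (e : H ≃* P4) : Nat.card H = 48 := by
  rw [Nat.card_congr e.toEquiv, Nat.card_prod, Nat.card_eq_fintype_card, Fintype.card_perm,
    Fintype.card_fin, Nat.card_eq_fintype_card]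
  rfl

/-- The centralizer of `v` in the stabilizer. -/
def Mg : Subgroup G where
  carrier := {g | ∃ p, InM p ∧ j e p = g}
  one_mem' := ⟨1, M_one_mul.1, map_one _⟩
  mul_mem' := by
    rintro _ _ ⟨p, hp, rfl⟩ ⟨q, hq, rfl⟩
    exact ⟨p * q, (M_one_mul.2 p q hp hq).1, map_mul _ p q⟩
  inv_mem' := by
    rintro _ ⟨p, hp, rfl⟩
    exact ⟨p⁻¹, (M_one_mul.2 p p hp hp).2, map_inv _ p⟩

theorem card_Mg : Nat.card (Mg e) = 16 := by
  have h : Nat.card (Mg e) = Nat.card {p : P4 // InM p} := by
    refine (Nat.card_congr (Equiv.ofBijective (fun p : {p : P4 // InM p} =>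
      (⟨j e p, p.1, p.2, rfl⟩ : Mg e)) ⟨fun a b h => Subtype.ext (j_injective e (congrArg (fun x : Mg e => (x : G)) h)),
      fun g => ?_⟩)).symm
    obtain ⟨p, hp, hpg⟩ := g.2
    exact ⟨⟨p, hp⟩, Subtype.ext hpg⟩
  rw [h, Nat.card_eq_fintype_card]
  decide +kernel

include D

theorem cent_z {g : G} (h : g * j e z = j e z * g) : g ∈ H := by
  set C := centralizer ({j e z} : Set G)
  have hle : H ≤ C := fun a ha => by
    obtain ⟨p, rfl⟩ := exists_j e ha
    refine mem_centralizer_singleton_iff.2 ?_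
    rw [← map_mul, ← map_mul, show p * z = z * p from Prod.ext (by simp [z]) (mul_comm _ _)]
  rcases D.max.le_iff.1 hle with hC | hC
  · exfalso
    haveI : (zpowers (j e z)).Normal := by
      refine ⟨fun a ha b => ?_⟩
      obtain ⟨i, rfl⟩ := mem_zpowers_iff.1 ha
      have hb : b ∈ C := by rw [hC]; exact mem_top b
      rw [((show Commute b (j e z) from mem_centralizer_singleton_iff.1 hb).zpow_right i).eq,
        mul_inv_cancel_right]
      exact zpow_mem (mem_zpowers _) i
    have h1 := normal_le_normalCore.2 ((zpowers_le).2 (j_mem e z) : zpowers (j e z) ≤ H)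
    rw [D.core, le_bot_iff, zpowers_eq_bot, ← map_one (j e)] at h1
    exact basics.2.1 (j_injective e h1)
  · exact hC ▸ mem_centralizer_singleton_iff.2 h

/-- The stabilizer is the normalizer of its four group. -/
theorem mem_of_four {g : G} (hg : ∀ u, (u = v ∨ u = w ∨ u = w * v) → ∃ u', (u' = v ∨ u' = w ∨ u' = w * v) ∧
    g * j e u * g⁻¹ = j e u') : g ∈ H := by
  obtain ⟨b1, b2, b3, b4, b5, b6, b7, b8, b9, b10, b11, bv, bw, bz, bvz, bwz⟩ := basics
  have ji := j_injective e
  set W := closure ({j e v, j e w} : Set G) with hW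
  have hWu : ∀ u, (u = v ∨ u = w ∨ u = w * v) → j e u ∈ W := by
    rintro u (rfl | rfl | rfl)
    · exact subset_closure (Or.inl rfl)
    · exact subset_closure (Or.inr rfl)
    · rw [map_mul]; exact mul_mem (subset_closure (Or.inr rfl)) (subset_closure (Or.inl rfl))
  have hnorm : ∀ a : G, (∀ u, (u = v ∨ u = w ∨ u = w * v) → ∃ u', (u' = v ∨ u' = w ∨ u' = w * v) ∧
      a * j e u * a⁻¹ = j e u') → a ∈ normalizer (W : Set G) := by
    intro a ha
    refine mem_normalizer_fintype fun x hx => ?_
    induction hx using closure_induction with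
    | mem x hx =>
      rcases hx with rfl | rfl
      · obtain ⟨u', hu', he⟩ := ha v (Or.inl rfl); rw [he]; exact hWu u' hu'
      · obtain ⟨u', hu', he⟩ := ha w (Or.inr (Or.inl rfl)); rw [he]; exact hWu u' hu'
    | one => simp
    | mul x y _ _ h1 h2 => rw [← conj_mul]; exact mul_mem h1 h2
    | inv x _ h1 => rw [← conj_inv]; exact inv_mem h1
  have hle : H ≤ normalizer (W : Set G) := by
    intro a ha
    obtain ⟨p, rfl⟩ := exists_j e ha
    refine hnorm _ fun u hu => ⟨p * u * p⁻¹, ?_, by rw [map_mul, map_mul, map_inv]⟩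
    have key := conj_four
    rcases hu with rfl | rfl | rfl
    · exact (key p).1
    · exact (key p).2.1
    · exact (key p).2.2
  rcases D.max.le_iff.1 hle with h | h
  · exfalso
    haveI : W.Normal := normalizer_eq_top_iff.1 h
    have h1 := normal_le_normalCore.2 (show W ≤ H by
      rw [hW, closure_le]; rintro x (rfl | rfl) <;> exact j_mem e _)
    rw [D.core, le_bot_iff] at h1
    have := hWu v (Or.inl rfl)
    rw [h1, mem_bot, ← map_one (j e)] at this
    exact b4 (ji this)
  · exact h ▸ hnorm g hg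

/-- An element outside the stabilizer normalizing the centralizer of `v`. -/
theorem exists_k : ∃ k : G, k ∉ H ∧ ∀ p, InM p → ∃ q, InM q ∧ k * j e p * k⁻¹ = j e q := by
  classical
  haveI := Fact.mk Nat.prime_two
  obtain ⟨g, hgH, hK⟩ := D.sixteen
  have hN : normalizer (H : Set G) ≤ H := by
    rcases D.max.le_iff.1 (le_normalizer (H := H)) with h | h
    · exfalso
      haveI : H.Normal := normalizer_eq_top_iff.1 h
      have := D.core
      rw [normalCore_eq_self] at this
      have h' := card_H e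
      rw [this, card_bot] at h'
      norm_num at h'
    · exact h.le
  obtain ⟨k, hkH, hk⟩ := Basic.exists_normalizing (n := 4) hgH (by rw [hK]; rfl)
    (by rw [card_H e]; decide) hN
  set K := H ⊓ H.map (MulAut.conj g).toMonoidHom with hKdef
  have hf : (Nat.card H).factorization 2 = 4 := by
    rw [card_H e, show (48 : ℕ) = 2 ^ 4 * 3 by norm_num, Nat.factorization_mul (by norm_num) (by norm_num),
      Nat.factorization_pow]
    simp [Nat.Prime.factorization_self Nat.prime_two, Nat.factorization_eq_zero_of_not_dvd]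
  have hMH : Mg e ≤ H := by rintro _ ⟨p, -, rfl⟩; exact j_mem e p
  let P1 : Sylow 2 H := Sylow.ofCard (K.subgroupOf H) (by
    rw [Nat.card_congr (subgroupOfEquivOfLe inf_le_left).toEquiv, hK, hf]; rfl)
  let P2 : Sylow 2 H := Sylow.ofCard ((Mg e).subgroupOf H) (by
    rw [Nat.card_congr (subgroupOfEquivOfLe hMH).toEquiv, card_Mg, hf]; rfl)
  obtain ⟨h, hh⟩ := MulAction.exists_smul_eq H P1 P2
  refine ⟨(h : G) * k * (h : G)⁻¹, fun hm => hkH ?_, fun p hp => ?_⟩
  · simpa [mul_assoc] using mul_mem (mul_mem (inv_mem h.2) hm) h.2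
  have hto : ∀ x ∈ K, (h : G) * x * (h : G)⁻¹ ∈ Mg e := by
    intro x hx
    have : h * (⟨x, hx.1⟩ : H) * h⁻¹ ∈ P2 := by
      rw [← hh]
      exact ⟨⟨x, hx.1⟩, mem_subgroupOf.2 hx, rfl⟩
    exact mem_subgroupOf.1 this
  have hfrom : (h : G)⁻¹ * j e p * h ∈ K := by
    have hp2 : (⟨j e p, j_mem e p⟩ : H) ∈ P2 := mem_subgroupOf.2 ⟨p, hp, rfl⟩
    rw [← hh] at hp2
    obtain ⟨x, hx, he⟩ := hp2
    have he' : (h : G) * (x : G) * (h : G)⁻¹ = j e p := congrArg Subtype.val he
    rw [← he', show (h : G)⁻¹ * ((h : G) * (x : G) * (h : G)⁻¹) * h = (x : G) by group]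
    exact mem_subgroupOf.1 hx
  obtain ⟨q, hq, hqe⟩ := hto _ (hk _ hfrom)
  exact ⟨q, hq, by rw [hqe]; group⟩

omit D

/-- The extension of a subgroup by an element normalizing it whose square lies in it. -/
theorem sup_form {N : Subgroup G} {k : G} (hk : k ∈ normalizer (N : Set G)) (hk2 : k * k ∈ N)
    (hkN : k ∉ N) :
    (∀ x ∈ N ⊔ zpowers k, x ∈ N ∨ ∃ n ∈ N, x = k * n) ∧
      Nat.card (N ⊔ zpowers k : Subgroup G) = 2 * Nat.card N := by
  have hki : k⁻¹ ∈ normalizer (N : Set G) := inv_mem hk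
  have hc : ∀ n ∈ N, k⁻¹ * n * k ∈ N := fun n hn => by
    simpa using (mem_normalizer_iff.1 hki n).1 hn
  let B : Subgroup G :=
    { carrier := {x | x ∈ N ∨ ∃ n ∈ N, x = k * n}
      one_mem' := Or.inl (one_mem N)
      mul_mem' := by
        rintro a b (ha | ⟨n, hn, rfl⟩) (hb | ⟨m, hm, rfl⟩)
        · exact Or.inl (mul_mem ha hb)
        · exact Or.inr ⟨k⁻¹ * a * k * m, mul_mem (hc a ha) hm, by group⟩
        · exact Or.inr ⟨n * b, mul_mem hn hb, by group⟩
        · refine Or.inl ?_
          rw [show k * n * (k * m) = (k * k) * ((k⁻¹ * n * k) * m) by group]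
          exact mul_mem hk2 (mul_mem (hc n hn) hm)
      inv_mem' := by
        rintro a (ha | ⟨n, hn, rfl⟩)
        · exact Or.inl (inv_mem ha)
        · refine Or.inr ⟨(k * k)⁻¹ * (k * n⁻¹ * k⁻¹), mul_mem (inv_mem hk2) ((mem_normalizer_iff.1 hk _).1
            (inv_mem hn)), by group⟩ }
  have hle : N ⊔ zpowers k ≤ B :=
    sup_le (fun n hn => Or.inl hn) ((zpowers_le).2 (Or.inr ⟨1, one_mem N, (mul_one k).symm⟩))
  refine ⟨fun x hx => hle hx, ?_⟩
  set L := N ⊔ zpowers k with hL
  have hidx : (N.subgroupOf L).index = 2 := by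
    rw [index_eq_two_iff]
    refine ⟨⟨k⁻¹, mem_sup_right (inv_mem (mem_zpowers k))⟩, fun b => ?_⟩
    simp only [mem_subgroupOf, coe_mul]
    rcases hle b.2 with hb | ⟨n, hn, hb⟩
    · refine Or.inr ⟨hb, fun h => hkN ?_⟩
      simpa using inv_mem ((N.mul_mem_cancel_left hb).1 h)
    · rw [hb]
      refine Or.inl ⟨?_, fun h => hkN ((N.mul_mem_cancel_right hn).1 h)⟩
      rw [show k * n * k⁻¹ = k * n * k⁻¹ from rfl]
      exact (mem_normalizer_iff.1 hk n).1 hn
  rw [← (N.subgroupOf L).card_mul_index, hidx, Nat.card_congr (subgroupOfEquivOfLe le_sup_left).toEquiv,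
    mul_comm]

include D

set_option maxHeartbeats 1600000 in
/-- A subgroup of index two avoiding the central involution of the stabilizer. -/
theorem exists_index_two :
    ∃ N : Subgroup G, N.index = 2 ∧ j e z ∉ N ∧ 32 ∣ Nat.card G ∧ ¬ 64 ∣ Nat.card G := by
  classical
  haveI := Fact.mk Nat.prime_two
  obtain ⟨b1, b2, b3, b4, b5, b6, b7, b8, b9, b10, b11, bv, bw, bz, bvz, bwz⟩ := basics
  obtain ⟨k, hkH, hk⟩ := exists_k D e
  choose φ hφM hφ using hk
  have ji := j_injective e
  -- the map induced on the model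
  have φmul : ∀ {p q} (hp : InM p) (hq : InM q) (hpq : InM (p * q)), φ _ hpq = φ p hp * φ q hq :=
    fun {p q} hp hq hpq => ji (by rw [← hφ, map_mul, map_mul, ← hφ, ← hφ]; group)
  have φinj : ∀ {p q} (hp : InM p) (hq : InM q), φ p hp = φ q hq → p = q := fun {p q} hp hq h =>
    ji (mul_left_cancel (mul_right_cancel ((hφ p hp).trans (h ▸ (hφ q hq).symm))))
  have φone : φ 1 M_one_mul.1 = 1 := ji (by rw [← hφ]; simp)
  have φsurj : ∀ q, InM q → ∃ p, ∃ hp : InM p, φ p hp = q := by
    intro q hq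
    obtain ⟨⟨p, hp⟩, hpq⟩ := Finite.surjective_of_injective
      (f := fun p : {p : P4 // InM p} => (⟨φ p.1 p.2, hφM p.1 p.2⟩ : {p : P4 // InM p}))
      (fun a b h => Subtype.ext (φinj a.2 b.2 (congrArg Subtype.val h))) ⟨q, hq⟩
    exact ⟨p, hp, congrArg Subtype.val hpq⟩
  have φcongr : ∀ {p q} (hp : InM p) (hq : InM q), p = q → φ p hp = φ q hq := by
    rintro p q hp hq rfl; rfl
  have mm : ∀ {p q}, InM p → InM q → InM (p * q) := fun hp hq => (M_one_mul.2 _ _ hp hq).1
  have mi : ∀ {p}, InM p → InM p⁻¹ := fun hp => (M_one_mul.2 _ _ hp hp).2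
  have bzv := mm bz bv
  have bwv := mm bw bv
  -- `k` fixes `v` and exchanges `z` and `z * v`
  have φv : φ v bv = v := by
    obtain ⟨p, hp, hpp⟩ := M_square
    have h1 : φ v bv = φ p hp * φ p hp := by
      rw [← φmul hp hp (mm hp hp)]; exact φcongr _ _ hpp.symm
    rcases M_squares _ (hφM p hp) with h | h
    · exact absurd (φinj bv M_one_mul.1 (h1.trans (h.trans φone.symm))) b4
    · exact h1.trans h
  have φz : φ z bz = z * v := by
    have hc : ∀ q, InM q → φ z bz * q = q * φ z bz := by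
      intro q hq
      obtain ⟨p, hp, rfl⟩ := φsurj q hq
      rw [← φmul bz hp (mm bz hp), ← φmul hp bz (mm hp bz)]
      exact φcongr _ _ (M_conj p hp).1.symm
    rcases M_center _ (hφM z bz) hc with h | h | h | h
    · exact absurd (φinj bz M_one_mul.1 (h.trans φone.symm)) b2
    · exact absurd (φinj bz bv (h.trans φv.symm)) (Ne.symm bvz)
    · exfalso
      refine hkH (cent_z D e ?_)
      have := hφ z bz
      rw [h] at this
      exact mul_inv_eq_iff_eq_mul.1 this
    · exact h
  have kv : k * j e v * k⁻¹ = j e v := (hφ v bv).trans (congrArg (j e) φv)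
  have kz : k * j e z * k⁻¹ = j e (z * v) := (hφ z bz).trans (congrArg (j e) φz)
  have φzv : φ _ bzv = z := by
    rw [φmul bz bv bzv, φz, φv, mul_assoc, b3, mul_one]
  have kzv : k * j e (z * v) * k⁻¹ = j e z := (hφ _ bzv).trans (congrArg (j e) φzv)
  -- the square of `k`
  obtain ⟨k2, hk2M, hk2⟩ : ∃ p, InM p ∧ j e p = k * k := by
    have hc : k * k * j e z = j e z * (k * k) := by
      refine mul_inv_eq_iff_eq_mul.1 ?_
      rw [show k * k * j e z * (k * k)⁻¹ = k * (k * j e z * k⁻¹) * k⁻¹ by group, kz, kzv]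
    obtain ⟨p, hp⟩ := exists_j e (cent_z D e hc)
    refine ⟨p, ?_, hp⟩
    have hc2 : k * k * j e v = j e v * (k * k) := by
      refine mul_inv_eq_iff_eq_mul.1 ?_
      rw [show k * k * j e v * (k * k)⁻¹ = k * (k * j e v * k⁻¹) * k⁻¹ by group, kv, kv]
    rw [← hp, ← map_mul, ← map_mul] at hc2
    have := congrArg Prod.fst (ji hc2)
    simpa [InM, v] using this
  have φk2 : φ k2 hk2M = k2 := ji (by rw [← hφ, hk2]; group)
  have φφ : ∀ p (hp : InM p), φ (φ p hp) (hφM p hp) = k2 * p * k2⁻¹ := fun p hp => ji (by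
    rw [← hφ, ← hφ, map_mul, map_mul, map_inv, hk2]; group)
  -- the group of order thirty-two
  have hkN : k ∈ normalizer ((Mg e : Subgroup G) : Set G) := by
    refine mem_normalizer_fintype ?_
    rintro _ ⟨p, hp, rfl⟩
    exact ⟨_, hφM p hp, (hφ p hp).symm⟩
  have hk2' : k * k ∈ Mg e := ⟨k2, hk2M, hk2⟩
  have hkM : k ∉ Mg e := fun ⟨p, _, hp⟩ => hkH (hp ▸ j_mem e p)
  obtain ⟨hLform, hLc⟩ := sup_form hkN hk2' hkM
  rw [card_Mg] at hLc
  set L := Mg e ⊔ zpowers k with hLdef
  have hL2 : IsPGroup 2 L := IsPGroup.of_card (n := 5) (by rw [hLc]; rfl)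
  -- the element `t`
  set t := φ w bw with ht
  have htM : InM t := hφM w bw
  have kw : k * j e w * k⁻¹ = j e t := hφ w bw
  have ht1 : t * t = 1 := by
    rw [ht, ← φmul bw bw (mm bw bw), φcongr (mm bw bw) M_one_mul.1 b5]
    exact φone
  have φwv : φ _ bwv = t * v := by rw [φmul bw bv bwv, φv]
  have kwv : k * j e (w * v) * k⁻¹ = j e (t * v) := (hφ _ bwv).trans (congrArg (j e) φwv)
  -- no element of the four group is conjugate to `z`
  have hz32 : ∀ u, InM u → (u = v ∨ u = w ∨ u = w * v) → ∀ g : G, g * j e z * g⁻¹ ≠ j e u := by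
    intro u hu huv g hg
    obtain ⟨h, hh⟩ : ∃ h : G, h * j e v * h⁻¹ = j e u := by
      obtain ⟨h0, h0v⟩ : ∃ p : P4, p * v * p⁻¹ = u := by
        rcases huv with rfl | rfl | rfl
        · exact ⟨1, by simp⟩
        · exact conj_class.1
        · exact conj_class.2.1
      exact ⟨j e h0, by rw [← map_inv, ← map_mul, ← map_mul, h0v]⟩
    have hconj : (h⁻¹ * g) * j e z * (h⁻¹ * g)⁻¹ = j e v := by
      rw [show (h⁻¹ * g) * j e z * (h⁻¹ * g)⁻¹ = h⁻¹ * (g * j e z * g⁻¹) * h by group, hg, ← hh]; group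
    set c := h⁻¹ * g
    have hin : ∀ a : G, a * j e v = j e v * a → a ∈ H.map (MulAut.conj c).toMonoidHom := by
      intro a ha
      rw [← hconj] at ha
      refine mem_map_equiv.2 (cent_z D e ?_)
      rw [MulAut.conj_symm_apply]
      calc c⁻¹ * a * c * j e z = c⁻¹ * (a * (c * j e z * c⁻¹)) * c := by group
        _ = c⁻¹ * ((c * j e z * c⁻¹) * a) * c := by rw [ha]
        _ = _ := by group
    have hLle : L ≤ H.map (MulAut.conj c).toMonoidHom := by
      refine sup_le ?_ ((zpowers_le).2 (hin k (mul_inv_eq_iff_eq_mul.1 kv)))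
      rintro _ ⟨p, hp, rfl⟩
      exact hin _ (by rw [← map_mul, ← map_mul, (M_conj p hp).2.1])
    have hdvd := card_dvd_of_le hLle
    rw [hLc, card_map_of_injective (MulAut.conj c).injective, card_H e] at hdvd
    norm_num at hdvd
  have hsign : Equiv.Perm.sign t.1 ≠ 1 := by
    have hno : ∀ g : G, g * j e z * g⁻¹ ≠ j e t := by
      intro g hg
      refine hz32 w bw (Or.inr (Or.inl rfl)) (k⁻¹ * g) ?_
      rw [show k⁻¹ * g * j e z * (k⁻¹ * g)⁻¹ = k⁻¹ * (g * j e z * g⁻¹) * k by group, hg, ← kw]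
      group
    have hconjz : ∀ {u}, (u = z * w ∨ u = z * w * v) → ∃ g : G, g * j e z * g⁻¹ = j e u := by
      intro u hu
      obtain ⟨h0, h0v⟩ : ∃ p : P4, p * (z * v) * p⁻¹ = u := by
        rcases hu with rfl | rfl
        · exact conj_class.2.2.1
        · exact conj_class.2.2.2
      refine ⟨j e h0 * k, ?_⟩
      rw [show j e h0 * k * j e z * (j e h0 * k)⁻¹ = j e h0 * (k * j e z * k⁻¹) * (j e h0)⁻¹ by group,
        kz, ← map_inv, ← map_mul, ← map_mul, h0v]
    have hfix : t = w ∨ t = w * v → False := by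
      intro htw
      refine hkH (mem_of_four D e fun u hu => ?_)
      rcases hu with rfl | rfl | rfl
      · exact ⟨v, Or.inl rfl, kv⟩
      · exact ⟨t, Or.inr htw, kw⟩
      · refine ⟨t * v, Or.inr ?_, kwv⟩
        rcases htw with h | h <;> rw [h]
        · exact Or.inr rfl
        · exact Or.inl (by rw [mul_assoc, b3, mul_one])
    rcases M_involutions t htM ht1 with h | h | h | h | h | h | h | h | h
    · exact absurd (φinj bw M_one_mul.1 (h.trans φone.symm)) b6
    · exact absurd (φinj bw bv (h.trans φv.symm)) b10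
    · exact absurd (show (1 : G) * j e z * 1⁻¹ = j e t by rw [h]; simp) (hno 1)
    · exact absurd (show k * j e z * k⁻¹ = j e t by rw [h]; exact kz) (hno k)
    · exact (hfix (Or.inl h)).elim
    · exact (hfix (Or.inr h)).elim
    · obtain ⟨g, hg⟩ := hconjz (u := t) (Or.inl h)
      exact absurd hg (hno g)
    · obtain ⟨g, hg⟩ := hconjz (u := t) (Or.inr h)
      exact absurd hg (hno g)
    · exact h
  obtain ⟨tw, wt2, tn1, tn2, tn3, tn4, tn5, tn6, tn7⟩ := t_facts t htM ht1 hsign
  obtain ⟨hrotc, r1, r2, r3, r4, r5, sw, r7, hDinv, hodd⟩ := rot_facts t htM ht1 hsign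
  obtain ⟨hDt, hlist⟩ := D_list t htM ht1 hsign
  set ε := t.2
  obtain ⟨d1, dv, dw, dz, dzv, dmul⟩ := D_subgroup ε
  have dM : ∀ {p}, InD ε p → InM p := fun h => h.1
  have φt : φ t htM = w ∨ φ t htM = w * v := by
    rw [show φ t htM = k2 * w * k2⁻¹ from φφ w bw]
    exact (M_conj k2 hk2M).2.2
  have btv := mm htM bv
  have φw' : ∀ {p} (hp : InM p), (p = w ∨ p = w * v) → φ p hp = t ∨ φ p hp = t * v := by
    rintro p hp (rfl | rfl)
    · exact Or.inl rfl
    · exact Or.inr φwv
  have φt' : ∀ {p} (hp : InM p), (p = t ∨ p = t * v) → φ p hp = w ∨ φ p hp = w * v := by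
    rintro p hp (rfl | rfl)
    · exact φt
    · rw [φmul htM bv btv, φv]
      rcases φt with h | h <;> rw [h]
      · exact Or.inr rfl
      · exact Or.inl (by rw [mul_assoc, b3, mul_one])
  have φD : ∀ p (hp : InM p), InD ε p → InD ε (φ p hp) := by
    have hmul : ∀ {p q} (hp : InM p) (hq : InM q), InD ε (φ p hp) → InD ε (φ q hq) →
        InD ε (φ _ (mm hp hq)) := fun hp hq h1 h2 => (φmul hp hq (mm hp hq)).symm ▸ (dmul _ _ h1 h2).1
    have iw : InD ε (φ w bw) := hDt
    have iv : InD ε (φ v bv) := φv.symm ▸ dv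
    have it : InD ε (φ t htM) := φt.elim (fun h => h.symm ▸ dw) fun h => h.symm ▸ (dmul _ _ dw dv).1
    intro p hp hpD
    rcases hlist p hpD with rfl | rfl | rfl | rfl | rfl | rfl | rfl | rfl
    · exact φone.symm ▸ d1
    · exact iv
    · exact iw
    · exact hmul bw bv iw iv
    · exact it
    · exact hmul htM bv it iv
    · exact hmul bw htM iw it
    · exact hmul (mm bw htM) bv (hmul bw htM iw it) iv
  -- `k * k` lies in the dihedral group
  have hk2D : InD ε k2 := by
    refine (D_split ε k2 hk2M).resolve_right fun hd => ?_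
    set d := z * k2 with hddef
    have hk2d : k2 = z * d := by rw [hddef, ← mul_assoc, b1, one_mul]
    have hdM := dM hd
    have hφd : φ d hdM = d * v := by
      rw [φcongr hdM (mm bz hk2M) hddef, φmul bz hk2M _, φz, φk2, hk2d, (M_v d hdM).1]
    have hne : d * v ≠ d := fun h => b4 (mul_eq_left.1 h)
    rcases hlist d hd with h | h | h | h | h | h | h | h
    · exact hne (hφd.symm.trans ((φcongr hdM M_one_mul.1 h).trans (φone.trans h.symm)))
    · exact hne (hφd.symm.trans ((φcongr hdM bv h).trans (φv.trans h.symm)))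
    · rcases φw' hdM (Or.inl h) with e' | e' <;> rw [hφd, h] at e'
      · exact tn2 e'.symm
      · exact tn1 (mul_right_cancel e').symm
    · rcases φw' hdM (Or.inr h) with e' | e' <;> rw [hφd, h, mul_assoc, b3, mul_one] at e'
      · exact tn1 e'.symm
      · exact tn3 e'.symm
    · rcases φt' hdM (Or.inl h) with e' | e' <;> rw [hφd, h] at e'
      · exact tn3 e'
      · exact tn1 (mul_right_cancel e')
    · rcases φt' hdM (Or.inr h) with e' | e' <;> rw [hφd, h, mul_assoc, b3, mul_one] at e'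
      · exact tn1 e'
      · exact tn2 e'
    · have hct : φ t htM = w * v := by
        rw [show φ t htM = k2 * w * k2⁻¹ from φφ w bw, hk2d]; exact hrotc d (Or.inl h)
      refine hne (hφd.symm.trans ?_)
      rw [φcongr hdM (mm bw htM) h, φmul bw htM _, hct, ← ht, r1, h]
    · have hct : φ t htM = w * v := by
        rw [show φ t htM = k2 * w * k2⁻¹ from φφ w bw, hk2d]; exact hrotc d (Or.inr h)
      refine hne (hφd.symm.trans ?_)
      rw [φcongr hdM (mm (mm bw htM) bv) h, φmul (mm bw htM) bv _, φmul bw htM _, hct, φv, ← ht, r1, h]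
  -- conjugation by an element outside `Mg`
  let ψ : ∀ p (hp : InM p) (q : P4) (hq : InM q), P4 := fun p hp q hq =>
    φ (p * q * p⁻¹) (mm (mm hp hq) (mi hp))
  have hψ : ∀ p (hp : InM p) q (hq : InM q),
      (k * j e p) * j e q * (k * j e p)⁻¹ = j e (ψ p hp q hq) := fun p hp q hq => by
    rw [← hφ, map_mul, map_mul, map_inv]; group
  have ψv : ∀ p hp, ψ p hp v bv = v := fun p hp => by
    simp only [ψ]
    rw [φcongr _ bv (by rw [(M_conj p hp).2.1, mul_inv_cancel_right]), φv]
  have ψz : ∀ p hp, ψ p hp z bz = z * v := fun p hp => by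
    simp only [ψ]
    rw [φcongr _ bz (by rw [(M_conj p hp).1, mul_inv_cancel_right]), φz]
  have ψw : ∀ p hp, ψ p hp w bw = t ∨ ψ p hp w bw = t * v := fun p hp => by
    simp only [ψ]
    exact φw' _ (M_conj p hp).2.2
  have ψmul : ∀ p hp {a b} (ha : InM a) (hb : InM b),
      ψ p hp (a * b) (mm ha hb) = ψ p hp a ha * ψ p hp b hb := fun p hp {a b} ha hb => ji (by
    rw [← hψ p hp _ (mm ha hb), map_mul, map_mul, ← hψ p hp a ha, ← hψ p hp b hb]; group)
  have ψsq : ∀ p hp, (k * j e p) * (k * j e p) = 1 → ∀ q (hq : InM q),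
      ψ p hp (ψ p hp q hq) (hφM _ _) = q := fun p hp h q hq => ji (by
    rw [← hψ p hp _ (hφM _ _), ← hψ p hp q hq, inv_eq_of_mul_eq_one_right h]
    generalize k * j e p = y at h ⊢
    rw [show y * (y * j e q * y) * y = (y * y) * j e q * (y * y) by group, h, one_mul, mul_one])
  -- a Sylow subgroup
  have h32 : 32 ∣ Nat.card G := (show 32 = Nat.card L by rw [hLc]) ▸ card_subgroup_dvd_card L
  have h64 : ¬ 64 ∣ Nat.card G := by
    intro h64
    obtain ⟨P, hP⟩ := hL2.exists_le_sylow
    have hlt : L < P := by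
      refine lt_of_le_of_ne hP fun h => ?_
      have h1 : 2 ^ 6 ∣ Nat.card P := P.pow_dvd_card_of_pow_dvd_card h64
      rw [← h, hLc] at h1
      norm_num at h1
    haveI : Group.IsNilpotent (P : Subgroup G) := P.isPGroup'.isNilpotent
    have hnc := Group.normalizerCondition_of_isNilpotent (G := (P : Subgroup G)) (L.subgroupOf P)
      (lt_top_iff_ne_top.2 fun h => hlt.ne (le_antisymm hP (subgroupOf_eq_top.1 h)))
    obtain ⟨⟨m, hmP⟩, hmN, hmL⟩ := SetLike.exists_of_lt hnc
    rw [mem_subgroupOf] at hmL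
    have hconj : ∀ x ∈ L, m * x * m⁻¹ ∈ L := fun x hx =>
      (mem_normalizer_iff.1 hmN ⟨x, hP hx⟩).1 hx
    have hML : Mg e ≤ L := le_sup_left
    have hcL : ∀ x ∈ L, x * j e z = j e z * x → x ∈ Mg e := by
      intro x hx hc
      rcases hLform x hx with h | ⟨n, hn, rfl⟩
      · exact h
      · exfalso
        obtain ⟨p, hp, rfl⟩ := hn
        exact hkH ((H.mul_mem_cancel_right (j_mem e p)).1 (cent_z D e hc))
    have hin : ∀ n : G, n ∈ H → (∀ x ∈ L, n * x * n⁻¹ ∈ L) → n ∈ Mg e := by
      intro n hn hnL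
      obtain ⟨q, rfl⟩ := exists_j e hn
      obtain ⟨r, hr, hrr⟩ := M_square
      have h1 : j e q * j e r * (j e q)⁻¹ ∈ Mg e := by
        refine hcL _ (hnL _ (hML ⟨r, hr, rfl⟩)) ?_
        rw [← map_inv, ← map_mul, ← map_mul, ← map_mul, ← map_mul]
        congr 1
        exact Prod.ext (by simp [z]) (mul_comm _ _)
      obtain ⟨r', hr', hre⟩ := h1
      rw [← map_inv, ← map_mul, ← map_mul] at hre
      have hre' := ji hre
      refine ⟨q, ?_, rfl⟩
      have e1 : q * v * q⁻¹ = r' * r' := by rw [hre', ← hrr]; group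
      rcases M_squares r' hr' with h | h <;> rw [h] at e1
      · exact absurd (conj_eq_one_iff.1 e1) b4
      · have := congrArg Prod.fst (mul_inv_eq_iff_eq_mul.1 e1)
        simpa [InM, v] using this
    set y := m * j e z * m⁻¹ with hy
    have hyL : y ∈ L := hconj _ (hML ⟨z, bz, rfl⟩)
    have hy1 : y * y = 1 := by
      rw [hy, conj_mul, ← map_mul, b1, map_one, mul_one, mul_inv_cancel]
    set A := (Mg e).map (MulAut.conj m).toMonoidHom with hA
    have hAc : Nat.card A = 16 := by rw [hA, card_map_of_injective (MulAut.conj m).injective, card_Mg]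
    have hAL : A ≤ L := by rintro _ ⟨x, hx, rfl⟩; exact hconj x (hML hx)
    have hAy : ∀ a ∈ A, a * y = y * a := by
      rintro _ ⟨_, ⟨p, hp, rfl⟩, rfl⟩
      change m * j e p * m⁻¹ * (m * j e z * m⁻¹) = m * j e z * m⁻¹ * (m * j e p * m⁻¹)
      rw [conj_mul, conj_mul, ← map_mul, ← map_mul, (M_conj p hp).1]
    have hidx : (A.subgroupOf L).index = 2 := by
      have h := (A.subgroupOf L).card_mul_index
      rw [Nat.card_congr (subgroupOfEquivOfLe hAL).toEquiv, hAc, hLc] at h
      omega
    have hAmul : ∀ a b, a ∈ L → b ∈ L → a * y ≠ y * a → b * y ≠ y * b → (a * b) * y = y * (a * b) := by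
      intro a b ha hb hay hby
      refine hAy _ ?_
      have h := mul_mem_iff_of_index_two hidx (a := ⟨a, ha⟩) (b := ⟨b, hb⟩)
      simp only [mem_subgroupOf, coe_mul] at h
      exact h.2 (iff_of_false (fun h' => hay (hAy a h')) (fun h' => hby (hAy b h')))
    rcases hLform y hyL with ⟨p, hp, hpy⟩ | ⟨_, ⟨p, hp, rfl⟩, hpy⟩
    · have hp1 : p * p = 1 := ji (by rw [map_mul, hpy, hy1, map_one])
      by_cases c1 : p = 1
      · rw [c1, map_one, hy, eq_comm, conj_eq_one_iff, ← map_one (j e)] at hpy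
        exact b2 (ji hpy)
      by_cases c2 : p = v
      · exact hz32 v bv (Or.inl rfl) m (by rw [← hy, ← hpy, c2])
      by_cases c3 : p = z
      · have hmH : m ∈ H := cent_z D e (mul_inv_eq_iff_eq_mul.1 (by rw [← hy, ← hpy, c3]))
        exact hmL (hML (hin m hmH hconj))
      by_cases c4 : p = z * v
      · have hkL : k ∈ L := mem_sup_right (mem_zpowers k)
        have hmH : k * m ∈ H := cent_z D e (mul_inv_eq_iff_eq_mul.1 (by
          rw [show k * m * j e z * (k * m)⁻¹ = k * y * k⁻¹ by rw [hy]; group, ← hpy, c4, kzv]))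
        have hkm := hin _ hmH fun x hx => by
          rw [show k * m * x * (k * m)⁻¹ = k * (m * x * m⁻¹) * k⁻¹ by group]
          exact mul_mem (mul_mem hkL (hconj x hx)) (inv_mem hkL)
        exact hmL ((L.mul_mem_cancel_left hkL).1 (hML hkm))
      obtain ⟨q, hq, hqp⟩ : ∃ q, InM q ∧ p * q ≠ q * p :=
        (((( M_noncentral p hp).resolve_left c1).resolve_left c2).resolve_left c3).resolve_left c4
      have hflip : Equiv.Perm.sign (φ p hp).1 ≠ Equiv.Perm.sign p.1 := by
        have sv : ∀ {x}, InM x → Equiv.Perm.sign (x * v).1 = Equiv.Perm.sign x.1 := fun hx => (M_v _ hx).2.1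
        have szv : ∀ {x}, InM x → Equiv.Perm.sign (z * v * x).1 = Equiv.Perm.sign x.1 :=
          fun hx => (M_v _ hx).2.2.1
        have sz : ∀ {x}, InM x → Equiv.Perm.sign (z * x).1 = Equiv.Perm.sign x.1 := fun hx => (M_v _ hx).2.2.2
        have swv : Equiv.Perm.sign (w * v).1 = 1 := (sv bw).trans sw
        rcases M_noncentral_involution p hp hp1 c1 c2 c3 c4 with ⟨hpl, hps⟩ | hps
        · rw [hps]
          rcases hpl with h | h | h | h
          · rcases φw' hp (Or.inl h) with e' | e' <;> rw [e']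
            · exact hsign
            · exact r7
          · rcases φw' hp (Or.inr h) with e' | e' <;> rw [e']
            · exact hsign
            · exact r7
          · rw [φcongr hp (mm bz bw) h, φmul bz bw _, φz, ← ht, szv htM]; exact hsign
          · rw [φcongr hp (mm (mm bz bw) bv) h, φmul (mm bz bw) bv _, φmul bz bw _, φz, φv, ← ht,
              sv (mm (mm bz bv) htM), szv htM]
            exact hsign
        · intro h
          apply hps
          rw [← h]
          rcases hodd p hp hps hp1 with h' | h' | h' | h'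
          · rcases φt' hp (Or.inl h') with e' | e' <;> rw [e']
            · exact sw
            · exact swv
          · rcases φt' hp (Or.inr h') with e' | e' <;> rw [e']
            · exact sw
            · exact swv
          · rw [φcongr hp (mm bz htM) h', φmul bz htM _, φz, szv (hφM t htM)]
            rcases φt with e' | e' <;> rw [e']
            · exact sw
            · exact swv
          · rw [φcongr hp (mm (mm bz htM) bv) h', φmul (mm bz htM) bv _, φmul bz htM _, φz, φv,
              sv (mm (mm bz bv) (hφM t htM)), szv (hφM t htM)]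
            rcases φt with e' | e' <;> rw [e']
            · exact sw
            · exact swv
      have hk' : ∀ r (hr : InM r), ψ r hr p hp ≠ p := by
        intro r hr h
        simp only [ψ] at h
        apply hflip
        rcases M_conj_any p hp r hr with e' | e'
        · rw [φcongr _ hp e'] at h
          rw [h]
        · rw [φcongr _ (mm hp bv) e', φmul hp bv _, φv] at h
          have := congrArg (fun x : P4 => Equiv.Perm.sign x.1) h
          rwa [(M_v _ (hφM p hp)).2.1] at this
      have hne : ∀ r (hr : InM r), k * j e r * y ≠ y * (k * j e r) := fun r hr h => by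
        rw [← hpy] at h
        exact hk' r hr (ji ((hψ r hr p hp).symm.trans (mul_inv_eq_iff_eq_mul.2 h)))
      have hk1 := hne 1 M_one_mul.1
      rw [map_one, mul_one] at hk1
      refine hne q hq (hAmul k (j e q) (mem_sup_right (mem_zpowers k)) (hML ⟨q, hq, rfl⟩) hk1 ?_)
      rw [← hpy, ← map_mul, ← map_mul]
      exact fun h => hqp (ji h).symm
    · have hy' : y = k * j e p := hpy
      have hcom : ∀ q (hq : InM q), j e q * y = y * j e q → ψ p hp q hq = q := fun q hq h => ji (by
        rw [← hψ p hp q hq, ← hy', mul_inv_eq_iff_eq_mul, h])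
      have hz' : j e z * y ≠ y * j e z := fun h => b4 (mul_eq_left.1 ((ψz p hp).symm.trans (hcom z bz h)))
      have hw' : j e w * y ≠ y * j e w := fun h => by
        have h1 := hcom w bw h
        rcases ψw p hp with e' | e' <;> rw [h1] at e'
        · exact tn1 e'.symm
        · exact tn3 e'.symm
      have h3 := hAmul (j e z) (j e w) (hML ⟨z, bz, rfl⟩) (hML ⟨w, bw, rfl⟩) hz' hw'
      rw [← map_mul] at h3
      have h4 := hcom _ (mm bz bw) h3
      rw [ψmul p hp bz bw, ψz p hp] at h4
      have := congrArg (fun x : P4 => Equiv.Perm.sign x.1) h4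
      rw [(M_v w bw).2.2.2, sw] at this
      rcases ψw p hp with e' | e' <;> rw [e'] at this
      · exact hsign ((M_v t htM).2.2.1 ▸ this)
      · exact r7 ((M_v _ btv).2.2.1 ▸ this)
  -- a maximal subgroup of the Sylow subgroup without conjugates of `z`
  let DG : Subgroup G :=
    { carrier := {g | ∃ p, InD ε p ∧ j e p = g}
      one_mem' := ⟨1, d1, map_one _⟩
      mul_mem' := by
        rintro _ _ ⟨p, hp, rfl⟩ ⟨q, hq, rfl⟩
        exact ⟨p * q, (dmul p q hp hq).1, map_mul _ p q⟩
      inv_mem' := by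
        rintro _ ⟨p, hp, rfl⟩
        exact ⟨p⁻¹, (dmul p p hp hp).2, map_inv _ p⟩ }
  have hDGc : Nat.card DG = 8 := by
    have h : Nat.card DG = Nat.card {p : P4 // InD ε p} := by
      refine (Nat.card_congr (Equiv.ofBijective (fun p : {p : P4 // InD ε p} =>
        (⟨j e p, p.1, p.2, rfl⟩ : DG)) ⟨fun a b h => Subtype.ext (ji (congrArg (fun x : DG => (x : G)) h)),
        fun g => ?_⟩)).symm
      obtain ⟨p, hp, hpg⟩ := g.2
      exact ⟨⟨p, hp⟩, Subtype.ext hpg⟩
    rw [h, Nat.card_eq_fintype_card, card_D]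
  obtain ⟨c, hc1, hc⟩ : ∃ c : P4, (c = 1 ∨ c = z) ∧
      ∀ p, InD ε p → (k * j e (c * p)) * (k * j e (c * p)) ≠ 1 := by
    by_cases h : ∃ p, InD ε p ∧ (k * j e p) * (k * j e p) = 1
    · refine ⟨z, Or.inr rfl, fun p hp hy => ?_⟩
      obtain ⟨p1, hp1, hy1⟩ := h
      obtain ⟨i1, i2, i3, i4, i5, i6, i7⟩ := inv_facts t htM ht1 hsign
      have hp1M := dM hp1
      have hpM := dM hp
      set d := p1⁻¹ * p with hd
      have hdD : InD ε d := (dmul _ _ (dmul _ _ hp1 hp1).2 hp).1
      have hdM := dM hdD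
      have hzp : k * j e (z * p) = k * j e p1 * j e (z * d) := by
        rw [mul_assoc, ← map_mul]
        congr 2
        rw [hd, ← mul_assoc, (M_conj p1 hp1M).1, mul_assoc, mul_inv_cancel_left]
      rw [hzp] at hy
      have h1 : ψ p1 hp1M (z * d) (mm bz hdM) = (z * d)⁻¹ := by
        refine ji ?_
        rw [← hψ p1 hp1M _ (mm bz hdM), map_inv, inv_eq_of_mul_eq_one_right hy1]
        generalize k * j e p1 = a at hy ⊢
        exact eq_inv_of_mul_eq_one_left (by rw [← hy]; group)
      rw [ψmul p1 hp1M bz hdM, ψz p1 hp1M, mul_inv_rev, inv_eq_of_mul_eq_one_right b1,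
        (M_conj _ (mi hdM)).1] at h1
      have h2 : ψ p1 hp1M d hdM = v * d⁻¹ := by
        have h3 := mul_left_cancel (by rwa [mul_assoc] at h1 : z * (v * ψ p1 hp1M d hdM) = z * d⁻¹)
        rw [← h3, ← mul_assoc, b3, one_mul]
      have ψone : ψ p1 hp1M 1 M_one_mul.1 = 1 := by
        simp only [ψ]; rw [φcongr _ M_one_mul.1 (by group), φone]
      have hψt : ∀ x, x = ψ p1 hp1M w bw → (x = t → ψ p1 hp1M t htM = w) ∧
          (x = t * v → ψ p1 hp1M t htM = w * v) := by
        intro x hx
        have h3 := ψsq p1 hp1M hy1 w bw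
        have hcg : ∀ {a b} (ha : InM a) (hb : InM b), a = b → ψ p1 hp1M a ha = ψ p1 hp1M b hb := by
          rintro a b _ _ rfl; rfl
        constructor <;> intro h
        · rwa [hcg (hφM _ _) htM (hx.symm.trans h)] at h3
        · rw [hcg (hφM _ _) btv (hx.symm.trans h), ψmul p1 hp1M htM bv, ψv p1 hp1M] at h3
          have h5 := congrArg (· * v) h3
          simpa [mul_assoc, b3] using h5
      have hcgd : ∀ {b} (hb : InM b), d = b → ψ p1 hp1M b hb = v * b⁻¹ := by
        rintro b hb rfl; exact h2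
      rcases hlist d hdD with h | h | h | h | h | h | h | h
      · have := hcgd M_one_mul.1 h
        rw [ψone, inv_one, mul_one] at this
        exact b4 this.symm
      · have := hcgd bv h
        rw [ψv p1 hp1M, mul_inv_cancel] at this
        exact b4 this
      · have := hcgd bw h
        rw [i1] at this
        rcases ψw p1 hp1M with e' | e' <;> rw [this] at e'
        · exact tn2 e'.symm
        · exact tn1 (mul_right_cancel e').symm
      · have := hcgd bwv h
        rw [i2, ψmul p1 hp1M bw bv, ψv p1 hp1M] at this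
        rcases ψw p1 hp1M with e' | e' <;> rw [e'] at this
        · exact tn3 this
        · exact tn1 (by rwa [mul_assoc, b3, mul_one] at this)
      · have := hcgd htM h
        rw [i3] at this
        rcases ψw p1 hp1M with e' | e'
        · rw [(hψt _ rfl).1 e'] at this; exact tn3 this.symm
        · rw [(hψt _ rfl).2 e'] at this; exact tn1 (mul_right_cancel this).symm
      · have := hcgd btv h
        rw [i4, ψmul p1 hp1M htM bv, ψv p1 hp1M] at this
        rcases ψw p1 hp1M with e' | e'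
        · rw [(hψt _ rfl).1 e'] at this; exact tn2 this.symm
        · rw [(hψt _ rfl).2 e', mul_assoc, b3, mul_one] at this; exact tn1 this.symm
      · have := hcgd (mm bw htM) h
        rw [i5, ψmul p1 hp1M bw htM] at this
        rcases ψw p1 hp1M with e' | e'
        · rw [(hψt _ rfl).1 e', e', tw] at this; exact r4 this
        · rw [(hψt _ rfl).2 e', e', i7, tw] at this; exact r4 this
      · have := hcgd (mm (mm bw htM) bv) h
        rw [i6, ψmul p1 hp1M (mm bw htM) bv, ψmul p1 hp1M bw htM, ψv p1 hp1M] at this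
        rcases ψw p1 hp1M with e' | e'
        · rw [(hψt _ rfl).1 e', e', tw, mul_assoc (w * t), b3, mul_one] at this; exact r4 this.symm
        · rw [(hψt _ rfl).2 e', e', i7, tw, mul_assoc (w * t), b3, mul_one] at this; exact r4 this.symm
    · push Not at h
      exact ⟨1, Or.inl rfl, fun p hp => by rw [one_mul]; exact h p hp⟩
  have hcM : InM c := hc1.elim (fun h => h ▸ M_one_mul.1) (fun h => h ▸ bz)
  set k' := k * j e c with hk'def
  have hk'H : k' ∉ H := fun h => hkH ((H.mul_mem_cancel_right (j_mem e c)).1 h)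
  have hk'D : k' ∉ DG := fun ⟨p, _, hp⟩ => hk'H (hp ▸ j_mem e p)
  have hk'N : k' ∈ normalizer (DG : Set G) := by
    refine mem_normalizer_fintype ?_
    rintro _ ⟨p, hp, rfl⟩
    refine ⟨_, φD p (dM hp) hp, ?_⟩
    rw [← hφ, hk'def, show k * j e c * j e p * (k * j e c)⁻¹ = k * (j e c * j e p * (j e c)⁻¹) * k⁻¹ by group,
      ← map_inv, ← map_mul, ← map_mul]
    congr 3
    rcases hc1 with rfl | rfl
    · group
    · rw [← (M_conj p (dM hp)).1, mul_inv_cancel_right]
  have hk'2 : k' * k' ∈ DG := by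
    rcases hc1 with rfl | rfl
    · exact ⟨k2, hk2D, by rw [hk'def, map_one, mul_one, hk2]⟩
    · refine ⟨k2 * v, (dmul _ _ hk2D dv).1, ?_⟩
      rw [hk'def, map_mul, hk2, show k * j e z * (k * j e z) = k * k * ((k⁻¹ * j e z * k) * j e z) by group]
      congr 1
      rw [show k⁻¹ * j e z * k = j e (z * v) by rw [← kzv]; group, ← map_mul]
      congr 1
      rw [(M_conj v bv).1.symm, mul_assoc, b1, mul_one]
  obtain ⟨hMform, hMc⟩ := sup_form hk'N hk'2 hk'D
  rw [hDGc] at hMc
  set M := DG ⊔ zpowers k' with hMdef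
  have hMLe : M ≤ L := by
    refine sup_le ?_ ((zpowers_le).2 (mul_mem (mem_sup_right (mem_zpowers k)) (mem_sup_left ⟨c, hcM, rfl⟩)))
    rintro _ ⟨p, hp, rfl⟩
    exact mem_sup_left ⟨p, dM hp, rfl⟩
  have hMrel : M.relIndex L = 2 := by
    have h := (M.subgroupOf L).card_mul_index
    rw [Nat.card_congr (subgroupOfEquivOfLe hMLe).toEquiv, hMc, hLc] at h
    rw [relIndex]
    omega
  have hLodd : Odd L.index := by
    rw [Nat.odd_iff]
    refine Nat.two_dvd_ne_zero.1 fun h => h64 ?_
    rw [← L.card_mul_index, hLc]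
    exact (show 2 * 16 * 2 = 64 from rfl) ▸ Nat.mul_dvd_mul_left (2 * 16) h
  have hz2 : orderOf (j e z) = 2 := orderOf_eq_prime (by rw [pow_two, ← map_mul, b1, map_one])
    fun h => b2 (ji (h.trans (map_one _).symm))
  obtain ⟨N, hN, hzN⟩ := Involutions.ThompsonTransfer.exists_index_two_of_no_conj M
    (Involutions.ThompsonTransfer.index_mod_four hMLe hMrel hLodd) (j e z) hz2 (by
      intro g hg
      have hsq : (g * j e z * g⁻¹) * (g * j e z * g⁻¹) = 1 := by
        rw [conj_mul, ← map_mul, b1, map_one, mul_one, mul_inv_cancel]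
      rcases hMform _ hg with ⟨p, hp, hpg⟩ | ⟨_, ⟨p, hp, rfl⟩, hpg⟩
      · have hp1 : p * p = 1 := ji (by rw [map_mul, hpg, hsq, map_one])
        rcases hDinv p hp hp1 with h | h | h | h | h | h
        · rw [h, map_one, eq_comm, conj_eq_one_iff, ← map_one (j e)] at hpg
          exact b2 (ji hpg)
        · exact hz32 v bv (Or.inl rfl) g (by rw [← hpg, h])
        · exact hz32 w bw (Or.inr (Or.inl rfl)) g (by rw [← hpg, h])
        · exact hz32 _ bwv (Or.inr (Or.inr rfl)) g (by rw [← hpg, h])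
        · refine hz32 w bw (Or.inr (Or.inl rfl)) (k⁻¹ * g) ?_
          rw [show k⁻¹ * g * j e z * (k⁻¹ * g)⁻¹ = k⁻¹ * (g * j e z * g⁻¹) * k by group, ← hpg, h, ← kw]
          group
        · refine hz32 _ bwv (Or.inr (Or.inr rfl)) (k⁻¹ * g) ?_
          rw [show k⁻¹ * g * j e z * (k⁻¹ * g)⁻¹ = k⁻¹ * (g * j e z * g⁻¹) * k by group, ← hpg, h, ← kwv]
          group
      · rw [hpg, hk'def, mul_assoc k (j e c), ← map_mul] at hsq
        exact hc p hp hsq)
  exact ⟨N, hN, hzN, h32, h64⟩

end Cfsg.Agent.Perm.CubicInsoluble.TwoTransfer
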